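/-
An additive group of bilinear maps, invariant under a symplectic group and containing a map
that is not a multiple of the form, contains a rank one or an alternating rank two pattern.
-/
import Cfsg.Agent.Lib.ClassicalMax.SympShort
set_option autoImplicit false
set_option linter.unusedSectionVars false

namespace CfsgLib.ClassicalMax.TWMax

open Matrix Cfsg.Geo

variable {F : Type*} [Field F] {ι : Type} [Fintype ι] [DecidableEq ι]
  {f : (ι → F) → (ι → F) → F} {A : Type*} [AddCommGroup A] [Module F A]

/-- The symmetric pattern at a vector. -/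
def sq (f : (ι → F) → (ι → F) → F) (e : ι → F) (b z : ι → F) : F := f b e * f z e

/-- The alternating pattern at two vectors. -/
def alt (f : (ι → F) → (ι → F) → F) (e r : ι → F) (b z : ι → F) : F :=
  f b e * f z r - f b r * f z e

/-- The bilinear map with the given pattern and value. -/
def pat (P : (ι → F) → (ι → F) → F) (c : A) : (ι → F) → (ι → F) → A := fun b z => P b z • c

/-- The products of two pairings sum to zero over the whole space. -/
lemma sum_pair_zero [Fintype F] (hq : 3 ≤ Fintype.card ι ∨ 3 ≤ Fintype.card F)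
    (hι : 2 ≤ Fintype.card ι) (φ ψ : ι → F) : ∑ w : ι → F, (φ ⬝ᵥ w) * (ψ ⬝ᵥ w) = 0 := by
  classical
  have h : ∀ i j : ι, ∑ w : ι → F, w i * w j = 0 := by
    intro i j
    have := MvPolynomial.sum_eval_eq_zero (K := F) (MvPolynomial.X i * MvPolynomial.X j) (by
      refine lt_of_le_of_lt (MvPolynomial.totalDegree_mul _ _) ?_
      rw [MvPolynomial.totalDegree_X, MvPolynomial.totalDegree_X]
      have hc := Fintype.one_lt_card (α := F)
      rcases hq with h3 | h3
      · calc 1 + 1 < 1 * 3 := by norm_num
          _ ≤ (Fintype.card F - 1) * Fintype.card ι := Nat.mul_le_mul (by omega) h3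
      · calc 1 + 1 < 2 * 2 := by norm_num
          _ ≤ (Fintype.card F - 1) * Fintype.card ι := Nat.mul_le_mul (by omega) hι)
    simpa using this
  simp only [dotProduct, Finset.sum_mul_sum]
  rw [Finset.sum_comm]
  refine Finset.sum_eq_zero fun i _ => ?_
  rw [Finset.sum_comm]
  refine Finset.sum_eq_zero fun j _ => ?_
  rw [show (fun w : ι → F => φ i * w i * (ψ j * w j)) = fun w => φ i * ψ j * (w i * w j) from
    funext fun w => by ring, ← Finset.mul_sum, h, mul_zero]

/-- Additive groups of bilinear maps invariant under the isometries. -/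
structure Inv (f : (ι → F) → (ι → F) → F) (G : AddSubgroup ((ι → F) → (ι → F) → A)) : Prop where
  hf : IsSymplecticForm f
  add₁ : ∀ β ∈ G, ∀ x y z, β (x + y) z = β x z + β y z
  smul₁ : ∀ β ∈ G, ∀ (c : F) x z, β (c • x) z = c • β x z
  add₂ : ∀ β ∈ G, ∀ x y z, β z (x + y) = β z x + β z y
  smul₂ : ∀ β ∈ G, ∀ (c : F) x z, β z (c • x) = c • β z x
  act : ∀ g ∈ isoOf f, ∀ β ∈ G,
    (fun b z => β ((g : Matrix ι ι F) *ᵥ b) ((g : Matrix ι ι F) *ᵥ z)) ∈ G

/-- What the sweep produces. -/
def Out (f : (ι → F) → (ι → F) → F) (G : AddSubgroup ((ι → F) → (ι → F) → A)) : Prop :=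
  ∃ c : A, c ≠ 0 ∧ ((∃ u, u ≠ 0 ∧ pat (sq f u) c ∈ G) ∨
    ∃ u v, LinearIndependent F ![u, v] ∧ f u v = 0 ∧ pat (alt f u v) c ∈ G)

variable [DecidableEq F] {G : AddSubgroup ((ι → F) → (ι → F) → A)}

section
variable (H : Inv f G)
include H

lemma Inv.sub_mem {g : GL ι F} (hg : g ∈ isoOf f) {β : (ι → F) → (ι → F) → A} (hβ : β ∈ G) :
    (fun b z => β ((g : Matrix ι ι F) *ᵥ b) ((g : Matrix ι ι F) *ᵥ z) - β b z) ∈ G :=
  G.sub_mem (H.act g hg β hβ) hβ

/-- The effect of a transvection. -/
lemma Inv.tv {β : (ι → F) → (ι → F) → A} (hβ : β ∈ G) (e : ι → F) :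
    (fun b z => f b e • β e z + f z e • β b e + (f b e * f z e) • β e e) ∈ G := by
  convert H.sub_mem (sTv_mem_isoOf H.hf e 1) hβ using 1
  funext b z
  simp only [sTv_mulVec H.hf, one_mul, H.add₁ β hβ, H.smul₁ β hβ, H.add₂ β hβ, H.smul₂ β hβ]
  module

/-- The effect of a shear. -/
lemma Inv.shear {β : (ι → F) → (ι → F) → A} (hβ : β ∈ G) {e d : ι → F} (hd : f d e = 0)
    (he₁ : ∀ z, β e z = 0) (he₂ : ∀ b, β b e = 0) :
    (fun b z => f b e • β d z + f z e • β b d + (f b e * f z e) • β d d) ∈ G := by
  convert H.sub_mem (sh_mem_isoOf H.hf d e 1) hβ using 1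
  funext b z
  simp only [sh_mulVec H.hf hd, one_mul, H.add₁ β hβ, H.smul₁ β hβ, H.add₂ β hβ, H.smul₂ β hβ,
    he₁, he₂]
  module

/-- A map given by a scalar, one vector and an antisymmetric pair of functionals. -/
lemma fin [Fintype F] (hq : 3 ≤ Fintype.card ι ∨ 3 ≤ Fintype.card F)
    (hι : 2 ≤ Fintype.card ι) {e w : ι → F} (hew : f e w = 1) {β : (ι → F) → (ι → F) → A}
    (hβ : β ∈ G) (a : A) (hns : ∀ c : A, β ≠ pat f c) (γ : (ι → F) → (ι → F) → A)
    (hγ : ∀ b z, γ b z = β b z - f b z • a) (he₁ : ∀ z, γ e z = 0) (he₂ : ∀ b, γ b e = 0)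
    (hmid : ∀ b z, f b e = 0 → f z e = 0 → γ b z = 0)
    (hanti : ∀ d, f d e = 0 → γ w d = -γ d w) : Out f G := by
  have hb := H.hf.bilinear
  have hwe : f w e = -1 := by rw [H.hf.skew, hew]
  have hdec : ∀ b z, γ b z = f b e • γ (z + f z e • w) w - f z e • γ (b + f b e • w) w
      + (f b e * f z e) • γ w w := by
    intro b z
    have h0 : ∀ x, f (x + f x e • w) e = 0 := fun x => by
      rw [hb.add_left, hb.smul_left, hwe]; ring
    have h1 := hmid _ _ (h0 b) (h0 z)
    have h2 := hanti _ (h0 z)
    simp only [hγ, H.add₁ β hβ, H.add₂ β hβ, H.smul₁ β hβ, H.smul₂ β hβ, hb.add_left, hb.add_right,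
      hb.smul_left, hb.smul_right, H.hf.alternating] at h1 h2 ⊢
    linear_combination (norm := module) h1 - f b e • h2
  by_cases hr : ∃ r, f r e = 0 ∧ γ r w ≠ 0
  · obtain ⟨r, hre, hrw⟩ := hr
    have hr0 : r ≠ 0 := by
      rintro rfl
      exact hrw (by rw [hγ, ← zero_smul F w, H.smul₁ β hβ, zero_smul, zero_smul, form_zero_left hb,
        zero_smul, sub_zero])
    refine ⟨γ r w, hrw, Or.inr ⟨e, r, ?_, by rw [H.hf.skew, hre, neg_zero], ?_⟩⟩
    · rw [LinearIndependent.pair_iff]
      intro s t hst
      have ht : t = 0 := by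
        by_contra ht
        apply hrw
        have h1 : r = (-(t⁻¹ * s)) • e := by
          calc r = t⁻¹ • (s • e + t • r) + (-(t⁻¹ * s)) • e := by
                  rw [smul_add, smul_smul, smul_smul, inv_mul_cancel₀ ht]; module
            _ = _ := by rw [hst, smul_zero, zero_add]
        have h2 : γ e w = 0 := he₁ w
        rw [hγ] at h2 ⊢
        rw [h1, H.smul₁ β hβ, hb.smul_left, mul_smul, ← smul_sub, h2, smul_zero]
      subst ht
      rw [zero_smul, add_zero] at hst
      refine ⟨(smul_eq_zero.1 hst).resolve_right fun h => ?_, rfl⟩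
      rw [h, form_zero_left hb] at hew
      exact zero_ne_one hew
    · convert H.sub_mem (sTv_mem_isoOf H.hf r 1) hβ using 1
      funext b z
      simp only [sTv_mulVec H.hf, one_mul]
      have hiso := mem_isoOf.1 (sTv_mem_isoOf H.hf r 1) b z
      simp only [sTv_mulVec H.hf, one_mul] at hiso
      have hb1 := hdec (b + f b r • r) (z + f z r • r)
      have hb2 := hdec b z
      simp only [hγ, hiso, hb.add_left, hb.smul_left, hre, mul_zero, add_zero] at hb1 hb2
      simp only [pat, alt, hγ]
      simp only [H.add₁ β hβ, H.add₂ β hβ, H.smul₁ β hβ, H.smul₂ β hβ, hb.add_left, hb.smul_left,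
        hre] at hb1 hb2 ⊢
      linear_combination (norm := module) hb2 - hb1
  · push Not at hr
    have hform : ∀ b z, β b z = f b z • a + sq f e b z • γ w w := by
      intro b z
      have h0 : ∀ x, f (x + f x e • w) e = 0 := fun x => by
        rw [hb.add_left, hb.smul_left, hwe]; ring
      have := hdec b z
      rw [hr _ (h0 b), hr _ (h0 z), hγ] at this
      simp only [sq]
      linear_combination (norm := module) this
    set μ := γ w w with hμdef
    have hμ : μ ≠ 0 := fun h0 => hns a (funext fun b => funext fun z => by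
      rw [hform, h0, smul_zero, add_zero]; rfl)
    have he0 : e ≠ 0 := fun h => zero_ne_one (α := F) (by rw [← hew, h, form_zero_left hb])
    refine ⟨μ, hμ, Or.inl ⟨e, he0, ?_⟩⟩
    have hdiff : ∀ v : ι → F, v ≠ 0 → pat (sq f v) μ - pat (sq f e) μ ∈ G := by
      intro v hv
      obtain ⟨t, ht, hte⟩ := exists_iso_mulVec H.hf he0 hv
      have hti : t ∈ isoOf f :=
        (Subgroup.closure_le _).2 (by rintro _ ⟨x, c, rfl⟩; exact sTv_mem_isoOf H.hf x c) ht
      convert H.sub_mem ((isoOf f).inv_mem hti) hβ using 1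
      funext b z
      simp only [Pi.sub_apply, pat, hform, sq]
      rw [mem_isoOf.1 ((isoOf f).inv_mem hti), form_mulVec_left ((isoOf f).inv_mem hti),
        form_mulVec_left ((isoOf f).inv_mem hti), inv_inv, hte]
      module
    have hsum : ∑ v ∈ Finset.univ.filter (fun v : ι → F => v ≠ 0),
        (pat (sq f v) μ - pat (sq f e) μ) = pat (sq f e) μ := by
      funext b z
      have h1 : ∑ v : ι → F, sq f v b z = 0 := by
        obtain ⟨φ, hφ⟩ : ∃ φ : ι → F, ∀ v, f b v = φ ⬝ᵥ v :=
          ⟨fun j => f b (Pi.single j 1), fun v => by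
            conv_lhs => rw [pi_eq_sum_univ v, ← bilinOf_apply hb, map_sum]
            refine Finset.sum_congr rfl fun j _ => ?_
            rw [map_smul, bilinOf_apply, smul_eq_mul, mul_comm]
            congr 2
            funext k
            simp [Pi.single_apply, eq_comm]⟩
        obtain ⟨ψ, hψ⟩ : ∃ ψ : ι → F, ∀ v, f z v = ψ ⬝ᵥ v :=
          ⟨fun j => f z (Pi.single j 1), fun v => by
            conv_lhs => rw [pi_eq_sum_univ v, ← bilinOf_apply hb, map_sum]
            refine Finset.sum_congr rfl fun j _ => ?_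
            rw [map_smul, bilinOf_apply, smul_eq_mul, mul_comm]
            congr 2
            funext k
            simp [Pi.single_apply, eq_comm]⟩
        simp only [sq, hφ, hψ]
        exact sum_pair_zero hq hι φ ψ
      have h2 : ∑ v ∈ Finset.univ.filter (fun v : ι → F => v ≠ 0), sq f v b z = 0 := by
        rw [Finset.sum_filter_of_ne, h1]
        intro v _ hv h0
        rw [h0] at hv
        exact hv (by simp [sq, form_zero_right hb])
      have hcard : (((Finset.univ.filter fun v : ι → F => v ≠ 0).card : ℕ) : F) = -1 := by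
        rw [Finset.filter_ne', Finset.card_erase_of_mem (Finset.mem_univ _), Finset.card_univ,
          Nat.cast_sub Fintype.card_pos, Fintype.card_fun, Nat.cast_pow, FiniteField.cast_card_eq_zero,
          zero_pow (by omega), Nat.cast_one, zero_sub]
      simp only [Finset.sum_apply, Pi.sub_apply, pat]
      rw [Finset.sum_sub_distrib, Finset.sum_const, ← Finset.sum_smul, h2, zero_smul,
        ← Nat.cast_smul_eq_nsmul F, hcard]
      module
    exact hsum ▸ G.sum_mem fun v hv => hdiff v (Finset.mem_filter.1 hv).2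

/-- The sweep. -/
theorem sweep [Fintype F] (hq : 3 ≤ Fintype.card ι ∨ 3 ≤ Fintype.card F)
    (h24 : (2 : F) ≠ 0 ∨ 3 ≤ Fintype.card ι) {e w : ι → F} (hew : f e w = 1)
    (hι : 2 ≤ Fintype.card ι) {β : (ι → F) → (ι → F) → A} (hβ : β ∈ G)
    (hns : ∀ c : A, β ≠ pat f c) : Out f G := by
  have hb := H.hf.bilinear
  have he0 : e ≠ 0 := fun h => zero_ne_one (α := F) (by rw [← hew, h, form_zero_left hb])
  have hwe : f w e = -1 := by rw [H.hf.skew, hew]
  have hee : f e e = 0 := H.hf.alternating e
  -- first make the map invariant under the transvection at `e`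
  have h1 : Out f G ∨ ∃ β' ∈ G, (∀ c : A, β' ≠ pat f c) ∧
      ∀ b z, f b e • β' e z + f z e • β' b e + (f b e * f z e) • β' e e = 0 := by
    by_cases h2 : (2 : F) • β e e = 0
    · by_cases h0 : ∀ b z, f b e • β e z + f z e • β b e + (f b e * f z e) • β e e = 0
      · exact Or.inr ⟨β, hβ, hns, h0⟩
      refine Or.inr ⟨_, H.tv hβ e, fun c hc => h0 fun b z => ?_, fun b z => ?_⟩
      · have hc0 : c = 0 := by
          rcases h24 with h | h
          · have h3 : β e e = 0 := (smul_eq_zero.1 h2).resolve_left h
            have := congrFun (congrFun hc e) w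
            simpa [pat, hew, hwe, hee, h3] using this.symm
          · obtain ⟨r, hr, hrn⟩ := exists_orth_extend hb ![e] (by omega)
            obtain ⟨r', hr'⟩ := exists_pairing H.hf (v := ![e, r]) (by
              rw [LinearIndependent.pair_iff' he0]
              exact fun a ha => hrn (Submodule.mem_span_singleton.2 ⟨a, ha⟩ |> fun h => by simpa using h))
              ![0, 1]
            have h4 : f r e = 0 := by rw [H.hf.skew, show f e r = 0 from hr 0, neg_zero]
            have h5 : f r' e = 0 := by rw [H.hf.skew, show f e r' = 0 from hr' 0, neg_zero]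
            have := congrFun (congrFun hc r) r'
            simpa [pat, h4, h5, show f r r' = 1 from hr' 1] using this.symm
        have := congrFun (congrFun hc b) z
        simpa [pat, hc0] using this
      · simp only [hee]
        linear_combination (norm := module) (f b e * f z e) • h2
    · refine Or.inl ⟨(2 : F) • β e e, h2, Or.inl ⟨e, he0, ?_⟩⟩
      convert H.tv (H.tv hβ e) e using 1
      funext b z
      simp only [pat, sq, hee]
      module
  rcases h1 with h | ⟨β', hβ', hns', hinv⟩
  · exact h
  clear hns hβ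
  -- the contractions against `e`
  set a := β' e w with hadef
  have hee' : β' e e = 0 := by simpa [hee, hwe] using hinv e w
  have hr : ∀ b, β' b e = f b e • a := fun b => by
    have := hinv b w
    rw [hwe, hee', smul_zero, add_zero] at this
    linear_combination (norm := module) -this
  have hl : ∀ z, β' e z = f e z • a := fun z => by
    have := hinv w z
    rw [hwe, hee', smul_zero, add_zero, hr, hwe] at this
    rw [H.hf.skew e z]
    linear_combination (norm := module) -this
  let γ : (ι → F) → (ι → F) → A := fun b z => β' b z - f b z • a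
  have hT : ∀ d, f d e = 0 →
      (fun b z => f b e • γ d z + f z e • γ b d + (f b e * f z e) • γ d d) ∈ G := by
    intro d hd
    convert H.sub_mem (sh_mem_isoOf H.hf d e 1) hβ' using 1
    funext b z
    simp only [γ, sh_mulVec H.hf hd, one_mul, H.add₁ β' hβ', H.smul₁ β' hβ', H.add₂ β' hβ',
      H.smul₂ β' hβ', hl, hr, H.hf.alternating, H.hf.skew b d, H.hf.skew z d]
    simp only [H.hf.skew d z, H.hf.skew e d, H.hf.skew e z, hd, hee, hb.add_left, hb.smul_left]
    module
  by_cases hA : ∀ d, f d e = 0 → ∀ b z,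
      f b e • γ d z + f z e • γ b d + (f b e * f z e) • γ d d = 0
  · have hmid : ∀ b z, f b e = 0 → f z e = 0 → γ b z = 0 := fun b z hb' hz => by
      have := hA z hz b w
      rw [hb', hwe, zero_mul, zero_smul, zero_smul] at this
      linear_combination (norm := module) -this
    refine fin H hq hι hew hβ' a hns' γ (fun _ _ => rfl) (fun z => by simp [γ, hl])
      (fun b => by simp [γ, hr]) hmid fun d hd => ?_
    have := hA d hd w w
    rw [hwe, hmid d d hd hd, smul_zero] at this
    linear_combination (norm := module) -this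
  push Not at hA
  obtain ⟨d, hd, b₀, z₀, hne⟩ := hA
  set T : (ι → F) → (ι → F) → A :=
    fun b z => f b e • γ d z + f z e • γ b d + (f b e * f z e) • γ d d
  have hTG : T ∈ G := hT d hd
  have hTe₁ : ∀ z, T e z = 0 := fun z => by
    simp only [T, γ, hee, hl, H.hf.skew e d, hd]
    module
  have hTe₂ : ∀ b, T b e = 0 := fun b => by
    simp only [T, γ, hee, hr, hd]
    module
  have hTmid : ∀ b z, f b e = 0 → f z e = 0 → T b z = 0 := fun b z hb' hz => by
    simp [T, hb', hz]
  have hTns : ∀ c : A, T ≠ pat f c := fun c hc => hne (by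
    have h0 : c = 0 := by
      have := congrFun (congrFun hc e) w
      simpa [pat, hew, hTe₁] using this.symm
    have := congrFun (congrFun hc b₀) z₀
    simpa [T, pat, h0] using this)
  by_cases hB : ∀ d', f d' e = 0 → T w d' = -T d' w
  · exact fin H hq hι hew hTG 0 hTns T (fun b z => by rw [smul_zero, sub_zero]) hTe₁ hTe₂ hTmid hB
  push Not at hB
  obtain ⟨d', hd', hne'⟩ := hB
  refine ⟨-(T w d' + T d' w), fun h0 => hne' ?_, Or.inl ⟨e, he0, ?_⟩⟩
  · linear_combination (norm := module) -h0
  · convert H.shear hTG hd' hTe₁ hTe₂ using 1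
    funext b z
    have h0 : ∀ x, f (x + f x e • w) e = 0 := fun x => by
      rw [hb.add_left, hb.smul_left, hwe]; ring
    have hz := hTmid d' _ hd' (h0 z)
    have hb' := hTmid _ d' (h0 b) hd'
    rw [H.add₂ T hTG, H.smul₂ T hTG] at hz
    rw [H.add₁ T hTG, H.smul₁ T hTG] at hb'
    simp only [pat, sq, hTmid d' d' hd' hd', smul_zero, add_zero]
    linear_combination (norm := module) -(f b e) • hz - f z e • hb'

end

end CfsgLib.ClassicalMax.TWMax
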