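/-
Contractions of an algebra along an embedded matrix algebra, and the sweep in that language.
-/
import Cfsg.Agent.Lib.ClassicalMax.TWMax.Sweep
set_option autoImplicit false
set_option linter.unusedSectionVars false

namespace CfsgLib.ClassicalMax.TWMax

open Matrix Cfsg.Geo

variable {F : Type*} [Field F] {ι : Type} [Fintype ι] [DecidableEq ι]
  {f : (ι → F) → (ι → F) → F} {A : Type*} [Ring A] [Algebra F A]

/-- The rank one endomorphism `z ↦ f z b • a`. -/
def op (f : (ι → F) → (ι → F) → F) (a b : ι → F) : Matrix ι ι F := vecMulVec a (formDual f b)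

lemma op_mulVec (hb : IsBilinearForm f) (a b z : ι → F) : op f a b *ᵥ z = f z b • a := by
  rw [op, vecMulVec_mulVec, formDual_dot hb]
  simp

lemma op_mul (hb : IsBilinearForm f) (a b c d : ι → F) :
    op f a b * op f c d = f c b • op f a d := by
  rw [op, op, op, vecMulVec_mul_vecMulVec, formDual_dot hb, vecMulVec_smul]

lemma op_add_left (a a' b : ι → F) : op f (a + a') b = op f a b + op f a' b := add_vecMulVec ..

lemma op_smul_left (c : F) (a b : ι → F) : op f (c • a) b = c • op f a b := smul_vecMulVec ..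

lemma op_add_right (hb : IsBilinearForm f) (a b b' : ι → F) :
    op f a (b + b') = op f a b + op f a b' := by
  rw [op, formDual_add hb, vecMulVec_add]; rfl

lemma op_smul_right (hb : IsBilinearForm f) (c : F) (a b : ι → F) :
    op f a (c • b) = c • op f a b := by
  rw [op, formDual_smul hb, vecMulVec_smul]; rfl

lemma op_ne_zero (hf : IsSymplecticForm f) {a b : ι → F} (ha : a ≠ 0) (hb : b ≠ 0) :
    op f a b ≠ 0 := fun h => by
  obtain ⟨x, hx⟩ := (hf.nondegenerate b hb).1
  have := congrArg (fun X => X *ᵥ x) h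
  simp only [op_mulVec hf.bilinear, zero_mulVec, smul_eq_zero] at this
  exact this.elim hx ha

/-- The rank one symmetric type. -/
def IsA (f : (ι → F) → (ι → F) → F) (X : Matrix ι ι F) : Prop := ∃ u, u ≠ 0 ∧ X = op f u u

/-- The rank two alternating type. -/
def IsB (f : (ι → F) → (ι → F) → F) (X : Matrix ι ι F) : Prop :=
  ∃ u v, LinearIndependent F ![u, v] ∧ f u v = 0 ∧ X = op f u v - op f v u

variable (φ : Matrix ι ι F →ₐ[F] A)

/-- Commutation with the embedded matrix algebra. -/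
def Cm (S : A) : Prop := ∀ X, Commute (φ X) S

variable {φ}

lemma Cm.algebraMap (φ : Matrix ι ι F →ₐ[F] A) (c : F) : Cm φ (algebraMap F A c) :=
  fun X => (Algebra.commutes c (φ X)).symm

lemma Cm.add {S T : A} (hS : Cm φ S) (hT : Cm φ T) : Cm φ (S + T) := fun X => (hS X).add_right (hT X)

lemma Cm.sub {S T : A} (hS : Cm φ S) (hT : Cm φ T) : Cm φ (S - T) := fun X => (hS X).sub_right (hT X)

lemma Cm.neg {S : A} (hS : Cm φ S) : Cm φ (-S) := fun X => (hS X).neg_right

lemma Cm.mul {S T : A} (hS : Cm φ S) (hT : Cm φ T) : Cm φ (S * T) := fun X => (hS X).mul_right (hT X)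

lemma Cm.smul {S : A} (hS : Cm φ S) (c : F) : Cm φ (c • S) := fun X => (hS X).smul_right c

lemma Cm.one : Cm φ (1 : A) := fun X => Commute.one_right _

variable (φ)

/-- The contraction of an element along a row and a column. -/
def cE (S : A) (η z : ι → F) : A :=
  ∑ l, φ (vecMulVec (Pi.single l 1) η) * S * φ (vecMulVec z (Pi.single l 1))

/-- The contraction in form language. -/
def beta (f : (ι → F) → (ι → F) → F) (S : A) (b z : ι → F) : A := cE φ S (formDual f b) z

lemma vec_sum (v : ι → F) : ∑ l, v l • (Pi.single l 1 : ι → F) = v := by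
  funext j
  simp [Finset.sum_apply, Pi.single_apply]

lemma one_eq_sum : (1 : Matrix ι ι F) = ∑ l, vecMulVec (Pi.single l 1) (Pi.single l 1) := by
  ext i j
  simp [Matrix.sum_apply, vecMulVec_apply, Pi.single_apply, Matrix.one_apply, eq_comm]

lemma mul_cE (S : A) (u v η z : ι → F) :
    φ (vecMulVec u v) * cE φ S η z = φ (vecMulVec u η) * S * φ (vecMulVec z v) := by
  rw [cE, Finset.mul_sum]
  simp only [← mul_assoc, ← map_mul, vecMulVec_mul_vecMulVec, dotProduct_single, mul_one,
    vecMulVec_smul, map_smul, smul_mul_assoc]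
  simp only [mul_assoc, ← mul_smul_comm, ← Finset.mul_sum, ← map_smul, ← vecMulVec_smul, ← map_sum]
  congr 3
  conv_rhs => rw [← vec_sum v]
  ext i j
  simp [Matrix.sum_apply, vecMulVec_apply, Finset.mul_sum]
  exact Finset.sum_congr rfl fun _ _ => by ring

lemma cE_mul (S : A) (u v η z : ι → F) :
    cE φ S η z * φ (vecMulVec u v) = φ (vecMulVec u η) * S * φ (vecMulVec z v) := by
  rw [cE, Finset.sum_mul]
  simp only [mul_assoc, ← map_mul, vecMulVec_mul_vecMulVec, single_dotProduct, one_mul,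
    vecMulVec_smul, map_smul, mul_smul_comm]
  simp only [← smul_mul_assoc, ← Finset.sum_mul, ← map_smul, ← smul_vecMulVec, ← map_sum]
  congr 2
  conv_rhs => rw [← vec_sum u]
  ext i j
  simp [Matrix.sum_apply, vecMulVec_apply, Finset.sum_mul]
  exact Finset.sum_congr rfl fun _ _ => by ring

lemma mat_sum (X : Matrix ι ι F) :
    X = ∑ i, ∑ j, X i j • vecMulVec (Pi.single i 1) (Pi.single j 1) := by
  ext a b
  simp [Matrix.sum_apply, vecMulVec_apply, Pi.single_apply, eq_comm]

lemma cm_cE (S : A) (η z : ι → F) : Cm φ (cE φ S η z) := by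
  intro X
  rw [mat_sum X, map_sum]
  refine Commute.sum_left _ _ _ fun i _ => ?_
  rw [map_sum]
  refine Commute.sum_left _ _ _ fun j _ => ?_
  rw [map_smul]
  refine Commute.smul_left ?_ _
  exact (mul_cE φ S _ _ η z).trans (cE_mul φ S _ _ η z).symm

lemma cm_beta (S : A) (b z : ι → F) : Cm φ (beta φ f S b z) := cm_cE φ S _ _

lemma commute_cE {P S : A} (hP : Cm φ P) (hS : Commute P S) (η z : ι → F) :
    Commute P (cE φ S η z) :=
  Commute.sum_right _ _ _ fun l _ => (((hP _).symm).mul_right hS).mul_right (hP _).symm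

lemma commute_beta {P S : A} (hP : Cm φ P) (hS : Commute P S) (b z : ι → F) :
    Commute P (beta φ f S b z) := commute_cE φ hP hS _ _

/-- An element is determined by its contractions. -/
lemma cE_ext {S S' : A} (h : ∀ p q : ι, cE φ S (Pi.single p 1) (Pi.single q 1) =
    cE φ S' (Pi.single p 1) (Pi.single q 1)) : S = S' := by
  have key : ∀ T : A, T = ∑ p, ∑ q, φ (vecMulVec (Pi.single p 1) (Pi.single q 1)) *
      cE φ T (Pi.single p 1) (Pi.single q 1) := by
    intro T
    simp only [mul_cE, ← Finset.mul_sum, ← map_sum]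
    simp only [← one_eq_sum, map_one, mul_one, ← Finset.sum_mul, ← map_sum, one_mul]
  rw [key S, key S']
  simp only [h]

lemma cE_add_left (S : A) (η η' z : ι → F) : cE φ S (η + η') z = cE φ S η z + cE φ S η' z := by
  simp only [cE, vecMulVec_add, map_add, add_mul, Finset.sum_add_distrib]

lemma cE_smul_left (S : A) (c : F) (η z : ι → F) : cE φ S (c • η) z = c • cE φ S η z := by
  simp only [cE, vecMulVec_smul, map_smul, smul_mul_assoc, Finset.smul_sum]

lemma cE_add_right (S : A) (η z z' : ι → F) : cE φ S η (z + z') = cE φ S η z + cE φ S η z' := by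
  simp only [cE, add_vecMulVec, map_add, mul_add, Finset.sum_add_distrib]

lemma cE_smul_right (S : A) (c : F) (η z : ι → F) : cE φ S η (c • z) = c • cE φ S η z := by
  simp only [cE, smul_vecMulVec, map_smul, mul_smul_comm, Finset.smul_sum]

lemma cE_add (S T : A) (η z : ι → F) : cE φ (S + T) η z = cE φ S η z + cE φ T η z := by
  simp only [cE, mul_add, add_mul, Finset.sum_add_distrib]

lemma cE_neg (S : A) (η z : ι → F) : cE φ (-S) η z = -cE φ S η z := by
  simp only [cE, mul_neg, neg_mul, Finset.sum_neg_distrib]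

lemma cE_sub (S T : A) (η z : ι → F) : cE φ (S - T) η z = cE φ S η z - cE φ T η z := by
  rw [sub_eq_add_neg, cE_add, cE_neg, sub_eq_add_neg]

lemma cE_zero (η z : ι → F) : cE φ (0 : A) η z = 0 := by
  simp [cE]

lemma cE_sandwich (X Y : Matrix ι ι F) (S : A) (η z : ι → F) :
    cE φ (φ X * S * φ Y) η z = cE φ S (η ᵥ* X) (Y *ᵥ z) := by
  simp only [cE, ← mul_assoc, ← map_mul, vecMulVec_mul]
  refine Finset.sum_congr rfl fun l _ => ?_
  rw [mul_assoc, ← map_mul, mul_vecMulVec]

lemma cE_one (η z : ι → F) : cE φ (1 : A) η z = (η ⬝ᵥ z) • (1 : A) := by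
  simp only [cE, mul_one, ← map_mul, vecMulVec_mul_vecMulVec, vecMulVec_smul, map_smul,
    ← Finset.smul_sum, ← map_sum, ← one_eq_sum, map_one]

lemma cE_of_cm {c : A} (hc : Cm φ c) (X : Matrix ι ι F) (η z : ι → F) :
    cE φ (φ X * c) η z = (η ⬝ᵥ X *ᵥ z) • c := by
  simp only [cE, ← mul_assoc, ← map_mul, vecMulVec_mul]
  simp only [mul_assoc, ← (hc _).eq]
  simp only [← mul_assoc, ← map_mul, vecMulVec_mul_vecMulVec, vecMulVec_smul, map_smul,
    smul_mul_assoc, ← Finset.smul_sum, ← Finset.sum_mul, ← map_sum, ← one_eq_sum, map_one, one_mul,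
    ← dotProduct_mulVec]

lemma cm_eq_zero {c : A} (hc : Cm φ c) {X : Matrix ι ι F} (hX : X ≠ 0) (h : φ X * c = 0) :
    c = 0 := by
  obtain ⟨p, q, hpq⟩ : ∃ p q, X p q ≠ 0 := by
    by_contra! hn
    exact hX (Matrix.ext hn)
  have := cE_of_cm φ hc X (Pi.single p 1) (Pi.single q 1)
  rw [h, cE_zero, mulVec_single_one, single_dotProduct, one_mul] at this
  exact (smul_eq_zero.1 this.symm).resolve_left hpq

/-- Conjugation by the embedded unit. -/
def cj (g : GL ι F) (S : A) : A :=
  φ (g : Matrix ι ι F) * S * φ ((g⁻¹ : GL ι F) : Matrix ι ι F)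

/-- The image of a group of elements under contraction. -/
def betaHom (f : (ι → F) → (ι → F) → F) : A →+ ((ι → F) → (ι → F) → A) where
  toFun := beta φ f
  map_zero' := funext fun _ => funext fun _ => cE_zero φ _ _
  map_add' _ _ := funext fun _ => funext fun _ => cE_add φ _ _ _ _

section
variable (hf : IsSymplecticForm f)
include hf

lemma formDual_vecMul {g : GL ι F} (hg : g ∈ isoOf f) (b : ι → F) :
    formDual f b ᵥ* (g : Matrix ι ι F) = formDual f (((g⁻¹ : GL ι F) : Matrix ι ι F) *ᵥ b) := by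
  funext j
  have h1 := form_mulVec_left hg (Pi.single j 1) b
  rw [← formDual_dot hf.bilinear b, ← formDual_dot hf.bilinear _ (Pi.single j 1), dotProduct_mulVec,
    dotProduct_single, dotProduct_single, mul_one, mul_one] at h1
  exact h1

lemma beta_cj {g : GL ι F} (hg : g ∈ isoOf f) (S : A) (b z : ι → F) :
    beta φ f (cj φ g S) b z = beta φ f S (((g⁻¹ : GL ι F) : Matrix ι ι F) *ᵥ b)
      (((g⁻¹ : GL ι F) : Matrix ι ι F) *ᵥ z) := by
  rw [beta, cj, cE_sandwich, formDual_vecMul hf hg, beta]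

lemma beta_ext {S S' : A} (h : ∀ b z, beta φ f S b z = beta φ f S' b z) : S = S' :=
  cE_ext φ fun p q => by
    obtain ⟨b, hb⟩ := exists_formDual_eq hf.bilinear hf.nondegenerate (Pi.single p 1 : ι → F)
    simpa [beta, hb] using h b (Pi.single q 1)

lemma beta_of_cm {c : A} (hc : Cm φ c) (X : Matrix ι ι F) (b z : ι → F) :
    beta φ f (φ X * c) b z = f (X *ᵥ z) b • c := by
  rw [beta, cE_of_cm φ hc, formDual_dot hf.bilinear]

lemma beta_cm {c : A} (hc : Cm φ c) (b z : ι → F) : beta φ f c b z = f z b • c := by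
  simpa using beta_of_cm φ hf hc 1 b z

lemma mul_beta (S : A) (u v b z : ι → F) :
    φ (op f u v) * beta φ f S b z = φ (op f u b) * S * φ (op f z v) := mul_cE φ S _ _ _ _

lemma beta_op_self {c : A} (hc : Cm φ c) (u : ι → F) :
    beta φ f (φ (op f u u) * c) = pat (sq f u) (-c) := by
  funext b z
  rw [beta_of_cm φ hf hc, op_mulVec hf.bilinear, hf.bilinear.smul_left, hf.skew u b, pat, sq]
  module

lemma beta_op_alt {c : A} (hc : Cm φ c) (u v : ι → F) :
    beta φ f (φ (op f u v - op f v u) * c) = pat (alt f u v) (-c) := by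
  funext b z
  rw [beta_of_cm φ hf hc, sub_mulVec, op_mulVec hf.bilinear, op_mulVec hf.bilinear,
    form_sub_left hf.bilinear, hf.bilinear.smul_left, hf.bilinear.smul_left, hf.skew u b, hf.skew v b,
    pat, alt]
  module

lemma inv_map [DecidableEq F] {G : AddSubgroup A}
    (hG : ∀ g ∈ isoOf f, ∀ S ∈ G, cj φ g S ∈ G) :
    Inv f (G.map (betaHom φ f)) where
  hf := hf
  add₁ := by
    rintro _ ⟨S, -, rfl⟩ x y z
    show cE φ S _ _ = _
    rw [formDual_add hf.bilinear, cE_add_left]; rfl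
  smul₁ := by
    rintro _ ⟨S, -, rfl⟩ c x z
    show cE φ S _ _ = _
    rw [formDual_smul hf.bilinear, cE_smul_left]; rfl
  add₂ := by
    rintro _ ⟨S, -, rfl⟩ x y z
    exact cE_add_right φ S _ _ _
  smul₂ := by
    rintro _ ⟨S, -, rfl⟩ c x z
    exact cE_smul_right φ S _ _ _
  act := by
    rintro g hg _ ⟨S, hS, rfl⟩
    refine ⟨cj φ g⁻¹ S, hG _ ((isoOf f).inv_mem hg) S hS, ?_⟩
    funext b z
    show beta φ f _ b z = beta φ f _ _ _
    rw [beta_cj φ hf ((isoOf f).inv_mem hg), inv_inv]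

/-- The sweep along an embedded matrix algebra. -/
theorem alg_sweep [Fintype F] [DecidableEq F] (hq : 3 ≤ Fintype.card ι ∨ 3 ≤ Fintype.card F)
    (h24 : (2 : F) ≠ 0 ∨ 3 ≤ Fintype.card ι) (hι : 2 ≤ Fintype.card ι) {G : AddSubgroup A}
    (hG : ∀ g ∈ isoOf f, ∀ S ∈ G, cj φ g S ∈ G) {S : A} (hS : S ∈ G) (hns : ¬ Cm φ S) :
    ∃ X c, (IsA f X ∨ IsB f X) ∧ c ≠ 0 ∧ Cm φ c ∧ φ X * c ∈ G ∧
      ∀ P, Cm φ P → (∀ T ∈ G, Commute P T) → Commute P c := by
  obtain ⟨e, he⟩ : ∃ e : ι → F, e ≠ 0 := by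
    obtain ⟨i⟩ : Nonempty ι := Fintype.card_pos_iff.1 (by omega)
    exact ⟨Pi.single i 1, fun h => one_ne_zero (α := F) (by simpa using congrFun h i)⟩
  obtain ⟨w, hw⟩ := exists_pairing hf (v := ![e]) (LinearIndependent.of_subsingleton 0 he) ![1]
  have hns' : ∀ c : A, (betaHom φ f S) ≠ pat f c := fun c hc => hns (by
    have hew : f e w = 1 := hw 0
    have hcm : Cm φ c := by
      rw [show c = beta φ f S e w from ((congrFun (congrFun hc e) w).trans (by simp [pat, hew])).symm]
      exact cm_beta φ S e w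
    rw [show S = -c from beta_ext φ hf fun b z => by
      rw [beta_cm φ hf hcm.neg, hf.skew z b]
      exact (congrFun (congrFun hc b) z).trans (by simp [pat])]
    exact hcm.neg)
  obtain ⟨c, hc, h⟩ := sweep (inv_map φ hf hG) hq h24 (show f e w = 1 from hw 0) hι ⟨S, hS, rfl⟩ hns'
  have fin : ∀ {P : (ι → F) → (ι → F) → F}, (∃ b z, P b z = 1) → pat P c ∈ G.map (betaHom φ f) →
      ∀ {X : Matrix ι ι F}, (∀ {d : A}, Cm φ d → beta φ f (φ X * d) = pat P (-d)) →
      Cm φ (-c) ∧ φ X * (-c) ∈ G ∧ ∀ Q, Cm φ Q → (∀ T ∈ G, Commute Q T) → Commute Q (-c) := by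
    rintro P ⟨b, z, hbz⟩ ⟨T, hT, hTe⟩ X hX
    have hval : beta φ f T b z = c := (congrFun (congrFun hTe b) z).trans (by simp [pat, hbz])
    have hcm : Cm φ (-c) := hval ▸ (cm_beta φ T b z).neg
    refine ⟨hcm, ?_, fun Q hQ hQG => hval ▸ (commute_beta φ hQ (hQG T hT) b z).neg_right⟩
    rw [beta_ext φ hf (S := φ X * -c) (S' := T) fun b z => by
      rw [hX hcm, neg_neg]; exact (congrFun (congrFun hTe b) z).symm]
    exact hT
  rcases h with ⟨u, hu, hmem⟩ | ⟨u, v, hli, huv, hmem⟩
  · obtain ⟨x, hx⟩ := exists_pairing hf (v := ![u]) (LinearIndependent.of_subsingleton 0 hu) ![1]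
    have h1 : f x u = -1 := by rw [hf.skew, show f u x = 1 from hx 0]
    exact ⟨_, -c, Or.inl ⟨u, hu, rfl⟩, neg_ne_zero.2 hc,
      fin ⟨x, x, by rw [sq, h1]; ring⟩ hmem fun hd => beta_op_self φ hf hd u⟩
  · obtain ⟨x, hx⟩ := exists_pairing hf hli ![1, 0]
    obtain ⟨y, hy⟩ := exists_pairing hf hli ![0, 1]
    have hx0 : f x u = -1 := by rw [hf.skew, show f u x = 1 from hx 0]
    have hx1 : f x v = 0 := by rw [hf.skew, show f v x = 0 from hx 1, neg_zero]
    have hy0 : f y u = 0 := by rw [hf.skew, show f u y = 0 from hy 0, neg_zero]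
    have hy1 : f y v = -1 := by rw [hf.skew, show f v y = 1 from hy 1]
    exact ⟨_, -c, Or.inr ⟨u, v, hli, huv, rfl⟩, neg_ne_zero.2 hc,
      fin ⟨x, y, by rw [alt, hx0, hx1, hy1]; ring⟩ hmem fun hd => beta_op_alt φ hf hd u v⟩

end

end CfsgLib.ClassicalMax.TWMax
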