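/-
Commuting matrix algebras with trivial common centraliser: generation and primality.
-/
import Cfsg.Agent.Lib.ClassicalMax.TWMax.Alg
set_option autoImplicit false
set_option linter.unusedSectionVars false

namespace CfsgLib.ClassicalMax.TWMax

open Matrix Cfsg.Geo

variable {F : Type*} [Field F] {ι : Type} [Fintype ι] [DecidableEq ι]
  {f : (ι → F) → (ι → F) → F} {A : Type*} [Ring A] [Algebra F A]
  {κ : Type*} [Fintype κ] [DecidableEq κ] {φ : κ → Matrix ι ι F →ₐ[F] A}

lemma cE_reconstruct (ψ : Matrix ι ι F →ₐ[F] A) (T : A) :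
    T = ∑ p, ∑ q, ψ (vecMulVec (Pi.single p 1) (Pi.single q 1)) *
      cE ψ T (Pi.single p 1) (Pi.single q 1) := by
  simp only [mul_cE, ← Finset.mul_sum, ← map_sum]
  simp only [← one_eq_sum, map_one, mul_one, ← Finset.sum_mul, ← map_sum, one_mul]

lemma cE_comp (ψ : Matrix ι ι F →ₐ[F] A) (S T : A) (η z : ι → F) :
    cE ψ (S * T) η z = ∑ l, cE ψ S η (Pi.single l 1) * cE ψ T (Pi.single l 1) z := by
  have h : ∀ l, cE ψ S η (Pi.single l 1) * cE ψ T (Pi.single l 1) z =
      ∑ m, ψ (vecMulVec (Pi.single m 1) η) * S * ψ (vecMulVec (Pi.single l 1) (Pi.single l 1)) * T *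
        ψ (vecMulVec z (Pi.single m 1)) := fun l => by
    conv_lhs => rw [cE, Finset.sum_mul]
    simp only [mul_assoc, mul_cE]
  simp only [h]
  rw [Finset.sum_comm, cE]
  refine Finset.sum_congr rfl fun m _ => ?_
  simp only [← Finset.sum_mul, ← Finset.mul_sum, ← map_sum]
  rw [← one_eq_sum, map_one, mul_one]
  simp only [mul_assoc]

lemma cE_mul_cm (ψ : Matrix ι ι F →ₐ[F] A) {P Q : A} (hP : Cm ψ P) (hQ : Cm ψ Q) (S : A)
    (η z : ι → F) : cE ψ (P * S * Q) η z = P * cE ψ S η z * Q := by
  simp only [cE, Finset.mul_sum, Finset.sum_mul]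
  refine Finset.sum_congr rfl fun l _ => ?_
  simp only [← mul_assoc, (hP _).eq]
  simp only [mul_assoc, (hQ _).symm.eq]

/-- Commuting embedded matrix algebras with trivial common centraliser. -/
structure Sys (f : (ι → F) → (ι → F) → F) (φ : κ → Matrix ι ι F →ₐ[F] A) : Prop where
  hf : IsSymplecticForm f
  comm : ∀ l m, l ≠ m → ∀ X Y, Commute (φ l X) (φ m Y)
  central : ∀ S, (∀ l, Cm (φ l) S) → ∃ c : F, S = algebraMap F A c
  nontriv : Nontrivial A

variable (Y : Sys f φ)
include Y

lemma Sys.cm (l : κ) {m : κ} (h : l ≠ m) (X : Matrix ι ι F) : Cm (φ l) (φ m X) :=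
  fun X' => Y.comm l m h X' X

lemma Sys.cm_cE {l m : κ} {T : A} (hT : Cm (φ l) T) (η z : ι → F) :
    Cm (φ l) (cE (φ m) T η z) := by
  rcases eq_or_ne l m with rfl | h
  · exact TWMax.cm_cE _ _ _ _
  · exact fun X => commute_cE _ (Y.cm m (Ne.symm h) X) (hT X) η z

/-- Elements commuting with all but some of the algebras lie in what those generate. -/
lemma Sys.mem_sub (B : Subalgebra F A) (U : Finset κ) (hB : ∀ l ∈ U, ∀ X, φ l X ∈ B) :
    ∀ T, (∀ l ∉ U, Cm (φ l) T) → T ∈ B := by
  induction U using Finset.induction_on with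
  | empty =>
    intro T hT
    obtain ⟨c, rfl⟩ := Y.central T fun l => hT l (Finset.notMem_empty l)
    exact B.algebraMap_mem c
  | @insert a U ha ih =>
    intro T hT
    rw [cE_reconstruct (φ a) T]
    refine B.sum_mem fun p _ => B.sum_mem fun q _ => B.mul_mem (hB a (Finset.mem_insert_self _ _) _)
      (ih (fun l hl X => hB l (Finset.mem_insert_of_mem hl) X) _ fun l hl => ?_)
    rcases eq_or_ne l a with rfl | hla
    · exact TWMax.cm_cE _ _ _ _
    · exact Y.cm_cE (hT l (fun h => (Finset.mem_insert.1 h).elim hla hl)) _ _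

/-- The algebra generated by some of the algebras is prime. -/
lemma Sys.prime (U : Finset κ) : ∀ S S', (∀ l ∉ U, Cm (φ l) S) → (∀ l ∉ U, Cm (φ l) S') →
    (∀ T, (∀ l ∉ U, Cm (φ l) T) → S * T * S' = 0) → S = 0 ∨ S' = 0 := by
  have := Y.nontriv
  induction U using Finset.induction_on with
  | empty =>
    intro S S' hS hS' h
    obtain ⟨c, rfl⟩ := Y.central S fun l => hS l (Finset.notMem_empty l)
    obtain ⟨c', rfl⟩ := Y.central S' fun l => hS' l (Finset.notMem_empty l)
    have := h 1 fun l _ => Cm.one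
    rw [mul_one, ← map_mul] at this
    exact (mul_eq_zero.1 (((algebraMap F A).injective) (this.trans (map_zero _).symm))).imp
      (by rintro rfl; exact map_zero _) (by rintro rfl; exact map_zero _)
  | @insert a U ha ih =>
    intro S S' hS hS' h
    by_contra hne
    push Not at hne
    have hout : ∀ {T : A}, (∀ l ∉ insert a U, Cm (φ l) T) → ∀ l ∉ U, ∀ η z, Cm (φ l) (cE (φ a) T η z) := by
      intro T hT l hl η z
      rcases eq_or_ne l a with rfl | hla
      · exact TWMax.cm_cE _ _ _ _
      · exact Y.cm_cE (hT l (fun h => (Finset.mem_insert.1 h).elim hla hl)) _ _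
    have hzero : ∀ η z η' z', cE (φ a) S η z = 0 ∨ cE (φ a) S' η' z' = 0 := fun η z η' z' => by
      refine ih _ _ (fun l hl => hout hS l hl η z) (fun l hl => hout hS' l hl η' z') fun T hT => ?_
      rw [cE, cE, Finset.sum_mul, Finset.sum_mul]
      refine Finset.sum_eq_zero fun p _ => ?_
      rw [Finset.mul_sum]
      refine Finset.sum_eq_zero fun q _ => ?_
      have := h (φ a (vecMulVec z (Pi.single p 1)) * T * φ a (vecMulVec (Pi.single q 1) η')) fun l hl => by
        have hla : l ≠ a := fun e => hl (e ▸ Finset.mem_insert_self _ _)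
        exact ((Y.cm l hla _).mul (hT l fun e => hl (Finset.mem_insert_of_mem e))).mul (Y.cm l hla _)
      linear_combination (norm := noncomm_ring)
        congrArg (fun x => φ a (vecMulVec (Pi.single p 1) η) * x * φ a (vecMulVec z' (Pi.single q 1))) this
    obtain ⟨p, hp⟩ : ∃ p : ι × ι, cE (φ a) S (Pi.single p.1 1) (Pi.single p.2 1) ≠ 0 := by
      by_contra! hn
      exact hne.1 (cE_ext (φ a) fun p q => by rw [hn (p, q), cE_zero])
    exact hne.2 (cE_ext (φ a) fun r s => by
      rw [(hzero _ _ (Pi.single r 1) (Pi.single s 1)).resolve_left hp, cE_zero])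

/-- The centraliser of the centraliser. -/
lemma Sys.bicomm {l : κ} {T : A} (h : ∀ S, Cm (φ l) S → Commute S T) : ∃ X, T = φ l X := by
  have hs : ∀ η z, ∃ c : F, cE (φ l) T η z = algebraMap F A c := fun η z => Y.central _ fun m => by
    rcases eq_or_ne m l with rfl | hm
    · exact TWMax.cm_cE _ _ _ _
    · exact Y.cm_cE (fun X => h _ (Y.cm l (Ne.symm hm) X)) _ _
  choose c hc using hs
  refine ⟨∑ p, ∑ q, c (Pi.single p 1) (Pi.single q 1) • vecMulVec (Pi.single p 1) (Pi.single q 1), ?_⟩
  conv_lhs => rw [cE_reconstruct (φ l) T]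
  simp only [map_sum, map_smul, hc]
  refine Finset.sum_congr rfl fun p _ => Finset.sum_congr rfl fun q _ => ?_
  rw [Algebra.smul_def, Algebra.commutes]

omit Y

/-- A subalgebra with all symmetric rank one maps is everything. -/
lemma top_of_op_self (hf : IsSymplecticForm f) (B : Subalgebra F (Matrix ι ι F))
    (hB : ∀ u, op f u u ∈ B) : ∀ X, X ∈ B := by
  have hb := hf.bilinear
  have h1 : ∀ u w, f w u ≠ 0 → op f u w ∈ B := fun u w h => by
    have h0 := B.smul_mem (B.mul_mem (hB u) (hB w)) (f w u)⁻¹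
    rwa [op_mul hb, smul_smul, inv_mul_cancel₀ h, one_smul] at h0
  have h2 : ∀ u v, op f u v ∈ B := fun u v => by
    rcases eq_or_ne u 0 with rfl | hu
    · rw [← zero_smul F (0 : ι → F), op_smul_left, zero_smul]; exact B.zero_mem
    by_cases hv : f v u = 0
    · obtain ⟨w, hw⟩ := exists_pairing hf (v := ![u]) (LinearIndependent.of_subsingleton 0 hu) ![1]
      have hwu : f w u ≠ 0 := by rw [hf.skew, show f u w = 1 from hw 0]; simp
      have h3 := B.sub_mem (h1 u (v + w) (by rw [hb.add_left, hv, zero_add]; exact hwu)) (h1 u w hwu)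
      rwa [op_add_right hb, add_sub_cancel_right] at h3
    · exact h1 u v hv
  intro X
  rw [mat_sum X]
  refine B.sum_mem fun i _ => B.sum_mem fun j _ => B.smul_mem ?_ _
  obtain ⟨b, hb'⟩ := exists_formDual_eq hb hf.nondegenerate (Pi.single j 1 : ι → F)
  rw [← hb']
  exact h2 _ b

end CfsgLib.ClassicalMax.TWMax
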