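/-
Linear functions which are proportional to a unit on root elements and their sums vanish there.
-/
import Cfsg.Agent.Lib.ClassicalMax.TWMax.Sys
set_option autoImplicit false
set_option linter.unusedSectionVars false

namespace CfsgLib.ClassicalMax.TWMax

open Matrix Cfsg.Geo

variable {F : Type*} [Field F] {ι : Type} [Fintype ι] [DecidableEq ι]
  {f : (ι → F) → (ι → F) → F} {A : Type*} [Ring A] [Algebra F A]

/-- A linear function proportional to `1 + a` on roots and their orthogonal sums vanishes on roots. -/
theorem affine_zero [Fintype F] [DecidableEq F] [Nontrivial A] (hf : IsSymplecticForm f)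
    (ψ : Matrix ι ι F →ₐ[F] A) (hq : 3 ≤ Fintype.card ι ∨ 3 ≤ Fintype.card F)
    {B : Type*} [Ring B] [Algebra F B] (a : A →ₗ[F] B) (ha1 : a 1 = 1)
    (hinj : ∀ X : Matrix ι ι F, a (ψ X) = 0 → X = 0) (L : A →ₗ[F] B)
    (h1 : ∀ u (s : F), u ≠ 0 → s ≠ 0 → ∃ ν : F, L (ψ (s • op f u u)) = ν • (1 + a (ψ (s • op f u u))))
    (h2 : ∀ u v, LinearIndependent F ![u, v] → f u v = 0 →
      ∃ ν : F, L (ψ (op f u u + op f v v)) = ν • (1 + a (ψ (op f u u + op f v v))))
    {u : ι → F} (hu : u ≠ 0) : L (ψ (op f u u)) = 0 := by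
  have hb := hf.bilinear
  obtain ⟨ν, hν⟩ := h1 u 1 hu one_ne_zero
  rw [one_smul] at hν
  -- a combination of the unit and one root
  have hcomb : ∀ (s : F) (X : Matrix ι ι F), s • (1 : B) + a (ψ X) = a (ψ (s • 1 + X)) := fun s X => by
    rw [map_add ψ, map_add a, map_smul ψ, map_smul a, map_one, ha1]
  suffices hν0 : ν = 0 by rw [hν, hν0, zero_smul]
  by_cases h3 : 3 ≤ Fintype.card ι
  · -- two orthogonal roots
    obtain ⟨w, hw⟩ := exists_pairing hf (v := ![u]) (LinearIndependent.of_subsingleton 0 hu) ![1]
    have huw : f u w = 1 := hw 0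
    obtain ⟨v, hv, hvn⟩ := exists_orth_extend hb ![u] (by omega)
    have huv : f u v = 0 := hv 0
    have hli : LinearIndependent F ![u, v] := by
      rw [LinearIndependent.pair_iff' hu]
      exact fun s hs => hvn (Submodule.mem_span_singleton.2 ⟨s, hs⟩ |> fun h => by simpa using h)
    have hv0 : v ≠ 0 := LinearIndependent.ne_zero 1 hli
    obtain ⟨ν', hν'⟩ := h1 v 1 hv0 one_ne_zero
    rw [one_smul] at hν'
    obtain ⟨μ, hμ⟩ := h2 u v hli huv
    obtain ⟨x, hx⟩ := exists_pairing hf hli ![1, 0]
    obtain ⟨y, hy⟩ := exists_pairing hf hli ![0, 1]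
    have hxu : f x u = -1 := by rw [hf.skew, show f u x = 1 from hx 0]
    have hxv : f x v = 0 := by rw [hf.skew, show f v x = 0 from hx 1, neg_zero]
    have hyu : f y u = 0 := by rw [hf.skew, show f u y = 0 from hy 0, neg_zero]
    have hyv : f y v = -1 := by rw [hf.skew, show f v y = 1 from hy 1]
    -- the combination
    have h0 : a (ψ ((μ - ν - ν') • 1 + ((μ - ν) • op f u u + (μ - ν') • op f v v))) = 0 := by
      rw [map_add ψ, map_add a, map_smul ψ, map_smul a, map_one, ha1]
      have := hμ
      simp only [map_add] at this ⊢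
      rw [hν, hν'] at this
      simp only [map_smul]
      linear_combination (norm := module) -this
    have hz := hinj _ h0
    have hu' := congrArg (fun X => X *ᵥ u) hz
    simp only [add_mulVec, smul_mulVec, one_mulVec, op_mulVec hb, hf.alternating,
      huv, zero_smul, smul_zero, add_zero, zero_mulVec] at hu'
    have e1 : μ - ν - ν' = 0 := (smul_eq_zero.1 hu').resolve_right hu
    have hx' := congrArg (fun X => X *ᵥ x) hz
    simp only [add_mulVec, smul_mulVec, one_mulVec, op_mulVec hb, hxu, hxv, e1, zero_smul,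
      smul_zero, add_zero, zero_add, zero_mulVec, neg_smul, one_smul, smul_neg, neg_eq_zero] at hx'
    have e2 : μ - ν = 0 := (smul_eq_zero.1 hx').resolve_right hu
    have e4 : ν' = 0 := by linear_combination e2 - e1
    subst e4
    have hy' := congrArg (fun X => X *ᵥ y) hz
    simp only [add_mulVec, smul_mulVec, one_mulVec, op_mulVec hb, hyu, hyv, e2, sub_zero, zero_smul,
      smul_zero, add_zero, zero_add, zero_mulVec, neg_smul, one_smul, smul_neg, neg_eq_zero] at hy'
    have e3 : μ = 0 := (smul_eq_zero.1 hy').resolve_right hv0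
    linear_combination -e2 + e3
  · -- scaling
    obtain ⟨s, hs⟩ : ∃ s : F, s ∉ ({0, 1} : Finset F) := by
      by_contra! hall
      have := Finset.card_le_card (s := (Finset.univ : Finset F)) (t := {0, 1}) fun s _ => hall s
      have h4 : ({0, 1} : Finset F).card ≤ 2 := Finset.card_le_two
      rw [Finset.card_univ] at this
      have := hq.resolve_left h3
      omega
    simp only [Finset.mem_insert, Finset.mem_singleton, not_or] at hs
    obtain ⟨ν', hν'⟩ := h1 u s hu hs.1
    have h0 : a (ψ ((ν' - s * ν) • 1 + (ν' * s - s * ν) • op f u u)) = 0 := by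
      rw [map_add ψ, map_add a, map_smul ψ, map_smul a, map_one, ha1, map_smul, map_smul]
      simp only [map_smul, hν] at hν'
      linear_combination (norm := module) -hν'
    have hz := hinj _ h0
    have hu' := congrArg (fun X => X *ᵥ u) hz
    simp only [add_mulVec, smul_mulVec, one_mulVec, op_mulVec hb, hf.alternating,
      zero_smul, smul_zero, add_zero, zero_mulVec] at hu'
    have e1 : ν' - s * ν = 0 := (smul_eq_zero.1 hu').resolve_right hu
    obtain ⟨x, hx⟩ := exists_pairing hf (v := ![u]) (LinearIndependent.of_subsingleton 0 hu) ![1]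
    have hx' := congrArg (fun X => X *ᵥ x) hz
    simp only [add_mulVec, smul_mulVec, one_mulVec, op_mulVec hb, e1, zero_smul, zero_add,
      zero_mulVec, hf.skew x u, show f u x = 1 from hx 0, neg_smul, one_smul, smul_neg, neg_eq_zero] at hx'
    have e2 : ν' * s - s * ν = 0 := (smul_eq_zero.1 hx').resolve_right hu
    have e3 : (s * (s - 1)) * ν = 0 := by linear_combination e2 - s * e1
    exact (mul_eq_zero.1 e3).resolve_left (mul_ne_zero hs.1 (sub_ne_zero.2 hs.2))

end CfsgLib.ClassicalMax.TWMax
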