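/-
Evaluations separating the two products of two conjugate rank one or alternating maps.
-/
import Cfsg.Agent.Lib.ClassicalMax.TWMax.Alg
set_option autoImplicit false
set_option linter.unusedSectionVars false

namespace CfsgLib.ClassicalMax.TWMax

open Matrix Cfsg.Geo

variable {F : Type*} [Field F] {ι : Type} [Fintype ι] [DecidableEq ι]
  {f : (ι → F) → (ι → F) → F}

/-- A non-zero vector orthogonal to fewer vectors than the dimension. -/
lemma exists_orth (hb : IsBilinearForm f) {n : ℕ} (v : Fin n → ι → F) (hn : n < Fintype.card ι) :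
    ∃ m, m ≠ 0 ∧ ∀ i, f (v i) m = 0 := by
  let L : (ι → F) →ₗ[F] (Fin n → F) := LinearMap.pi fun i => bilinOf hb (v i)
  have h1 := LinearMap.finrank_range_add_finrank_ker L
  have h2 : Module.finrank F (LinearMap.range L) ≤ n := by
    simpa using Submodule.finrank_le (LinearMap.range L)
  rw [Module.finrank_fintype_fun_eq_card] at h1
  obtain ⟨m, hm, hm0⟩ := Submodule.exists_mem_ne_zero_of_ne_bot
    (fun h : LinearMap.ker L = ⊥ => by rw [h, finrank_bot] at h1; omega)
  exact ⟨m, hm0, fun i => congrFun hm i⟩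

lemma sTv_val [DecidableEq F] (hf : IsSymplecticForm f) (u : ι → F) :
    (sTv f u 1 : Matrix ι ι F) = 1 + op f u u :=
  Matrix.toLin'.injective (LinearMap.ext fun z => by
    simp only [Matrix.toLin'_apply, add_mulVec, one_mulVec, sTv_mulVec hf, one_mul,
      op_mulVec hf.bilinear])

lemma conj_op (hf : IsSymplecticForm f) {g : GL ι F} (hg : g ∈ isoOf f) (a b : ι → F) :
    (g : Matrix ι ι F) * op f a b * ((g⁻¹ : GL ι F) : Matrix ι ι F) =
      op f ((g : Matrix ι ι F) *ᵥ a) ((g : Matrix ι ι F) *ᵥ b) := by
  rw [op, op, mul_vecMulVec, vecMulVec_mul, formDual_vecMul hf ((isoOf f).inv_mem hg), inv_inv]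

lemma closure_sTv_le' [DecidableEq F] (hf : IsSymplecticForm f) {g : GL ι F}
    (hg : g ∈ Subgroup.closure {t | ∃ v c, t = sTv f v c}) : g ∈ isoOf f :=
  (Subgroup.closure_le (isoOf f)).2 (by rintro _ ⟨v, c, rfl⟩; exact sTv_mem_isoOf hf v c) hg

/-- The evaluation. -/
theorem exists_test [DecidableEq F] (hf : IsSymplecticForm f) (h4 : 4 ≤ Fintype.card ι)
    {X : Matrix ι ι F} (hX : IsA f X ∨ IsB f X) :
    ∃ g ∈ isoOf f, ∃ z b : ι → F, f (X *ᵥ z) b = 0 ∧
      f (((g : Matrix ι ι F) * X * ((g⁻¹ : GL ι F) : Matrix ι ι F)) *ᵥ z) b = 0 ∧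
      f (((g : Matrix ι ι F) * X * ((g⁻¹ : GL ι F) : Matrix ι ι F) * X) *ᵥ z) b = 0 ∧
      f ((X * ((g : Matrix ι ι F) * X * ((g⁻¹ : GL ι F) : Matrix ι ι F))) *ᵥ z) b = 1 ∧
      (f z b = 0 ∨ (IsB f X ∧ ¬ 5 ≤ Fintype.card ι)) := by
  have hb := hf.bilinear
  rcases hX with ⟨u, hu, rfl⟩ | ⟨u₁, u₂, hli, huu, rfl⟩
  · obtain ⟨v, hv⟩ := exists_pairing hf (v := ![u]) (LinearIndependent.of_subsingleton 0 hu) ![1]
    have huv : f u v = 1 := hv 0
    have hvu : f v u = -1 := by rw [hf.skew, huv]
    obtain ⟨m, hm0, hm⟩ := exists_orth hb ![u, v] (by omega)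
    have hum : f u m = 0 := hm 0
    have hvm : f v m = 0 := hm 1
    have hmu : f m u = 0 := by rw [hf.skew, hum, neg_zero]
    have hmv : f m v = 0 := by rw [hf.skew, hvm, neg_zero]
    have hv0 : v ≠ 0 := fun h => zero_ne_one (α := F) (by rw [← huv, h, form_zero_right hb])
    obtain ⟨t, ht, htv⟩ := exists_iso_mulVec hf hu hv0
    have hti := closure_sTv_le' hf ht
    have hli : LinearIndependent F ![u, v, m] := by
      rw [Fintype.linearIndependent_iff]
      intro c hc
      simp only [Fin.sum_univ_three, Matrix.cons_val] at hc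
      have h0 : c 0 = 0 := by
        have := congrArg (fun x => f x v) hc
        simpa [hb.add_left, hb.smul_left, huv, hmv, hf.alternating, form_zero_left hb] using this
      have h1 : c 1 = 0 := by
        have := congrArg (fun x => f x u) hc
        simpa [hb.add_left, hb.smul_left, hvu, hmu, hf.alternating, form_zero_left hb] using this
      rw [h0, h1, zero_smul, zero_smul, zero_add, zero_add] at hc
      intro i
      fin_cases i
      exacts [h0, h1, (smul_eq_zero.1 hc).resolve_right hm0]
    obtain ⟨b, hb'⟩ := exists_pairing hf hli ![-1, 0, 1]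
    have hub : f u b = -1 := hb' 0
    have hvb : f v b = 0 := hb' 1
    have hmb : f m b = 1 := hb' 2
    refine ⟨t, hti, u + m, b, ?_, ?_, ?_, ?_, Or.inl ?_⟩
    all_goals simp only [conj_op hf hti, htv, ← mulVec_mulVec, op_mulVec hb, hb.add_left, hb.smul_left,
      hf.alternating, hmu, hmv, huv, hvu, hub, hvb, hmb, mulVec_smul, smul_smul]
    all_goals ring
  · have hu₁ : u₁ ≠ 0 := LinearIndependent.ne_zero 0 hli
    obtain ⟨v₁, hv₁⟩ := exists_pairing hf hli ![1, 0]
    have h11 : f u₁ v₁ = 1 := hv₁ 0
    have h21 : f u₂ v₁ = 0 := hv₁ 1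
    have h11' : f v₁ u₁ = -1 := by rw [hf.skew, h11]
    have h12' : f v₁ u₂ = 0 := by rw [hf.skew, h21, neg_zero]
    have hu21 : f u₂ u₁ = 0 := by rw [hf.skew, huu, neg_zero]
    have hli3 : LinearIndependent F ![u₁, u₂, v₁] := by
      rw [Fintype.linearIndependent_iff]
      intro c hc
      simp only [Fin.sum_univ_three, Matrix.cons_val] at hc
      have h2 : c 2 = 0 := by
        have := congrArg (fun x => f x u₁) hc
        simpa [hb.add_left, hb.smul_left, hu21, h11', hf.alternating, form_zero_left hb] using this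
      rw [h2, zero_smul, add_zero] at hc
      obtain ⟨h0, h1⟩ := LinearIndependent.pair_iff.1 hli _ _ hc
      intro i
      fin_cases i
      exacts [h0, h1, h2]
    obtain ⟨v₂, hv₂⟩ := exists_pairing hf hli3 ![0, 1, 0]
    have h12 : f u₁ v₂ = 0 := hv₂ 0
    have h22 : f u₂ v₂ = 1 := hv₂ 1
    have hvv : f v₁ v₂ = 0 := hv₂ 2
    have h22' : f v₂ u₂ = -1 := by rw [hf.skew, h22]
    have h21' : f v₂ u₁ = 0 := by rw [hf.skew, h12, neg_zero]
    have hv21 : f v₂ v₁ = 0 := by rw [hf.skew, hvv, neg_zero]
    by_cases h5 : 5 ≤ Fintype.card ι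
    · obtain ⟨g', hg0, hg⟩ := exists_orth hb ![u₁, u₂, v₁, v₂] (by omega)
      have g1 : f u₁ g' = 0 := hg 0
      have g2 : f u₂ g' = 0 := hg 1
      have g3 : f v₁ g' = 0 := hg 2
      have g4 : f v₂ g' = 0 := hg 3
      have g1' : f g' u₁ = 0 := by rw [hf.skew, g1, neg_zero]
      have g3' : f g' v₁ = 0 := by rw [hf.skew, g3, neg_zero]
      have g4' : f g' v₂ = 0 := by rw [hf.skew, g4, neg_zero]
      have g2' : f g' u₂ = 0 := by rw [hf.skew, g2, neg_zero]
      have hli' : LinearIndependent F ![v₁, g'] := by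
        rw [LinearIndependent.pair_iff]
        intro s t hst
        have hs : s = 0 := by
          have := congrArg (fun x => f x u₁) hst
          simpa [hb.add_left, hb.smul_left, h11', g1', form_zero_left hb] using this
        subst hs
        rw [zero_smul, zero_add] at hst
        exact ⟨rfl, (smul_eq_zero.1 hst).resolve_right hg0⟩
      have hli4 : LinearIndependent F ![u₁, u₂, v₁, g'] := by
        rw [Fintype.linearIndependent_iff]
        intro c hc
        simp only [Fin.sum_univ_four, Matrix.cons_val] at hc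
        have h0 : c 0 = 0 := by
          have := congrArg (fun x => f x v₁) hc
          simpa [hb.add_left, hb.smul_left, h11, h21, g3', hf.alternating, form_zero_left hb] using this
        have h1 : c 1 = 0 := by
          have := congrArg (fun x => f x v₂) hc
          simpa [hb.add_left, hb.smul_left, h12, h22, hvv, g4', form_zero_left hb] using this
        have h2 : c 2 = 0 := by
          have := congrArg (fun x => f x u₁) hc
          simpa [hb.add_left, hb.smul_left, hu21, h11', g1', hf.alternating, form_zero_left hb] using this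
        rw [h0, h1, h2, zero_smul, zero_smul, zero_smul, zero_add, zero_add, zero_add] at hc
        intro i
        fin_cases i
        exacts [h0, h1, h2, (smul_eq_zero.1 hc).resolve_right hg0]
      obtain ⟨n, hn⟩ := exists_pairing hf hli4 ![0, 0, 0, -1]
      have n1 : f n u₁ = 0 := by rw [hf.skew, show f u₁ n = 0 from hn 0, neg_zero]
      have n2 : f n u₂ = 0 := by rw [hf.skew, show f u₂ n = 0 from hn 1, neg_zero]
      have n3 : f n v₁ = 0 := by rw [hf.skew, show f v₁ n = 0 from hn 2, neg_zero]
      have n4 : f n g' = 1 := by rw [hf.skew, show f g' n = -1 from hn 3, neg_neg]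
      have hli5 : LinearIndependent F ![n, v₁, u₂] := by
        rw [Fintype.linearIndependent_iff]
        intro c hc
        simp only [Fin.sum_univ_three, Matrix.cons_val] at hc
        have h0 : c 0 = 0 := by
          have := congrArg (fun x => f x g') hc
          simpa [hb.add_left, hb.smul_left, n4, g3, g2, form_zero_left hb] using this
        have h1 : c 1 = 0 := by
          have := congrArg (fun x => f x u₁) hc
          simpa [hb.add_left, hb.smul_left, n1, h11', hu21, form_zero_left hb] using this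
        rw [h0, h1, zero_smul, zero_smul, zero_add, zero_add] at hc
        intro i
        fin_cases i
        exacts [h0, h1, (smul_eq_zero.1 hc).resolve_right (LinearIndependent.ne_zero 1 hli)]
      obtain ⟨b, hb'⟩ := exists_pairing hf hli5 ![0, 0, 1]
      have b1 : f n b = 0 := hb' 0
      have b2 : f v₁ b = 0 := hb' 1
      have b3 : f u₂ b = 1 := hb' 2
      obtain ⟨t, ht, ht1, ht2⟩ := exists_iso_pair hf hli hli' huu g3
      have hti := closure_sTv_le' hf ht
      refine ⟨t, hti, n, b, ?_, ?_, ?_, ?_, Or.inl b1⟩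
      all_goals simp only [mul_sub, sub_mul, conj_op hf hti, ht1, ht2, ← mulVec_mulVec, sub_mulVec,
        op_mulVec hb, n1, n2, n3, n4, h11', h12', zero_smul, one_smul, sub_zero, zero_sub, mulVec_zero,
        form_zero_left hb, b2, b3, neg_smul, neg_neg, mulVec_neg]
    · have hli' : LinearIndependent F ![v₁, v₂] := by
        rw [LinearIndependent.pair_iff]
        intro s t hst
        have hs := congrArg (fun x => f x u₁) hst
        have ht := congrArg (fun x => f x u₂) hst
        simp only [hb.add_left, hb.smul_left, h11', h21', h12', h22', form_zero_left hb, mul_zero,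
          add_zero, zero_add, mul_neg, mul_one, neg_eq_zero] at hs ht
        exact ⟨hs, ht⟩
      obtain ⟨t, ht, ht1, ht2⟩ := exists_iso_pair hf hli hli' huu hvv
      have hti := closure_sTv_le' hf ht
      refine ⟨t, hti, u₁, v₁, ?_, ?_, ?_, ?_, Or.inr ⟨⟨u₁, u₂, hli, huu, rfl⟩, h5⟩⟩
      all_goals simp only [mul_sub, sub_mul, conj_op hf hti, ht1, ht2, ← mulVec_mulVec, sub_mulVec,
        op_mulVec hb, hf.alternating, huu, h11, h12, h22', h21', hv21, hvv, zero_smul, one_smul, sub_zero,
        zero_sub, mulVec_zero, form_zero_left hb, neg_smul, neg_neg, mulVec_neg]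
      all_goals rw [← neg_one_smul F v₂, hb.smul_left, hv21, mul_zero]

end CfsgLib.ClassicalMax.TWMax
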