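/-
Radical elements of a group over the product of the factors: they lie in the factor.
-/
import Cfsg.Agent.Lib.ClassicalMax.TWMax.Sys
set_option autoImplicit false
set_option linter.unusedSectionVars false

namespace CfsgLib.ClassicalMax.TWMax

open Matrix Cfsg.Geo

variable {F : Type*} [Field F] {ι : Type} [Fintype ι] [DecidableEq ι]
  {f : (ι → F) → (ι → F) → F} {A : Type*} [Ring A] [Algebra F A]
  {κ : Type*} [Fintype κ] [DecidableEq κ] {φ : κ → Matrix ι ι F →ₐ[F] A}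

/-- An adjoint on the whole algebra, inverse on the group. -/
structure Adj (f : (ι → F) → (ι → F) → F) (φ : κ → Matrix ι ι F →ₐ[F] A) (M : Subgroup Aˣ)
    (τ : A →ₗ[F] A) : Prop where
  mul : ∀ x y, τ (x * y) = τ y * τ x
  slot : ∀ l a b, τ (φ l (op f a b)) = -φ l (op f b a)
  inv : ∀ m ∈ M, τ (m : A) = ((m⁻¹ : Aˣ) : A)

/-- A group over all factors without elements moving along a factor. -/
structure Ctx [Fintype F] (f : (ι → F) → (ι → F) → F) (φ : κ → Matrix ι ι F →ₐ[F] A) (M : Subgroup Aˣ) :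
    Prop where
  sys : Sys f φ
  pure : ∀ l, ∀ g ∈ isoOf f, Units.map (φ l : Matrix ι ι F →* A) g ∈ M
  noUp : ∀ l u S, u ≠ 0 → Cm (φ l) S → ∀ m ∈ M, (m : A) = 1 + φ l (op f u u) * S →
    ∃ c : F, S = algebraMap F A c
  two_le : 2 ≤ Fintype.card ι
  hq : 3 ≤ Fintype.card ι ∨ 3 ≤ Fintype.card F
  h24 : (2 : F) ≠ 0 ∨ 3 ≤ Fintype.card ι
  big : 5 ≤ Fintype.card ι ∨ ((2 : F) ≠ 0 ∧ ∃ τ : A →ₗ[F] A, Adj f φ M τ)

variable (φ₀ : Matrix ι ι F →ₐ[F] A)

/-- Elements in the radical at a point. -/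
structure Rad (f : (ι → F) → (ι → F) → F) (e : ι → F) (S : A) : Prop where
  left : ∀ z, beta φ₀ f S e z = 0
  right : ∀ b, beta φ₀ f S b e = 0
  mid : ∀ b z, f b e = 0 → f z e = 0 → beta φ₀ f S b z = 0

/-- Radical elements in the group. -/
def RadM (f : (ι → F) → (ι → F) → F) (M : Subgroup Aˣ) (e : ι → F) (S : A) : Prop :=
  Rad φ₀ f e S ∧ ∃ m ∈ M, (m : A) = 1 + S

variable {φ₀}

lemma cm_of_op_self (hf : IsSymplecticForm f) {S : A} (h : ∀ u, Commute (φ₀ (op f u u)) S) :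
    Cm φ₀ S := fun X => by
  have := top_of_op_self hf ((Subalgebra.centralizer F {S}).comap φ₀) (fun u => by
    simp only [Subalgebra.mem_comap, Subalgebra.mem_centralizer_iff, Set.mem_singleton_iff,
      forall_eq]
    exact (h u).symm) X
  simp only [Subalgebra.mem_comap, Subalgebra.mem_centralizer_iff, Set.mem_singleton_iff,
    forall_eq] at this
  exact this.symm

section Beta
variable (hf : IsSymplecticForm f)
include hf

lemma beta_add₁ (S : A) (x y z : ι → F) :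
    beta φ₀ f S (x + y) z = beta φ₀ f S x z + beta φ₀ f S y z := by
  rw [beta, formDual_add hf.bilinear, cE_add_left]; rfl

lemma beta_smul₁ (S : A) (c : F) (x z : ι → F) : beta φ₀ f S (c • x) z = c • beta φ₀ f S x z := by
  rw [beta, formDual_smul hf.bilinear, cE_smul_left]; rfl

lemma beta_add₂ (S : A) (b x y : ι → F) :
    beta φ₀ f S b (x + y) = beta φ₀ f S b x + beta φ₀ f S b y := cE_add_right φ₀ S _ _ _

lemma beta_smul₂ (S : A) (c : F) (b x : ι → F) : beta φ₀ f S b (c • x) = c • beta φ₀ f S b x :=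
  cE_smul_right φ₀ S _ _ _

lemma beta_add (S T : A) (b z : ι → F) :
    beta φ₀ f (S + T) b z = beta φ₀ f S b z + beta φ₀ f T b z := cE_add φ₀ S T _ _

lemma beta_sub (S T : A) (b z : ι → F) :
    beta φ₀ f (S - T) b z = beta φ₀ f S b z - beta φ₀ f T b z := cE_sub φ₀ S T _ _

lemma beta_neg (S : A) (b z : ι → F) : beta φ₀ f (-S) b z = -beta φ₀ f S b z := cE_neg φ₀ S _ _

lemma beta_zero (b z : ι → F) : beta φ₀ f (0 : A) b z = 0 := cE_zero φ₀ _ _

lemma beta_op_left (a c : ι → F) (S : A) (b z : ι → F) :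
    beta φ₀ f (φ₀ (op f a c) * S) b z = f a b • beta φ₀ f S c z := by
  have := cE_sandwich φ₀ (op f a c) 1 S (formDual f b) z
  rw [map_one, mul_one, one_mulVec, op, vecMul_vecMulVec, formDual_dot hf.bilinear, cE_smul_left] at this
  exact this

lemma beta_op_right (a c : ι → F) (S : A) (b z : ι → F) :
    beta φ₀ f (S * φ₀ (op f a c)) b z = f z c • beta φ₀ f S b a := by
  have := cE_sandwich φ₀ 1 (op f a c) S (formDual f b) z
  rw [map_one, one_mul, vecMul_one, op_mulVec hf.bilinear, cE_smul_right] at this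
  exact this

variable {e w : ι → F}

lemma Rad.dec (hew : f e w = 1) {S : A} (h : Rad φ₀ f e S) (b z : ι → F) :
    beta φ₀ f S b z = -(f b e) • beta φ₀ f S w (z + f z e • w)
      - f z e • beta φ₀ f S (b + f b e • w) w + (f b e * f z e) • beta φ₀ f S w w := by
  have h0 : ∀ x, f (x + f x e • w) e = 0 := fun x => by
    rw [hf.bilinear.add_left, hf.bilinear.smul_left, hf.skew w e, hew]; ring
  have := h.mid _ _ (h0 b) (h0 z)
  simp only [beta_add₁ hf, beta_add₂ hf, beta_smul₁ hf, beta_smul₂ hf] at this ⊢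
  linear_combination (norm := module) this

lemma Rad.indep (hew : f e w = 1) {w' : ι → F} (hew' : f e w' = 1) {S : A} (h : Rad φ₀ f e S)
    {d : ι → F} (hd : f d e = 0) :
    beta φ₀ f S d w' = beta φ₀ f S d w ∧ beta φ₀ f S w' d = beta φ₀ f S w d := by
  have h0 : f (w' + -w) e = 0 := by
    rw [hf.skew, hf.bilinear.add_right, form_neg_right hf.bilinear, hew, hew']; simp
  have h1 := h.mid _ _ hd h0
  have h2 := h.mid _ _ h0 hd
  rw [← neg_one_smul F w, beta_add₂ hf, beta_smul₂ hf] at h1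
  rw [← neg_one_smul F w, beta_add₁ hf, beta_smul₁ hf] at h2
  exact ⟨by linear_combination (norm := module) h1, by linear_combination (norm := module) h2⟩

lemma Rad.op_mul_eq_zero {S : A} (h : Rad φ₀ f e S) (x : ι → F) : φ₀ (op f x e) * S = 0 :=
  beta_ext φ₀ hf fun b z => by rw [beta_op_left hf, h.left, smul_zero, beta_zero hf]

lemma Rad.mul_op_eq_zero {S : A} (h : Rad φ₀ f e S) (x : ι → F) : S * φ₀ (op f e x) = 0 :=
  beta_ext φ₀ hf fun b z => by rw [beta_op_right hf, h.right, smul_zero, beta_zero hf]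

lemma Rad.mid_left (hew : f e w = 1) {S : A} (h : Rad φ₀ f e S) {b : ι → F} (hb : f b e = 0)
    (x : ι → F) : φ₀ (op f x b) * S = -(φ₀ (op f x e) * beta φ₀ f S b w) :=
  beta_ext φ₀ hf fun b' z => by
    rw [beta_op_left hf, beta_neg hf, beta_of_cm φ₀ hf (cm_beta φ₀ S b w), op_mulVec hf.bilinear,
      hf.bilinear.smul_left, h.dec hf hew b z, hb, zero_smul, add_zero]
    module

lemma Rad.mid_right (hew : f e w = 1) {S : A} (h : Rad φ₀ f e S) {z : ι → F} (hz : f z e = 0)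
    (x : ι → F) : S * φ₀ (op f z x) = φ₀ (op f e x) * beta φ₀ f S w z :=
  beta_ext φ₀ hf fun b y => by
    rw [beta_op_right hf, beta_of_cm φ₀ hf (cm_beta φ₀ S w z), op_mulVec hf.bilinear,
      hf.bilinear.smul_left, h.dec hf hew b z, hz, zero_smul, add_zero, hf.skew b e]
    module

lemma Rad.add {S T : A} (h : Rad φ₀ f e S) (h' : Rad φ₀ f e T) : Rad φ₀ f e (S + T) :=
  ⟨fun z => by rw [beta_add hf, h.left, h'.left, add_zero],
    fun b => by rw [beta_add hf, h.right, h'.right, add_zero],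
    fun b z hb hz => by rw [beta_add hf, h.mid b z hb hz, h'.mid b z hb hz, add_zero]⟩

lemma Rad.neg {S : A} (h : Rad φ₀ f e S) : Rad φ₀ f e (-S) :=
  ⟨fun z => by rw [beta_neg hf, h.left, neg_zero],
    fun b => by rw [beta_neg hf, h.right, neg_zero],
    fun b z hb hz => by rw [beta_neg hf, h.mid b z hb hz, neg_zero]⟩

lemma Rad.sub {S T : A} (h : Rad φ₀ f e S) (h' : Rad φ₀ f e T) : Rad φ₀ f e (S - T) :=
  sub_eq_add_neg S T ▸ h.add hf (h'.neg hf)

/-- A product of two radical elements is central in the radical. -/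
lemma Rad.mul (hew : f e w = 1) {S T : A} (h : Rad φ₀ f e S) (h' : Rad φ₀ f e T) :
    Rad φ₀ f e (S * T) ∧
      ∀ d, f d e = 0 → beta φ₀ f (S * T) d w = 0 ∧ beta φ₀ f (S * T) w d = 0 := by
  have hwe : f w e = -1 := by rw [hf.skew, hew]
  have key₁ : ∀ b, f b e = 0 → ∀ z, beta φ₀ f (S * T) b z = 0 := fun b hb z => by
    have h0 : φ₀ (op f w b) * (S * T) = 0 := by
      rw [← mul_assoc, h.mid_left hf hew hb, neg_mul, (cm_beta φ₀ S b w (op f w e)).eq, mul_assoc,
        h'.op_mul_eq_zero hf, mul_zero, neg_zero]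
    have := beta_op_left hf w b (S * T) e z (φ₀ := φ₀)
    rw [h0, beta_zero hf, hwe] at this
    simpa using this.symm
  have key₂ : ∀ z, f z e = 0 → ∀ b, beta φ₀ f (S * T) b z = 0 := fun z hz b => by
    have h0 : S * T * φ₀ (op f z w) = 0 := by
      rw [mul_assoc, h'.mid_right hf hew hz, ← mul_assoc, h.mul_op_eq_zero hf, zero_mul]
    have := beta_op_right hf z w (S * T) b e (φ₀ := φ₀)
    rw [h0, beta_zero hf, hew, one_smul] at this
    exact this.symm
  exact ⟨⟨key₁ e (hf.alternating e), key₂ e (hf.alternating e), fun b z hb _ => key₁ b hb z⟩,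
    fun d hd => ⟨key₁ d hd w, key₂ d hd w⟩⟩

lemma Rad.eq_central (hew : f e w = 1) {S : A} (h : Rad φ₀ f e S)
    (h₁ : ∀ d, f d e = 0 → beta φ₀ f S d w = 0) (h₂ : ∀ d, f d e = 0 → beta φ₀ f S w d = 0) :
    S = φ₀ (op f e e) * -beta φ₀ f S w w := by
  have h0 : ∀ x, f (x + f x e • w) e = 0 := fun x => by
    rw [hf.bilinear.add_left, hf.bilinear.smul_left, hf.skew w e, hew]; ring
  refine beta_ext φ₀ hf fun b z => ?_
  rw [beta_of_cm φ₀ hf (cm_beta φ₀ S w w).neg, op_mulVec hf.bilinear, hf.bilinear.smul_left,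
    h.dec hf hew b z, h₁ _ (h0 b), h₂ _ (h0 z), hf.skew b e]
  module

lemma Rad.cube (hew : f e w = 1) {S T U : A} (h : Rad φ₀ f e S) (h' : Rad φ₀ f e T)
    (h'' : Rad φ₀ f e U) : S * T * U = 0 := by
  obtain ⟨h1, h2⟩ := h.mul hf hew h'
  rw [h1.eq_central hf hew (fun d hd => (h2 d hd).1) (fun d hd => (h2 d hd).2),
    ((cm_beta φ₀ (S * T) w w).neg (op f e e)).eq, mul_assoc, h''.op_mul_eq_zero hf, mul_zero]

lemma Rad.conj {S : A} (h : Rad φ₀ f e S) {g : GL ι F} (hg : g ∈ isoOf f)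
    (hge : (g : Matrix ι ι F) *ᵥ e = e) : Rad φ₀ f e (cj φ₀ g S) := by
  have he : ((g⁻¹ : GL ι F) : Matrix ι ι F) *ᵥ e = e := by
    conv_lhs => rw [← hge]
    exact gl_inv_mulVec_mulVec g e
  have h0 : ∀ b, f b e = 0 → f (((g⁻¹ : GL ι F) : Matrix ι ι F) *ᵥ b) e = 0 := fun b hb => by
    rw [form_mulVec_left ((isoOf f).inv_mem hg), inv_inv, hge, hb]
  exact ⟨fun z => by rw [beta_cj φ₀ hf hg, he, h.left], fun b => by rw [beta_cj φ₀ hf hg, he, h.right],
    fun b z hb hz => by rw [beta_cj φ₀ hf hg]; exact h.mid _ _ (h0 b hb) (h0 z hz)⟩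

end Beta

variable [Fintype F] {M : Subgroup Aˣ} (C : Ctx f φ M) {j : κ} {e w : ι → F} (hew : f e w = 1)
include C hew

/-- Sums in the radical of the group. -/
lemma RadM.add {S T : A} (h : RadM (φ j) f M e S) (h' : RadM (φ j) f M e T) :
    RadM (φ j) f M e (S + T + S * T) := by
  have hf := C.sys.hf
  obtain ⟨hS, m, hm, hmS⟩ := h
  obtain ⟨hT, n, hn, hnT⟩ := h'
  exact ⟨(hS.add hf hT).add hf (hS.mul hf hew hT).1, m * n, M.mul_mem hm hn, by
    rw [Units.val_mul, hmS, hnT]; noncomm_ring⟩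

/-- Inverses in the radical of the group. -/
lemma RadM.neg {S : A} (h : RadM (φ j) f M e S) : RadM (φ j) f M e (-S + S * S) := by
  have hf := C.sys.hf
  obtain ⟨hS, m, hm, hmS⟩ := h
  refine ⟨(hS.neg hf).add hf (hS.mul hf hew hS).1, m⁻¹, M.inv_mem hm, Units.inv_eq_of_mul_eq_one_right ?_⟩
  rw [hmS]
  have := hS.cube hf hew hS hS
  linear_combination (norm := noncomm_ring) this

/-- The difference of a conjugate. -/
lemma RadM.diff {S : A} (h : RadM (φ j) f M e S) {g : GL ι F} (hg : g ∈ isoOf f)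
    (hge : (g : Matrix ι ι F) *ᵥ e = e) :
    ∃ T, RadM (φ j) f M e T ∧ ∀ d, f d e = 0 → beta (φ j) f T d w =
      beta (φ j) f S (((g⁻¹ : GL ι F) : Matrix ι ι F) *ᵥ d) (((g⁻¹ : GL ι F) : Matrix ι ι F) *ᵥ w)
        - beta (φ j) f S d w := by
  have hf := C.sys.hf
  have hc : RadM (φ j) f M e (cj (φ j) g S) := by
    obtain ⟨m, hm, hmS⟩ := h.2
    refine ⟨h.1.conj hf hg hge, Units.map (φ j : Matrix ι ι F →* A) g * m *
      (Units.map (φ j : Matrix ι ι F →* A) g)⁻¹,
      M.mul_mem (M.mul_mem (C.pure j g hg) hm) (M.inv_mem (C.pure j g hg)), ?_⟩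
    rw [← map_inv, Units.val_mul, Units.val_mul, hmS]
    show φ j (g : Matrix ι ι F) * (1 + S) * φ j ((g⁻¹ : GL ι F) : Matrix ι ι F) = _
    rw [mul_add, add_mul, mul_one, ← map_mul, ← Units.val_mul, mul_inv_cancel, Units.val_one, map_one]
    rfl
  refine ⟨_, RadM.add C hew hc (RadM.neg C hew h), fun d hd => ?_⟩
  rw [beta_add hf, beta_add hf, beta_add hf, beta_neg hf, beta_cj (φ j) hf hg,
    ((h.1.mul hf hew h.1).2 d hd).1, (((h.1.conj hf hg hge).mul hf hew (RadM.neg C hew h).1).2 d hd).1]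
  abel

/-- The two halves of a radical element differ by a scalar. -/
lemma sum_scalar {S : A} (h : RadM (φ j) f M e S) {d : ι → F} (hd : f d e = 0) :
    ∃ a : F, beta (φ j) f S d w + beta (φ j) f S w d = algebraMap F A a := by
  classical
  have hf := C.sys.hf
  obtain ⟨hS, m, hm, hmS⟩ := h
  have hcm : Cm (φ j) (-(beta (φ j) f S d w + beta (φ j) f S w d)) :=
    ((cm_beta _ S d w).add (cm_beta _ S w d)).neg
  set D := φ j (op f e e) * -(beta (φ j) f S d w + beta (φ j) f S w d) with hD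
  have hg := sh_mem_isoOf hf d e 1
  have he : e ≠ 0 := fun h => zero_ne_one (α := F) (by rw [← hew, h, form_zero_left hf.bilinear])
  have hcj : cj (φ j) (sh f d e 1) S = S + D := by
    refine beta_ext (φ j) hf fun b z => ?_
    rw [beta_cj (φ j) hf hg, sh_inv hf hd, sh_mulVec hf hd, sh_mulVec hf hd, beta_add hf, hD,
      beta_of_cm (φ j) hf hcm, op_mulVec hf.bilinear, hf.bilinear.smul_left]
    simp only [beta_add₁ hf, beta_add₂ hf, beta_smul₁ hf, beta_smul₂ hf, hS.left, hS.right]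
    rw [hS.dec hf hew d z, hS.dec hf hew b d, hd, hf.skew b e]
    simp only [beta_add₁ hf, beta_add₂ hf, beta_smul₁ hf, beta_smul₂ hf, hS.mid d d hd hd, zero_smul,
      add_zero, zero_mul, smul_zero]
    module
  obtain ⟨a, ha⟩ := C.noUp j e _ he hcm (Units.map (φ j : Matrix ι ι F →* A) (sh f d e 1) * m *
      (Units.map (φ j : Matrix ι ι F →* A) (sh f d e 1))⁻¹ * m⁻¹)
    (M.mul_mem (M.mul_mem (M.mul_mem (C.pure j _ hg) hm) (M.inv_mem (C.pure j _ hg))) (M.inv_mem hm)) (by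
      rw [Units.val_mul, Units.mul_inv_eq_iff_eq_mul, ← map_inv, Units.val_mul, Units.val_mul, hmS]
      show φ j ((sh f d e 1 : GL ι F) : Matrix ι ι F) * (1 + S) *
        φ j (((sh f d e 1)⁻¹ : GL ι F) : Matrix ι ι F) = (1 + D) * (1 + S)
      have h1 : D * S = 0 := by rw [hD, (hcm _).eq, mul_assoc, hS.op_mul_eq_zero hf, mul_zero]
      rw [mul_add, add_mul, mul_one, ← map_mul, ← Units.val_mul, mul_inv_cancel, Units.val_one, map_one,
        show φ j ((sh f d e 1 : GL ι F) : Matrix ι ι F) * S *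
          φ j (((sh f d e 1)⁻¹ : GL ι F) : Matrix ι ι F) = S + D from hcj]
      linear_combination (norm := noncomm_ring) -h1)
  exact ⟨-a, by rw [map_neg, ← ha, neg_neg]⟩

end CfsgLib.ClassicalMax.TWMax
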