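/-
Radical elements of the group lie in their factor.
-/
import Cfsg.Agent.Lib.ClassicalMax.TWMax.Rad
import Cfsg.Agent.Lib.ClassicalMax.TWMax.RadTest
import Cfsg.Agent.Lib.Aschbacher.Forms
set_option autoImplicit false
set_option linter.unusedSectionVars false

namespace CfsgLib.ClassicalMax.TWMax

open Matrix Cfsg.Geo

variable {F : Type*} [Field F] {ι : Type} [Fintype ι] [DecidableEq ι]
  {f : (ι → F) → (ι → F) → F} {A : Type*} [Ring A] [Algebra F A]
  {κ : Type*} [Fintype κ] [DecidableEq κ] {φ : κ → Matrix ι ι F →ₐ[F] A}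

lemma cj_val (ψ : Matrix ι ι F →ₐ[F] A) (g : GL ι F) (m : Aˣ) :
    ((Units.map (ψ : Matrix ι ι F →* A) g * m * (Units.map (ψ : Matrix ι ι F →* A) g)⁻¹ : Aˣ) : A) =
      cj ψ g (m : A) := by
  rw [← map_inv]; rfl

lemma cj_one_add (ψ : Matrix ι ι F →ₐ[F] A) (g : GL ι F) (S : A) : cj ψ g (1 + S) = 1 + cj ψ g S := by
  rw [cj, cj, mul_add, add_mul, mul_one, ← map_mul, ← Units.val_mul, mul_inv_cancel, Units.val_one,
    map_one]

lemma cj_mul (ψ : Matrix ι ι F →ₐ[F] A) (g : GL ι F) (S T : A) :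
    cj ψ g (S * T) = cj ψ g S * cj ψ g T := by
  rw [cj, cj, cj]
  have h : ψ ((g⁻¹ : GL ι F) : Matrix ι ι F) * ψ (g : Matrix ι ι F) = 1 := by
    rw [← map_mul, ← Units.val_mul, inv_mul_cancel, Units.val_one, map_one]
  simp only [mul_assoc]
  rw [← mul_assoc (ψ ((g⁻¹ : GL ι F) : Matrix ι ι F)) (ψ (g : Matrix ι ι F)), h, one_mul]

lemma cj_mul_inv (ψ : Matrix ι ι F →ₐ[F] A) (g : GL ι F) (S : A) :
    cj ψ g S * ψ (g : Matrix ι ι F) = ψ (g : Matrix ι ι F) * S := by
  rw [cj, mul_assoc, ← map_mul, ← Units.val_mul, inv_mul_cancel, Units.val_one, map_one, mul_one]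

lemma cj_cm (ψ : Matrix ι ι F →ₐ[F] A) {S : A} (h : Cm ψ S) (g : GL ι F) : cj ψ g S = S := by
  rw [cj, (h _).eq, mul_assoc, ← map_mul, ← Units.val_mul, mul_inv_cancel, Units.val_one, map_one,
    mul_one]

variable [Fintype F] [DecidableEq F] {M : Subgroup Aˣ} (C : Ctx f φ M) {j : κ} {e : ι → F}
include C

lemma cm_of_fix (l : κ) {S : A} (h : ∀ u, cj (φ l) (sTv f u 1) S = S) : Cm (φ l) S :=
  cm_of_op_self C.sys.hf fun u => by
    have h1 := cj_mul_inv (φ l) (sTv f u 1) S
    rw [h u, sTv_val C.sys.hf, map_add, map_one, mul_add, add_mul, mul_one, one_mul] at h1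
    exact (add_left_cancel h1).symm

/-- Conjugation by another factor. -/
lemma RadM.other {w : ι → F} (hew : f e w = 1) {S : A} (h : RadM (φ j) f M e S) {l : κ}
    (hl : l ≠ j) {g : GL ι F} (hg : g ∈ isoOf f) :
    RadM (φ j) f M e (cj (φ l) g S) ∧
      ∀ b z, beta (φ j) f (cj (φ l) g S) b z = cj (φ l) g (beta (φ j) f S b z) := by
  have hβ : ∀ b z, beta (φ j) f (cj (φ l) g S) b z = cj (φ l) g (beta (φ j) f S b z) := fun b z =>
    cE_mul_cm (φ j) (C.sys.cm j (Ne.symm hl) _) (C.sys.cm j (Ne.symm hl) _) S _ _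
  have h0 : cj (φ l) g (0 : A) = 0 := by simp [cj]
  obtain ⟨hS, m, hm, hmS⟩ := h
  refine ⟨⟨⟨fun z => by rw [hβ, hS.left, h0], fun b => by rw [hβ, hS.right, h0],
    fun b z hb hz => by rw [hβ, hS.mid b z hb hz, h0]⟩, _,
    M.mul_mem (M.mul_mem (C.pure l g hg) hm) (M.inv_mem (C.pure l g hg)), ?_⟩, hβ⟩
  rw [cj_val, hmS, cj_one_add]

/-- The commutator of two radical elements. -/
lemma comm_scalar {w : ι → F} (hew : f e w = 1) {S T : A} (h : RadM (φ j) f M e S)
    (h' : RadM (φ j) f M e T) :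
    ∃ c : F, beta (φ j) f (S * T) w w - beta (φ j) f (T * S) w w = algebraMap F A c := by
  have hf := C.sys.hf
  obtain ⟨hS, m, hm, hmS⟩ := h
  obtain ⟨hT, n, hn, hnT⟩ := h'
  obtain ⟨hST, hST'⟩ := hS.mul hf hew hT
  obtain ⟨hTS, hTS'⟩ := hT.mul hf hew hS
  have hD := hST.sub hf hTS
  have hDc := hD.eq_central hf hew
    (fun d hd => by rw [beta_sub hf, (hST' d hd).1, (hTS' d hd).1, sub_zero])
    (fun d hd => by rw [beta_sub hf, (hST' d hd).2, (hTS' d hd).2, sub_zero])
  rw [beta_sub hf] at hDc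
  set D := S * T - T * S with hDdef
  have hcm := ((cm_beta (φ j) (f := f) (S * T) w w).sub (cm_beta (φ j) (f := f) (T * S) w w)).neg
  have h1 : D * S = 0 := by rw [hDc, (hcm _).eq, mul_assoc, hS.op_mul_eq_zero hf, mul_zero]
  have h2 : D * T = 0 := by rw [hDc, (hcm _).eq, mul_assoc, hT.op_mul_eq_zero hf, mul_zero]
  have he : e ≠ 0 := fun h => zero_ne_one (α := F) (by rw [← hew, h, form_zero_left hf.bilinear])
  obtain ⟨c, hc⟩ := C.noUp j e _ he hcm (m * n * (n * m)⁻¹)
    (M.mul_mem (M.mul_mem hm hn) (M.inv_mem (M.mul_mem hn hm))) (by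
      rw [← hDc, Units.val_mul, Units.mul_inv_eq_iff_eq_mul, Units.val_mul, Units.val_mul, hmS, hnT]
      linear_combination (norm := noncomm_ring) (-h1) - h2 - congrArg (fun x => x * S) h2 - hDdef)
  exact ⟨-c, by rw [map_neg, ← hc, neg_neg]⟩

/-- The halves of radical elements are scalars. -/
theorem rho_scalar {w : ι → F} (hew : f e w = 1) {S₀ : A} (hS₀ : RadM (φ j) f M e S₀) {r : ι → F}
    (hre : f r e = 0) : ∃ c : F, beta (φ j) f S₀ r w = algebraMap F A c := by
  have hf := C.sys.hf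
  have hb := hf.bilinear
  have := C.sys.nontriv
  by_contra hns
  push Not at hns
  have he : e ≠ 0 := fun h => zero_ne_one (α := F) (by rw [← hew, h, form_zero_left hb])
  have hli : LinearIndependent F ![e, r] := by
    rw [LinearIndependent.pair_iff' he]
    intro a ha
    apply hns 0
    rw [← ha, beta_smul₁ hf, hS₀.1.left, smul_zero, map_zero]
  obtain ⟨r₂, hr₂⟩ := exists_pairing hf hli ![0, 1]
  have her₂ : f e r₂ = 0 := hr₂ 0
  have hrr₂ : f r r₂ = 1 := hr₂ 1
  have hr₂r : f r₂ r = -1 := by rw [hf.skew, hrr₂]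
  have hr₂e : f r₂ e = 0 := by rw [hf.skew, her₂, neg_zero]
  have her : f e r = 0 := by rw [hf.skew, hre, neg_zero]
  have hli3 : LinearIndependent F ![e, r, r₂] := by
    rw [Fintype.linearIndependent_iff]
    intro c hc
    simp only [Fin.sum_univ_three, Matrix.cons_val] at hc
    have h2 : c 2 = 0 := by
      have := congrArg (fun x => f x r) hc
      simpa [hb.add_left, hb.smul_left, her, hr₂r, hf.alternating, form_zero_left hb] using this
    rw [h2, zero_smul, add_zero] at hc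
    obtain ⟨h0, h1⟩ := LinearIndependent.pair_iff.1 hli _ _ hc
    intro i
    fin_cases i
    exacts [h0, h1, h2]
  have h4 : 4 ≤ Fintype.card ι := by
    have h3 : 3 ≤ Fintype.card ι := by
      simpa [Module.finrank_fintype_fun_eq_card] using hli3.fintype_card_le_finrank
    obtain ⟨x, hx⟩ := CfsgLib.Asch.symplectic_even hf
    omega
  obtain ⟨w', hw'⟩ := exists_pairing hf hli3 ![1, 0, 0]
  have hew' : f e w' = 1 := hw' 0
  have hwe : f w' e = -1 := by rw [hf.skew, hew']
  have hwr : f w' r = 0 := by rw [hf.skew, show f r w' = 0 from hw' 1, neg_zero]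
  have hwr₂ : f w' r₂ = 0 := by rw [hf.skew, show f r₂ w' = 0 from hw' 2, neg_zero]
  rw [← (hS₀.1.indep hf hew hew' hre).1] at hns
  clear hew hw' w
  let KK : AddSubgroup A :=
    { carrier := {c | ∃ S, RadM (φ j) f M e S ∧ ∀ d, f d e = 0 → beta (φ j) f S d w' = f d r • c}
      zero_mem' := ⟨0, ⟨⟨fun z => beta_zero hf _ _, fun b => beta_zero hf _ _,
        fun b z _ _ => beta_zero hf _ _⟩, 1, M.one_mem, by rw [Units.val_one, add_zero]⟩,
        fun d _ => by rw [beta_zero hf, smul_zero]⟩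
      add_mem' := by
        rintro c c' ⟨S, hS, hc⟩ ⟨T, hT, hc'⟩
        refine ⟨_, RadM.add C hew' hS hT, fun d hd => ?_⟩
        rw [beta_add hf, beta_add hf, hc d hd, hc' d hd, ((hS.1.mul hf hew' hT.1).2 d hd).1,
          add_zero, smul_add]
      neg_mem' := by
        rintro c ⟨S, hS, hc⟩
        refine ⟨_, RadM.neg C hew' hS, fun d hd => ?_⟩
        rw [beta_add hf, beta_neg hf, hc d hd, ((hS.1.mul hf hew' hS.1).2 d hd).1, add_zero, smul_neg] }
  -- concentrating at a vector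
  have conc : ∀ {S : A}, RadM (φ j) f M e S → ∀ u, f u e = 0 → ∃ T, RadM (φ j) f M e T ∧
      ∀ d, f d e = 0 → beta (φ j) f T d w' = f d u • beta (φ j) f S u w' := by
    intro S hS u hu
    obtain ⟨T, hT, hρ⟩ := RadM.diff C hew' hS (sTv_mem_isoOf hf u (-1))
      (by rw [sTv_mulVec hf, hf.skew e u, hu, neg_zero, mul_zero, zero_smul, add_zero])
    refine ⟨T, hT, fun d hd => ?_⟩
    rw [hρ d hd, sTv_inv hf, neg_neg, sTv_mulVec hf, sTv_mulVec hf, one_mul, one_mul]
    simp only [beta_add₁ hf, beta_add₂ hf, beta_smul₁ hf, beta_smul₂ hf, hS.1.mid d u hd hu,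
      hS.1.mid u u hu hu, smul_zero, add_zero]
    abel
  have hK0 : beta (φ j) f S₀ r w' ∈ KK := conc hS₀ r hre
  have hKcm : ∀ c ∈ KK, Cm (φ j) c := by
    rintro c ⟨S, -, hc⟩
    have := hc (-r₂) (by rw [← neg_one_smul F r₂, hb.smul_left, hr₂e, mul_zero])
    rw [show f (-r₂) r = 1 by rw [← neg_one_smul F r₂, hb.smul_left, hr₂r]; ring, one_smul] at this
    exact this ▸ cm_beta (φ j) S _ _
  have hKinv : ∀ l, l ≠ j → ∀ g ∈ isoOf f, ∀ c ∈ KK, cj (φ l) g c ∈ KK := by
    rintro l hl g hg c ⟨S, hS, hc⟩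
    obtain ⟨h1, h2⟩ := RadM.other C hew' hS hl hg
    refine ⟨_, h1, fun d hd => ?_⟩
    rw [h2, hc d hd]
    simp [cj]
  -- the relation
  have hrel : ∀ K₁ ∈ KK, ∃ a₁ : F, ∀ K₂ ∈ KK, ∃ a₂ c : F,
      K₁ * K₂ + K₂ * K₁ + a₁ • K₂ + a₂ • K₁ = algebraMap F A c := by
    rintro K₁ ⟨S, hS, hc₁⟩
    obtain ⟨a₁, ha₁⟩ := sum_scalar C hew' hS hr₂e
    refine ⟨a₁, ?_⟩
    rintro K₂ ⟨T₀, hT₀, hc₂₀⟩
    obtain ⟨T, hT, hc₂⟩ := conc hT₀ r₂ hr₂e
    rw [hc₂₀ r₂ hr₂e, hr₂r] at hc₂
    obtain ⟨a₂, ha₂⟩ := sum_scalar C hew' hT hre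
    refine ⟨a₂, ?_⟩
    obtain ⟨c, hc⟩ := comm_scalar C hew' hS hT
    refine ⟨c, ?_⟩
    have hprod : ∀ (P Q : A), Rad (φ j) f e P → Rad (φ j) f e Q → ∀ v K, f v e = 0 → f w' v = 0 →
        (∀ d, f d e = 0 → beta (φ j) f Q d w' = f d v • K) →
        beta (φ j) f (P * Q) w' w' = -(beta (φ j) f P w' v * K) := by
      intro P Q hP hQ v K hv hwv hK
      have hcol : ∀ l, cE (φ j) Q (Pi.single l 1) w' = (-v l) • K + e l • beta (φ j) f Q w' w' := by
        intro l
        obtain ⟨b, hb'⟩ := exists_formDual_eq hb hf.nondegenerate (Pi.single l 1 : ι → F)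
        have hcoord : ∀ x, f x b = x l := fun x => by
          rw [← formDual_dot hb, hb', single_dotProduct, one_mul]
        have hbe : f (b + f b e • w') e = 0 := by rw [hb.add_left, hb.smul_left, hwe]; ring
        have h1 := hK _ hbe
        rw [beta_add₁ hf, beta_smul₁ hf, hb.add_left, hb.smul_left, hwv, mul_zero, add_zero,
          hf.skew b v, hcoord, hf.skew b e, hcoord] at h1
        rw [← hb', ← beta]
        linear_combination (norm := module) h1
      rw [beta, cE_comp]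
      have hlin : ∀ x : ι → F, ∑ l, x l • cE (φ j) P (formDual f w') (Pi.single l 1) =
          beta (φ j) f P w' x := fun x => by
        rw [beta]
        conv_rhs => rw [← vec_sum x]
        rw [show cE (φ j) P (formDual f w') (∑ l, x l • (Pi.single l 1 : ι → F)) =
          ∑ l, cE (φ j) P (formDual f w') (x l • (Pi.single l 1 : ι → F)) from
            map_sum (AddMonoidHom.mk' (fun y => cE (φ j) P (formDual f w') y)
              (cE_add_right (φ j) P _)) _ _]
        simp only [cE_smul_right]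
      simp only [hcol, mul_add, mul_neg, mul_smul_comm, neg_smul, ← smul_mul_assoc, Finset.sum_add_distrib,
        Finset.sum_neg_distrib, ← Finset.sum_mul, hlin, hP.right, zero_mul, add_zero]
    have hc₂' : ∀ d, f d e = 0 → beta (φ j) f T d w' = f d r₂ • ((-1 : F) • K₂) := hc₂
    rw [hprod S T hS.1 hT.1 r₂ _ hr₂e hwr₂ hc₂', hprod T S hT.1 hS.1 r K₁ hre hwr hc₁,
      show beta (φ j) f S w' r₂ = algebraMap F A a₁ + K₁ by
        rw [← ha₁, hc₁ r₂ hr₂e, hr₂r]; module,
      show beta (φ j) f T w' r = algebraMap F A a₂ + K₂ by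
        rw [← ha₂, hc₂' r hre, hrr₂]; module] at hc
    simp only [Algebra.smul_def, map_neg, map_one] at hc ⊢
    linear_combination (norm := noncomm_ring) hc
  -- a factor where the value is not scalar
  obtain ⟨l, hl⟩ : ∃ l, ¬ Cm (φ l) (beta (φ j) f S₀ r w') := by
    by_contra! hall
    obtain ⟨c, hc⟩ := C.sys.central _ hall
    exact hns c hc
  have hlj : l ≠ j := fun h => hl (h ▸ cm_beta (φ j) S₀ r w')
  obtain ⟨X, c', hX, hc0, hc'l, hmem, hcom⟩ :=
    alg_sweep (φ l) hf C.hq C.h24 C.two_le (hKinv l hlj) hK0 hl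
  have hc'j : Cm (φ j) c' := fun Z => hcom _ (C.sys.cm l hlj Z) (fun T hT => hKcm T hT Z)
  let TT : AddSubgroup A :=
    { carrier := {T | Cm (φ l) T ∧ φ l X * T ∈ KK}
      zero_mem' := ⟨fun Z => Commute.zero_right _, by simp⟩
      add_mem' := fun hT hT' => ⟨hT.1.add hT'.1, by rw [mul_add]; exact KK.add_mem hT.2 hT'.2⟩
      neg_mem' := fun hT => ⟨hT.1.neg, by rw [mul_neg]; exact KK.neg_mem hT.2⟩ }
  have hTinv : ∀ m, m ≠ j → m ≠ l → ∀ g ∈ isoOf f, ∀ T ∈ TT, cj (φ m) g T ∈ TT := by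
    rintro m hmj hml g hg T ⟨hT1, hT2⟩
    refine ⟨((C.sys.cm l (Ne.symm hml) _).mul hT1).mul (C.sys.cm l (Ne.symm hml) _), ?_⟩
    rw [← cj_cm (φ m) (C.sys.cm m hml X) g, ← cj_mul]
    exact hKinv m hmj g hg _ hT2
  have hc'T : c' ∈ TT := ⟨hc'l, hmem⟩
  obtain ⟨g, hg, z, b, hXz, hYz, hYXz, hXYz, hzb⟩ := exists_test hf h4 hX
  set Y := (g : Matrix ι ι F) * X * ((g⁻¹ : GL ι F) : Matrix ι ι F) with hY
  have hprodT : ∀ T ∈ TT, ∃ c : F, c' * T = (f z b * c) • (1 : A) := by
    rintro T ⟨hT1, hT2⟩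
    have hK₂ : φ l Y * T ∈ KK := by
      have := hKinv l hlj g hg _ hT2
      rw [cj_mul, cj_cm (φ l) hT1, cj, ← map_mul, ← map_mul] at this
      exact this
    obtain ⟨a₁, h⟩ := hrel _ hmem
    obtain ⟨a₂, c, hac⟩ := h _ hK₂
    refine ⟨c, ?_⟩
    have h1 : φ l X * c' * (φ l Y * T) = φ l (X * Y) * (c' * T) := by
      rw [map_mul (φ l) X Y, mul_assoc, ← mul_assoc c', ← (hc'l Y).eq]; noncomm_ring
    have h2 : φ l Y * T * (φ l X * c') = φ l (Y * X) * (T * c') := by
      rw [map_mul (φ l) Y X, mul_assoc, ← mul_assoc T, ← (hT1 X).eq]; noncomm_ring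
    rw [h1, h2] at hac
    have h3 := congrArg (fun S => beta (φ l) f S b z) hac
    simp only [beta_add hf, ← mul_smul_comm, beta_of_cm (φ l) hf (hc'l.mul hT1),
      beta_of_cm (φ l) hf (hT1.mul hc'l), beta_of_cm (φ l) hf (hT1.smul _),
      beta_of_cm (φ l) hf (hc'l.smul _), beta_cm (φ l) hf (Cm.algebraMap (φ l) c), hXz, hYz, hYXz,
      hXYz, one_smul, zero_smul, add_zero, mul_zero] at h3
    rw [h3, Algebra.algebraMap_eq_smul_one, smul_smul]
  -- the cofactor is a scalar
  have hsc : ∃ γ : F, c' = algebraMap F A γ := by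
    obtain ⟨c₀, hc₀⟩ := hprodT c' hc'T
    by_cases hα : f z b * c₀ = 0
    · exfalso
      have hall : ∀ T ∈ TT, c' * T = 0 := by
        intro T hT
        obtain ⟨c, hc⟩ := hprodT T hT
        by_cases h0 : f z b * c = 0
        · rw [hc, h0, zero_smul]
        · exfalso
          have h2 : (c' * c') * T = c' * (c' * T) := mul_assoc _ _ _
          rw [hc₀, hα, zero_smul, zero_mul, hc, mul_smul_comm, mul_one] at h2
          exact hc0 ((smul_eq_zero.1 h2.symm).resolve_left h0)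
      let B : Subalgebra F A :=
        { carrier := {Q | ∀ P, (∀ T ∈ TT, c' * P * T = 0) → ∀ T ∈ TT, c' * (P * Q) * T = 0}
          mul_mem' := fun {Q Q'} hQ hQ' P hP T hT => by
            rw [← mul_assoc P Q Q']; exact hQ' _ (hQ P hP) T hT
          one_mem' := fun P hP T hT => by rw [mul_one]; exact hP T hT
          add_mem' := fun {Q Q'} hQ hQ' P hP T hT => by
            rw [mul_add, mul_add, add_mul, hQ P hP T hT, hQ' P hP T hT, add_zero]
          zero_mem' := fun P _ T _ => by rw [mul_zero, mul_zero, zero_mul]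
          algebraMap_mem' := fun a P hP T hT => by
            rw [← Algebra.commutes, ← Algebra.smul_def, mul_smul_comm, smul_mul_assoc, hP T hT,
              smul_zero] }
      have hB : ∀ m ∈ (Finset.univ.erase j).erase l, ∀ Z, φ m Z ∈ B := by
        intro m hm Z
        simp only [Finset.mem_erase] at hm
        refine top_of_op_self hf (B.comap (φ m)) (fun u => ?_) Z
        have h1 : φ m (sTv f u 1 : Matrix ι ι F) ∈ B := fun P hP T hT => by
          have h2 := hP _ (hTinv m hm.2.1 hm.1 _ (sTv_mem_isoOf hf u 1) T hT)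
          have h3 : φ m (sTv f u 1 : Matrix ι ι F) * T =
              cj (φ m) (sTv f u 1) T * φ m (sTv f u 1 : Matrix ι ι F) := (cj_mul_inv _ _ _).symm
          calc c' * (P * φ m (sTv f u 1 : Matrix ι ι F)) * T
              = c' * P * (φ m (sTv f u 1 : Matrix ι ι F) * T) := by noncomm_ring
            _ = c' * P * cj (φ m) (sTv f u 1) T * φ m (sTv f u 1 : Matrix ι ι F) := by
                rw [h3, ← mul_assoc]
            _ = 0 := by rw [h2, zero_mul]
        have := B.sub_mem h1 B.one_mem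
        rwa [sTv_val hf, map_add, map_one, add_sub_cancel_left] at this
      have hU : ∀ {T : A}, Cm (φ l) T → Cm (φ j) T → ∀ m ∉ (Finset.univ.erase j).erase l, Cm (φ m) T := by
        intro T h1 h2 m hm
        rcases eq_or_ne m l with rfl | hml
        · exact h1
        · obtain rfl : m = j := by simpa [hml] using hm
          exact h2
      refine hc0 ((C.sys.prime _ c' c' (hU hc'l hc'j) (hU hc'l hc'j) fun T hT => ?_).elim id id)
      have := C.sys.mem_sub B _ hB T hT 1 (fun T hT => by rw [mul_one]; exact hall T hT) c' hc'T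
      rwa [one_mul] at this
    · refine C.sys.central c' fun m => ?_
      rcases eq_or_ne m l with rfl | hml
      · exact hc'l
      rcases eq_or_ne m j with rfl | hmj
      · exact hc'j
      have hline : ∀ T ∈ TT, ∃ s : F, T = s • c' := by
        intro T hT
        obtain ⟨c, hc⟩ := hprodT T hT
        refine ⟨(f z b * c₀)⁻¹ * (f z b * c), ?_⟩
        have h2 : (c' * c') * T = c' * (c' * T) := mul_assoc _ _ _
        rw [hc₀, hc, smul_mul_assoc, one_mul, mul_smul_comm, mul_one] at h2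
        rw [mul_smul, ← h2, smul_smul, inv_mul_cancel₀ hα, one_smul]
      have hsq : ∀ u (s : F), ∃ t : F, t ^ 2 = 1 ∧ cj (φ m) (sTv f u s) c' = t • c' := by
        intro u s
        obtain ⟨t, ht⟩ := hline _ (hTinv m hmj hml _ (sTv_mem_isoOf hf u s) _ hc'T)
        refine ⟨t, ?_, ht⟩
        have h1 := cj_mul (φ m) (sTv f u s) c' c'
        rw [hc₀, ht, cj_cm (φ m) (Cm.one.smul _), smul_mul_smul_comm, hc₀, smul_smul] at h1
        have h2 : f z b * c₀ = t * t * (f z b * c₀) := by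
          by_contra hne
          have h3 := sub_smul (f z b * c₀) (t * t * (f z b * c₀)) (1 : A)
          rw [sub_eq_zero.2 h1] at h3
          exact one_ne_zero ((smul_eq_zero.1 h3).resolve_left (sub_ne_zero.2 hne))
        have h4 := mul_right_cancel₀ hα ((one_mul _).trans h2)
        rw [pow_two, ← h4]
      refine cm_of_fix C m fun u => ?_
      obtain ⟨t, ht2, ht⟩ := hsq u 1
      suffices h1 : t = 1 by rw [ht, h1, one_smul]
      by_cases h2 : (2 : F) = 0
      · have : (t - 1) ^ 2 = 0 := by linear_combination ht2 + (1 - t) * h2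
        exact sub_eq_zero.1 (pow_eq_zero_iff two_ne_zero |>.1 this)
      · obtain ⟨s, hs2, hs⟩ := hsq u (2 : F)⁻¹
        have h3 : sTv f u (1 : F) = sTv f u (2 : F)⁻¹ * sTv f u (2 : F)⁻¹ := by
          rw [sTv_add hf]; congr 1; field_simp; norm_num
        have h4 : ∀ (g g' : GL ι F), cj (φ m) (g * g') c' = cj (φ m) g (cj (φ m) g' c') := fun g g' => by
          simp only [cj, _root_.mul_inv_rev, Units.val_mul, map_mul, mul_assoc]
        have h5 : t • c' = (s * s) • c' := by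
          rw [← ht, h3, h4, hs, cj, mul_smul_comm, smul_mul_assoc, ← cj, hs, smul_smul]
        have h6 := sub_smul t (s * s) c'
        rw [h5, sub_self] at h6
        rw [sub_eq_zero.1 ((smul_eq_zero.1 h6).resolve_right hc0), ← pow_two, hs2]
  obtain ⟨γ, rfl⟩ := hsc
  have hγ : γ ≠ 0 := fun h => hc0 (by rw [h, map_zero])
  rcases hzb with hzb | ⟨⟨u₁, u₂, hli', huu, rfl⟩, h5⟩
  · obtain ⟨c, hc⟩ := hprodT _ hc'T
    rw [hzb, zero_mul, zero_smul, ← map_mul] at hc
    exact mul_ne_zero hγ hγ ((algebraMap F A).injective (hc.trans (map_zero _).symm))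
  obtain ⟨h2, τ, hτ⟩ := C.big.resolve_left h5
  obtain ⟨S, hS, hc⟩ := hmem
  set K := φ l (op f u₁ u₂ - op f u₂ u₁) * algebraMap F A γ with hK
  have hKτ : τ K = K := by
    rw [hK, ← Algebra.commutes, ← Algebra.smul_def, map_smul, map_sub, map_sub, hτ.slot, hτ.slot]
    congr 1
    abel
  obtain ⟨a, ha⟩ := sum_scalar C hew' hS hr₂e
  obtain ⟨hSr, m, hm, hmS⟩ := hS
  have hτS : τ S = -S + S * S := by
    have h1 := hτ.inv m hm
    have h11 : τ 1 = 1 := by simpa using hτ.inv 1 M.one_mem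
    rw [hmS, map_add, h11] at h1
    have h12 : ((m⁻¹ : Aˣ) : A) = 1 + (-S + S * S) := by
      refine Units.inv_eq_of_mul_eq_one_right ?_
      rw [hmS]
      have := hSr.cube hf hew' hSr hSr
      linear_combination (norm := noncomm_ring) this
    rw [h12] at h1
    exact add_left_cancel h1
  -- transpose the relation defining the value
  have h1 : φ j (op f w' r₂) * S * φ j (op f w' e) = φ j (op f w' e) * (-K) := by
    rw [← mul_beta (φ j) hf S w' e r₂ w', hc r₂ hr₂e, hr₂r, neg_one_smul]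
  have h2' := congrArg τ h1
  rw [hτ.mul, hτ.mul, hτ.mul, hτ.slot, hτ.slot, hτS, map_neg, hKτ] at h2'
  have hKj : Cm (φ j) K := hKcm K ⟨S, ⟨hSr, m, hm, hmS⟩, hc⟩
  have h6 : φ j (op f e w') * beta (φ j) f (-S + S * S) w' r₂ = φ j (op f e w') * K := by
    rw [mul_beta (φ j) hf]
    simp only [mul_assoc, neg_mul, mul_neg, neg_neg] at h2' ⊢
    rw [h2', (hKj _).eq]
  have hw0 : w' ≠ 0 := fun h => zero_ne_one (α := F) (by rw [← hew', h, form_zero_right hb])
  have h7 : beta (φ j) f (-S + S * S) w' r₂ = K :=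
    sub_eq_zero.1 (cm_eq_zero (φ j) ((cm_beta (φ j) _ w' r₂).sub hKj) (op_ne_zero hf he hw0)
      (by rw [mul_sub, h6, sub_self]))
  rw [beta_add hf, beta_neg hf, ((hSr.mul hf hew' hSr).2 r₂ hr₂e).2, add_zero] at h7
  rw [hc r₂ hr₂e, hr₂r, ← neg_neg (beta (φ j) f S w' r₂), h7, neg_one_smul] at ha
  -- the factor would be scalar
  have hmat : φ l (op f u₁ u₂ - op f u₂ u₁) * algebraMap F A (2 * γ) = algebraMap F A (-a) := by
    rw [map_mul (algebraMap F A), map_ofNat, map_neg, ← ha, hK]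
    noncomm_ring
  set X := op f u₁ u₂ - op f u₂ u₁ with hXdef
  have hXX : X * X = 0 := by
    rw [hXdef, sub_mul, mul_sub, mul_sub, op_mul hb, op_mul hb, op_mul hb, op_mul hb,
      hf.alternating, hf.alternating, huu, hf.skew u₂ u₁, huu]
    simp
  have ha0 : a = 0 := by
    have h8 := congrArg₂ (· * ·) hmat hmat
    beta_reduce at h8
    rw [mul_assoc, ← mul_assoc (algebraMap F A (2 * γ)), Algebra.commutes (2 * γ) (φ l X), ← mul_assoc,
      ← mul_assoc, ← map_mul (φ l), hXX, map_zero, zero_mul, zero_mul, ← map_mul] at h8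
    have h9 := (algebraMap F A).injective ((map_zero _).trans h8)
    simpa using h9.symm
  rw [ha0, neg_zero, map_zero] at hmat
  have hX0 : X ≠ 0 := fun h => by
    obtain ⟨x, hx⟩ := exists_pairing hf hli' ![0, 1]
    have h9 := congrArg (fun Z => Z *ᵥ x) h
    simp only [hXdef, sub_mulVec, op_mulVec hb, hf.skew x u₂, hf.skew x u₁, show f u₁ x = 0 from hx 0,
      show f u₂ x = 1 from hx 1, neg_zero, zero_smul, sub_zero, zero_mulVec, neg_smul, one_smul,
      neg_eq_zero] at h9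
    exact LinearIndependent.ne_zero 0 hli' h9
  have := cm_eq_zero (φ l) (Cm.algebraMap (φ l) (2 * γ)) hX0 hmat
  exact mul_ne_zero h2 hγ ((algebraMap F A).injective (this.trans (map_zero _).symm))

end CfsgLib.ClassicalMax.TWMax
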