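/-
Radical elements of the group are elements of the factor.
-/
import Cfsg.Agent.Lib.ClassicalMax.TWMax.RadScalar
set_option autoImplicit false
set_option linter.unusedSectionVars false

namespace CfsgLib.ClassicalMax.TWMax

open Matrix Cfsg.Geo

variable {F : Type*} [Field F] {ι : Type} [Fintype ι] [DecidableEq ι]
  {f : (ι → F) → (ι → F) → F} {A : Type*} [Ring A] [Algebra F A]
  {κ : Type*} [Fintype κ] [DecidableEq κ] {φ : κ → Matrix ι ι F →ₐ[F] A}
  [Fintype F] [DecidableEq F] {M : Subgroup Aˣ} (C : Ctx f φ M) {j : κ} {e : ι → F}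
include C

/-- Radical elements in the group come from the factor. -/
theorem rad_range {w : ι → F} (hew : f e w = 1) {S : A} (h : RadM (φ j) f M e S) :
    ∃ X, S = φ j X := by
  have hf := C.sys.hf
  have hb := hf.bilinear
  have he : e ≠ 0 := fun h => zero_ne_one (α := F) (by rw [← hew, h, form_zero_left hb])
  have hwe : f w e = -1 := by rw [hf.skew, hew]
  have hρ : ∀ d, f d e = 0 → beta (φ j) f S d w ∈ (⊥ : Subalgebra F A) := fun d hd => by
    obtain ⟨c, hc⟩ := rho_scalar C hew h hd
    rw [hc]
    exact Subalgebra.algebraMap_mem _ c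
  have hlam : ∀ d, f d e = 0 → beta (φ j) f S w d ∈ (⊥ : Subalgebra F A) := fun d hd => by
    obtain ⟨a, ha⟩ := sum_scalar C hew h hd
    have := Subalgebra.sub_mem _ (Subalgebra.algebraMap_mem (⊥ : Subalgebra F A) a) (hρ d hd)
    rwa [← ha, add_sub_cancel_left] at this
  have hμ : beta (φ j) f S w w ∈ (⊥ : Subalgebra F A) := by
    by_cases h3 : 3 ≤ Fintype.card ι
    · obtain ⟨c, hc⟩ := C.sys.central (beta (φ j) f S w w) fun l => by
        rcases eq_or_ne l j with rfl | hl
        · exact cm_beta _ S w w
        refine cm_of_fix C l fun u => ?_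
        rcases eq_or_ne u 0 with rfl | hu
        · have h1 : sTv f (0 : ι → F) 1 = 1 := gl_ext_mulVec fun x => by
            rw [sTv_mulVec hf, smul_zero, add_zero, Units.val_one, one_mulVec]
          rw [h1]
          simp [cj]
        have hg := sTv_mem_isoOf hf u 1
        obtain ⟨h1, h2⟩ := RadM.other C hew h hl hg
        set T := cj (φ l) (sTv f u 1) S with hT
        have hfix : ∀ {c : A}, c ∈ (⊥ : Subalgebra F A) → cj (φ l) (sTv f u 1) c = c := fun {c} hc => by
          obtain ⟨a, rfl⟩ := Algebra.mem_bot.1 hc
          exact cj_cm (φ l) (Cm.algebraMap (φ l) a) _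
        have hD := h1.1.sub hf h.1
        have hDc := hD.eq_central hf hew
          (fun d hd => by rw [beta_sub hf, h2, hfix (hρ d hd), sub_self])
          (fun d hd => by rw [beta_sub hf, h2, hfix (hlam d hd), sub_self])
        rw [beta_sub hf, h2] at hDc
        set δ := cj (φ l) (sTv f u 1) (beta (φ j) f S w w) - beta (φ j) f S w w with hδ
        have hcm : Cm (φ j) (-δ) := by
          rw [hδ, ← h2, ← beta_sub hf]
          exact (cm_beta (φ j) (T - S) w w).neg
        obtain ⟨hS, m, hm, hmS⟩ := h
        obtain ⟨m', hm', hmT⟩ := h1.2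
        have hz : (T - S) * S = 0 := by rw [hDc, (hcm _).eq, mul_assoc, hS.op_mul_eq_zero hf, mul_zero]
        obtain ⟨c, hc⟩ := C.noUp j e (-δ) he hcm (m' * m⁻¹) (M.mul_mem hm' (M.inv_mem hm)) (by
          rw [← hDc, Units.val_mul, Units.mul_inv_eq_iff_eq_mul, hmT, hmS]
          linear_combination (norm := noncomm_ring) -hz)
        -- the scalar vanishes
        obtain ⟨u', hu'⟩ := exists_pairing hf (v := ![u]) (LinearIndependent.of_subsingleton 0 hu) ![1]
        obtain ⟨x, hx0, hx⟩ := exists_orth hb ![u, u'] (by omega)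
        have hux : f u x = 0 := hx 0
        have hli : LinearIndependent F ![u, x] := by
          rw [LinearIndependent.pair_iff]
          intro s t hst
          have hs : s = 0 := by
            have h5 := congrArg (fun y => f y u') hst
            simpa [hb.add_left, hb.smul_left, show f u u' = 1 from hu' 0, hf.skew x u',
              show f u' x = 0 from hx 1, form_zero_left hb] using h5
          subst hs
          rw [zero_smul, zero_add] at hst
          exact ⟨rfl, (smul_eq_zero.1 hst).resolve_right hx0⟩
        obtain ⟨b, hb'⟩ := exists_pairing hf hli ![0, 1]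
        have hbu : f b u = 0 := by rw [hf.skew, show f u b = 0 from hb' 0, neg_zero]
        have hxu : f x u = 0 := by rw [hf.skew, hux, neg_zero]
        have h3 : beta (φ l) f (cj (φ l) (sTv f u 1) (beta (φ j) f S w w)) b x =
            beta (φ l) f (beta (φ j) f S w w) b x := by
          rw [beta_cj (φ l) hf hg, sTv_inv hf, sTv_mulVec hf, sTv_mulVec hf, hbu, hxu]
          simp
        have hc' : δ = algebraMap F A (-c) := by rw [map_neg, ← hc, neg_neg]
        have h4 : beta (φ l) f δ b x = 0 := by rw [hδ, beta_sub hf, h3, sub_self]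
        rw [hc', beta_cm (φ l) hf (Cm.algebraMap (φ l) _), show f x b = 1 from hb' 1, one_smul] at h4
        exact sub_eq_zero.1 (hδ ▸ (hc'.trans h4))
      rw [hc]
      exact Subalgebra.algebraMap_mem _ c
    · have hz : ∀ d, f d e = 0 → ∃ a : F, d = a • e := fun d hd => by
        by_contra! hne
        have hli : LinearIndependent F ![e, d] := by
          rw [LinearIndependent.pair_iff' he]
          exact fun a ha => hne a ha.symm
        obtain ⟨y, hy⟩ := exists_pairing hf hli ![0, 1]
        have hli3 : LinearIndependent F ![e, d, y] := by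
          rw [Fintype.linearIndependent_iff]
          intro c hc
          simp only [Fin.sum_univ_three, Matrix.cons_val] at hc
          have h2 : c 2 = 0 := by
            have h5 := congrArg (fun x => f x d) hc
            simpa [hb.add_left, hb.smul_left, hf.skew e d, hd, hf.skew y d, show f d y = 1 from hy 1,
              hf.alternating, form_zero_left hb] using h5
          rw [h2, zero_smul, add_zero] at hc
          obtain ⟨h0, h1⟩ := LinearIndependent.pair_iff.1 hli _ _ hc
          intro i
          fin_cases i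
          exacts [h0, h1, h2]
        exact h3 (by simpa [Module.finrank_fintype_fun_eq_card] using hli3.fintype_card_le_finrank)
      have hS := h.1.eq_central hf hew
        (fun d hd => by obtain ⟨a, rfl⟩ := hz d hd; rw [beta_smul₁ hf, h.1.left, smul_zero])
        (fun d hd => by obtain ⟨a, rfl⟩ := hz d hd; rw [beta_smul₂ hf, h.1.right, smul_zero])
      obtain ⟨m, hm, hmS⟩ := h.2
      obtain ⟨c, hc⟩ := C.noUp j e _ he (cm_beta (φ j) S w w).neg m hm (by rw [hmS, ← hS])
      rw [← neg_neg (beta (φ j) f S w w), hc, ← map_neg]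
      exact Subalgebra.algebraMap_mem _ _
  have hall : ∀ b z, beta (φ j) f S b z ∈ (⊥ : Subalgebra F A) := fun b z => by
    have h0 : ∀ x, f (x + f x e • w) e = 0 := fun x => by
      rw [hb.add_left, hb.smul_left, hwe]; ring
    rw [h.1.dec hf hew b z]
    exact Subalgebra.add_mem _ (Subalgebra.sub_mem _ (Subalgebra.smul_mem _ (hlam _ (h0 z)) _)
      (Subalgebra.smul_mem _ (hρ _ (h0 b)) _)) (Subalgebra.smul_mem _ hμ _)
  refine C.sys.bicomm fun T hT => beta_ext (φ j) hf fun b z => ?_
  obtain ⟨a, ha⟩ := Algebra.mem_bot.1 (hall b z)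
  have h1 := cE_mul_cm (φ j) hT Cm.one S (formDual f b) z
  have h2 := cE_mul_cm (φ j) Cm.one hT S (formDual f b) z
  rw [mul_one, mul_one] at h1
  rw [one_mul, one_mul] at h2
  show cE (φ j) _ _ _ = cE (φ j) _ _ _
  rw [h1, h2]
  show T * beta (φ j) f S b z = beta (φ j) f S b z * T
  rw [← ha, Algebra.commutes]

end CfsgLib.ClassicalMax.TWMax
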