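/-
An element carrying a root of one factor to a root of another carries the centraliser of the one
factor into the centraliser of the other.
-/
import Cfsg.Agent.Lib.ClassicalMax.TWMax.RadRange
import Cfsg.Agent.Lib.ClassicalMax.TWMax.Affine
set_option autoImplicit false
set_option linter.unusedSectionVars false

namespace CfsgLib.ClassicalMax.TWMax

open Matrix Cfsg.Geo

variable {F : Type*} [Field F] {ι : Type} [Fintype ι] [DecidableEq ι]
  {f : (ι → F) → (ι → F) → F} {A : Type*} [Ring A] [Algebra F A]
  {κ : Type*} [Fintype κ] [DecidableEq κ] {φ : κ → Matrix ι ι F →ₐ[F] A}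

lemma sh_val [DecidableEq F] (hf : IsSymplecticForm f) {d e : ι → F} (hd : f d e = 0) :
    (sh f d e 1 : Matrix ι ι F) = 1 + (op f d e + op f e d) :=
  Matrix.toLin'.injective (LinearMap.ext fun z => by
    simp only [Matrix.toLin'_apply, add_mulVec, one_mulVec, sh_mulVec hf hd, one_mul,
      op_mulVec hf.bilinear, add_assoc])

lemma sTv_val_smul [DecidableEq F] (hf : IsSymplecticForm f) (u : ι → F) (s : F) :
    (sTv f u s : Matrix ι ι F) = 1 + s • op f u u :=
  Matrix.toLin'.injective (LinearMap.ext fun z => by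
    simp only [Matrix.toLin'_apply, add_mulVec, one_mulVec, sTv_mulVec hf, smul_mulVec,
      op_mulVec hf.bilinear, smul_smul])

lemma beta_smul (ψ : Matrix ι ι F →ₐ[F] A) (c : F) (S : A) (b z : ι → F) :
    beta ψ f (c • S) b z = c • beta ψ f S b z := by
  simp only [beta, cE, mul_smul_comm, smul_mul_assoc, Finset.smul_sum]

/-- The radical described by the root. -/
lemma Rad.of_intrinsic (hf : IsSymplecticForm f) (ψ : Matrix ι ι F →ₐ[F] A) {e w : ι → F}
    (hew : f e w = 1) {S : A} (h1 : ψ (op f e e) * S = 0) (h2 : S * ψ (op f e e) = 0)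
    (h3 : ∀ l r, l * ψ (op f e e) = 0 → ψ (op f e e) * r = 0 → l * S * r = 0) : Rad ψ f e S := by
  have hb := hf.bilinear
  have hwe : f w e = -1 := by rw [hf.skew, hew]
  have hl : ∀ x, ψ (op f x e) * S = 0 := fun x => by
    rw [show op f x e = op f x w * op f e e by rw [op_mul hb, hew, one_smul], map_mul, mul_assoc, h1,
      mul_zero]
  have hr : ∀ x, S * ψ (op f e x) = 0 := fun x => by
    rw [show op f e x = -(op f e e * op f w x) by rw [op_mul hb, hwe, neg_smul, one_smul, neg_neg],
      map_neg, map_mul, mul_neg, ← mul_assoc, h2, zero_mul, neg_zero]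
  refine ⟨fun z => ?_, fun b => ?_, fun b z hb' hz => ?_⟩
  · have := beta_op_left hf (φ₀ := ψ) w e S e z
    rw [hl, beta_zero hf, hwe, neg_smul, one_smul] at this
    exact neg_eq_zero.1 this.symm
  · have := beta_op_right hf (φ₀ := ψ) e w S b e
    rw [hr, beta_zero hf, hew, one_smul] at this
    exact this.symm
  · refine cm_eq_zero ψ (cm_beta ψ S b z) (op_ne_zero hf (a := e) (b := e) ?_ ?_) ?_
    iterate 2 exact fun h => zero_ne_one (α := F) (by rw [← hew, h, form_zero_left hb])
    rw [mul_beta ψ hf]
    refine h3 _ _ ?_ ?_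
    · rw [← map_mul, op_mul hb, hf.skew e b, hb', neg_zero, zero_smul, map_zero]
    · rw [← map_mul, op_mul hb, hz, zero_smul, map_zero]

lemma beta_cm_mul (ψ : Matrix ι ι F →ₐ[F] A) {c : A} (hc : Cm ψ c) (S : A) (b z : ι → F) :
    beta ψ f (S * c) b z = beta ψ f S b z * c := by
  simpa [beta] using cE_mul_cm ψ Cm.one hc S (formDual f b) z

lemma Rad.mul_cm (hf : IsSymplecticForm f) {ψ : Matrix ι ι F →ₐ[F] A} {e : ι → F} {S c : A}
    (h : Rad ψ f e S) (hc : Cm ψ c) : Rad ψ f e (S * c) :=
  ⟨fun z => by rw [beta_cm_mul ψ hc, h.left, zero_mul],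
    fun b => by rw [beta_cm_mul ψ hc, h.right, zero_mul],
    fun b z hb hz => by rw [beta_cm_mul ψ hc, h.mid b z hb hz, zero_mul]⟩

/-- The conjugation by a unit, linearly. -/
def cg (g : Aˣ) : A →ₗ[F] A :=
  (LinearMap.mulLeft F (g : A)).comp (LinearMap.mulRight F ((g⁻¹ : Aˣ) : A))

lemma cg_apply (g : Aˣ) (S : A) : (cg g : A →ₗ[F] A) S = g * S * ((g⁻¹ : Aˣ) : A) :=
  (mul_assoc _ _ _).symm

lemma cg_mul (g : Aˣ) (S T : A) :
    (cg g : A →ₗ[F] A) (S * T) = (cg g : A →ₗ[F] A) S * (cg g : A →ₗ[F] A) T := by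
  simp only [cg_apply, mul_assoc]
  rw [← mul_assoc ((g⁻¹ : Aˣ) : A) (g : A), Units.inv_mul, one_mul]

lemma cg_one (g : Aˣ) : (cg g : A →ₗ[F] A) 1 = 1 := by rw [cg_apply, mul_one, Units.mul_inv]

lemma cg_cg (g : Aˣ) (S : A) : (cg g⁻¹ : A →ₗ[F] A) ((cg g : A →ₗ[F] A) S) = S := by
  simp only [cg_apply, inv_inv, mul_assoc, Units.inv_mul, mul_one]
  rw [← mul_assoc, Units.inv_mul, one_mul]

variable [Fintype F] [DecidableEq F] {M : Subgroup Aˣ} (C : Ctx f φ M)
include C

/-- The stabiliser of a root of a factor respects the centralisers of the factors. -/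
theorem stab (hsm : 4 ≤ Fintype.card ι ∨ 4 ≤ Fintype.card F) {g : Aˣ} (hg : g ∈ M) {i j : κ}
    {a e : ι → F} (ha : a ≠ 0) (he : e ≠ 0) {c : F} (hc : c ≠ 0)
    (hN : (g : A) * φ i (op f a a) * ((g⁻¹ : Aˣ) : A) = c • φ j (op f e e)) {S : A}
    (hS : Cm (φ i) S) : Cm (φ j) ((g : A) * S * ((g⁻¹ : Aˣ) : A)) := by
  have hf := C.sys.hf
  have hb := hf.bilinear
  have := C.sys.nontriv
  obtain ⟨w, hw⟩ := exists_pairing hf (v := ![e]) (LinearIndependent.of_subsingleton 0 he) ![1]
  obtain ⟨wa, hwa⟩ := exists_pairing hf (v := ![a]) (LinearIndependent.of_subsingleton 0 ha) ![1]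
  have hew : f e w = 1 := hw 0
  have hwe : f w e = -1 := by rw [hf.skew, hew]
  rw [← cg_apply (F := F)] at hN
  -- the radical comes back into the factor
  have hK : ∀ d, f d e = 0 → ∀ T, Cm (φ i) T →
      Commute ((cg g : A →ₗ[F] A) T) (φ j (op f d e + op f e d)) := by
    intro d hd T hT
    set K := φ j (op f d e + op f e d) with hKdef
    set Z := (cg g⁻¹ : A →ₗ[F] A) K with hZ
    have hgZ : (cg g : A →ₗ[F] A) Z = K := by
      have := cg_cg (F := F) g⁻¹ K
      rwa [inv_inv] at this
    have hinj : ∀ {x : A}, (cg g : A →ₗ[F] A) x = 0 → x = 0 := fun {x} hx => by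
      rw [← cg_cg (F := F) g x, hx, map_zero]
    have hNK : φ j (op f e e) * K = 0 := by
      rw [hKdef, ← map_mul, mul_add, op_mul hb, op_mul hb, hd, hf.alternating, zero_smul, zero_smul,
        add_zero, map_zero]
    have hKN : K * φ j (op f e e) = 0 := by
      rw [hKdef, ← map_mul, add_mul, op_mul hb, op_mul hb, hf.alternating, hf.skew e d, hd, neg_zero,
        zero_smul, zero_smul, add_zero, map_zero]
    have hR : Rad (φ i) f a Z := by
      refine Rad.of_intrinsic hf (φ i) (w := wa) (show f a wa = 1 from hwa 0) (hinj ?_) (hinj ?_) fun l r hl hr => hinj ?_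
      · rw [cg_mul, hgZ, hN, smul_mul_assoc, hNK, smul_zero]
      · rw [cg_mul, hgZ, hN, mul_smul_comm, hKN, smul_zero]
      · rw [cg_mul, cg_mul, hgZ]
        have hl' := congrArg (cg g : A →ₗ[F] A) hl
        have hr' := congrArg (cg g : A →ₗ[F] A) hr
        rw [cg_mul, hN, mul_smul_comm, map_zero, smul_eq_zero, or_iff_right hc] at hl'
        rw [cg_mul, hN, smul_mul_assoc, map_zero, smul_eq_zero, or_iff_right hc] at hr'
        rw [hKdef, map_add, mul_add, add_mul,
          show op f d e = op f d w * op f e e by rw [op_mul hb, hew, one_smul],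
          show op f e d = -(op f e e * op f w d) by rw [op_mul hb, hwe, neg_smul, one_smul, neg_neg],
          map_neg, map_mul, map_mul]
        linear_combination (norm := noncomm_ring)
          congrArg (fun x => (cg g : A →ₗ[F] A) l * φ j (op f d w) * x) hr' -
            congrArg (fun x => x * (φ j (op f w d) * (cg g : A →ₗ[F] A) r)) hl'
    have hm := sh_mem_isoOf hf d e 1
    obtain ⟨X, hX⟩ := rad_range C (w := wa) (show f a wa = 1 from hwa 0) ⟨hR, g⁻¹ *
      Units.map (φ j : Matrix ι ι F →* A) (sh f d e 1) * g,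
      M.mul_mem (M.mul_mem (M.inv_mem hg) (C.pure j _ hm)) hg, by
        rw [Units.val_mul, Units.val_mul, hZ, cg_apply, inv_inv]
        show ((g⁻¹ : Aˣ) : A) * φ j (sh f d e 1 : Matrix ι ι F) * (g : A) = _
        rw [sh_val hf hd, map_add, map_one, mul_add, mul_one, add_mul, Units.inv_mul]⟩
    show (cg g : A →ₗ[F] A) T * K = K * (cg g : A →ₗ[F] A) T
    rw [← hgZ, ← cg_mul, ← cg_mul, hX, (hT X).eq]
  have hNc : ∀ T, Cm (φ i) T → Commute ((cg g : A →ₗ[F] A) T) (φ j (op f e e)) := by
    intro T hT
    have h1 := congrArg (cg g : A →ₗ[F] A) (hT (op f a a)).eq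
    rw [cg_mul, cg_mul, hN, smul_mul_assoc, mul_smul_comm] at h1
    exact (smul_right_injective A hc h1).symm
  -- the scalar part and the radical part
  let aL : A →ₗ[F] A :=
    { toFun := fun T => beta (φ j) f ((cg g : A →ₗ[F] A) T) w e
      map_add' := fun T T' => by rw [map_add, beta_add hf]
      map_smul' := fun s T => by rw [map_smul, beta_smul, RingHom.id_apply] }
  let γL : A →ₗ[F] A := cg g - aL
  have haL : ∀ T, Cm (φ j) (aL T) := fun T => cm_beta (φ j) _ w e
  have hsplit : ∀ T, (cg g : A →ₗ[F] A) T = aL T + γL T := fun T => by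
    simp only [γL, LinearMap.sub_apply, add_sub_cancel]
  have hrad : ∀ T, Cm (φ i) T → Rad (φ j) f e (γL T) ∧
      ∀ d, f d e = 0 → beta (φ j) f (γL T) w d = -beta (φ j) f (γL T) d w := by
    intro T hT
    set γ := (cg g : A →ₗ[F] A) T with hγ
    have h0 : ∀ b z, beta (φ j) f (γL T) b z = beta (φ j) f γ b z - f z b • aL T := fun b z => by
      simp only [γL, LinearMap.sub_apply, beta_sub hf, beta_cm (φ j) hf (haL T)]
      rfl
    have hN' : ∀ b z, f e b • beta (φ j) f γ e z = f z e • beta (φ j) f γ b e := fun b z => by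
      rw [← beta_op_left hf, ← beta_op_right hf, (hNc T hT).eq]
    have haval : aL T = beta (φ j) f γ w e := rfl
    have hl : ∀ z, beta (φ j) f γ e z = f z e • aL T := fun z => by
      have := hN' w z
      rwa [hew, one_smul, ← haval] at this
    have hr : ∀ b, beta (φ j) f γ b e = f e b • aL T := fun b => by
      have := hN' b w
      rw [hl, hwe, smul_smul] at this
      linear_combination (norm := module) this
    have hl0 : ∀ z, beta (φ j) f (γL T) e z = 0 := fun z => by rw [h0, hl, sub_self]
    have hr0 : ∀ b, beta (φ j) f (γL T) b e = 0 := fun b => by rw [h0, hr, sub_self]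
    have hcomm : ∀ d, f d e = 0 → ∀ b z, f e b • beta (φ j) f (γL T) d z =
        f z e • beta (φ j) f (γL T) b d := by
      intro d hd b z
      have h1 : Commute (γL T) (φ j (op f d e + op f e d)) := by
        have := (hK d hd T hT).sub_left ((haL T (op f d e + op f e d)).symm)
        exact this
      have h2 := congrArg (fun x => beta (φ j) f x b z) h1.eq
      simp only [map_add, mul_add, add_mul, beta_add hf, beta_op_left hf, beta_op_right hf, hl0, hr0,
        smul_zero, zero_add, add_zero] at h2
      exact h2.symm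
    have hmid : ∀ b z, f b e = 0 → f z e = 0 → beta (φ j) f (γL T) b z = 0 := fun b z hb' hz => by
      have := hcomm z hz b w
      rw [hf.skew e b, hb', neg_zero, zero_smul, hwe, neg_smul, one_smul] at this
      exact neg_eq_zero.1 this.symm
    refine ⟨⟨hl0, hr0, hmid⟩, fun d hd => ?_⟩
    have := hcomm d hd w w
    rw [hew, hwe, one_smul, neg_smul, one_smul] at this
    rw [this, neg_neg]
  have hmulL : ∀ T T', Cm (φ i) T → Cm (φ i) T' → aL (T * T') = aL T * aL T' := by
    intro T T' hT hT'
    have key : ∀ {U : A}, Cm (φ i) U →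
        φ j (op f e e) * (cg g : A →ₗ[F] A) U = φ j (op f e e) * aL U := fun {U} hU => by
      rw [hsplit, mul_add, (hrad U hU).1.op_mul_eq_zero hf, add_zero]
    refine sub_eq_zero.1 (cm_eq_zero (φ j) ((haL _).sub ((haL T).mul (haL T'))) (op_ne_zero hf he he) ?_)
    rw [mul_sub, sub_eq_zero, ← key (hT.mul hT'), cg_mul, ← mul_assoc, key hT, (haL T _).eq, mul_assoc,
      key hT', ← mul_assoc, ← (haL T _).eq, mul_assoc]
  have ha1 : aL 1 = 1 := by
    show beta (φ j) f _ w e = 1
    rw [cg_one, beta_cm (φ j) hf Cm.one, hew, one_smul]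
  have hout : ∀ {T : A}, Cm (φ i) T → ∀ l ∉ Finset.univ.erase i, Cm (φ l) T := by
    intro T hT l hl
    obtain rfl : l = i := by simpa using hl
    exact hT
  have hinjL : ∀ T, Cm (φ i) T → aL T = 0 → T = 0 := by
    intro T hT hT0
    have hT' : (cg g : A →ₗ[F] A) T = γL T := by rw [hsplit, hT0, zero_add]
    have hR := (hrad T hT).1
    have h5 : ∀ U U', Cm (φ i) U → Cm (φ i) U' → T * U * T * U' * T = 0 := by
      intro U U' hU hU'
      have hz : (cg g : A →ₗ[F] A) (T * U * T * U' * T) = 0 := by
        rw [cg_mul, cg_mul, cg_mul, cg_mul, hT', hsplit U, hsplit U', mul_add (γL T), add_mul,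
          hR.cube hf hew (hrad U hU).1 hR, add_zero, mul_add, add_mul,
          (hR.mul_cm hf (haL U)).cube hf hew hR (hrad U' hU').1, zero_mul, add_zero,
          mul_assoc (γL T * aL U) (γL T) (aL U'),
          (hR.mul_cm hf (haL U)).cube hf hew (hR.mul_cm hf (haL U')) hR]
      rw [← cg_cg (F := F) g (T * U * T * U' * T), hz, map_zero]
    by_contra hne
    have h3 : ∀ U', (∀ l ∉ Finset.univ.erase i, Cm (φ l) U') → T * U' * T = 0 := fun U' hU' =>
      (C.sys.prime _ T (T * U' * T) (hout hT) (fun l hl => ((hout hT l hl).mul (hU' l hl)).mul (hout hT l hl))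
        fun U hU => by
          have := h5 U U' (hU i (by simp)) (hU' i (by simp))
          simpa only [mul_assoc] using this).resolve_left hne
    exact hne ((C.sys.prime _ T T (hout hT) (hout hT) h3).elim id id)
  -- elements of square zero in the group
  let sq0 : A → Prop := fun T => Cm (φ i) T ∧ T * T = 0 ∧ ∃ m ∈ M, (m : A) = 1 + T
  have hsq : ∀ {T : A}, sq0 T → aL T * aL T = 0 ∧
      ∃ m ∈ M, (m : A) = 1 + (cg g : A →ₗ[F] A) T ∧ ((m⁻¹ : Aˣ) : A) = 1 - (cg g : A →ₗ[F] A) T := by
    rintro T ⟨hT, hTT, m, hm, hmT⟩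
    refine ⟨by rw [← hmulL T T hT hT, hTT, map_zero], g * m * g⁻¹,
      M.mul_mem (M.mul_mem hg hm) (M.inv_mem hg), ?_, ?_⟩
    · rw [Units.val_mul, Units.val_mul, hmT, mul_add, add_mul, mul_one, Units.mul_inv, cg_apply]
    · refine Units.inv_eq_of_mul_eq_one_right ?_
      have h2 : (cg g : A →ₗ[F] A) T * (cg g : A →ₗ[F] A) T = 0 := by rw [← cg_mul, hTT, map_zero]
      rw [Units.val_mul, Units.val_mul, hmT, mul_add, add_mul, mul_one, Units.mul_inv, ← cg_apply (F := F)]
      linear_combination (norm := noncomm_ring) -h2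
  have hroot : ∀ l, l ≠ i → ∀ u, u ≠ 0 → ∀ L : A →ₗ[F] A,
      (∀ T, sq0 T → T ∈ Submodule.span F (Set.range fun v => φ l (op f v v)) →
        ∃ ν : F, L T = ν • (1 + aL T)) → L (φ l (op f u u)) = 0 := by
    intro l hl u hu L hL
    have hcm : ∀ X, Cm (φ i) (φ l X) := C.sys.cm i (Ne.symm hl)
    refine affine_zero hf (φ l) C.hq aL ha1 (fun X hX => ?_) L
      (fun v s _ _ => hL _ ⟨hcm _, ?_, ?_⟩ (by
        rw [map_smul]
        exact Submodule.smul_mem _ _ (Submodule.subset_span ⟨v, rfl⟩)))
      (fun v v' _ hvv => hL _ ⟨hcm _, ?_, ?_⟩ (by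
        rw [map_add]
        exact Submodule.add_mem _ (Submodule.subset_span ⟨v, rfl⟩) (Submodule.subset_span ⟨v', rfl⟩))) hu
    · have h0 := hinjL _ (hcm X) hX
      by_contra hX0
      exact one_ne_zero (cm_eq_zero (φ l) (Cm.one (φ := φ l)) hX0 (by rw [mul_one, h0]))
    · rw [← map_mul, smul_mul_smul_comm, op_mul hb, hf.alternating, zero_smul, smul_zero, map_zero]
    · exact ⟨_, C.pure l _ (sTv_mem_isoOf hf v s), by
        show φ l (sTv f v s : Matrix ι ι F) = _
        rw [sTv_val_smul hf, map_add, map_one]⟩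
    · rw [← map_mul, add_mul, mul_add, mul_add, op_mul hb, op_mul hb, op_mul hb, op_mul hb,
        hf.alternating, hf.alternating, hvv, hf.skew v' v, hvv]
      simp
    · refine ⟨_, M.mul_mem (C.pure l _ (sTv_mem_isoOf hf v 1)) (C.pure l _ (sTv_mem_isoOf hf v' 1)), ?_⟩
      show φ l (sTv f v 1 : Matrix ι ι F) * φ l (sTv f v' 1 : Matrix ι ι F) = _
      rw [sTv_val hf, sTv_val hf, ← map_mul, ← map_one (φ l), ← map_add]
      congr 1
      rw [add_mul, mul_add, mul_add, one_mul, one_mul, mul_one, op_mul hb, hf.skew v' v, hvv, neg_zero,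
        zero_smul, add_zero]
      abel
  have hinv : ∀ {T : A}, aL T * aL T = 0 → ∀ {x : A} {ν : F}, x * (1 - aL T) = algebraMap F A ν →
      x = ν • (1 + aL T) := fun {T} haa {x} {ν} h => by
    calc x = x * ((1 - aL T) * (1 + aL T)) := by
          rw [show (1 - aL T) * (1 + aL T) = 1 - aL T * aL T by noncomm_ring, haa, sub_zero, mul_one]
      _ = _ := by rw [← mul_assoc, h, Algebra.smul_def]
  -- the halves vanish on roots
  have hρ : ∀ r, f r e = 0 → ∀ l, l ≠ i → ∀ u, u ≠ 0 →
      beta (φ j) f (γL (φ l (op f u u))) r w = 0 := by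
    intro r hre l hl u hu
    let L : A →ₗ[F] A :=
      { toFun := fun T => beta (φ j) f (γL T) r w
        map_add' := fun T T' => by rw [map_add, beta_add hf]
        map_smul' := fun s T => by rw [map_smul, beta_smul, RingHom.id_apply] }
    refine hroot l hl u hu L fun T hT _ => ?_
    obtain ⟨haa, m, hm, hmT, hmT'⟩ := hsq hT
    obtain ⟨hR, -⟩ := hrad T hT.1
    by_cases hli : LinearIndependent F ![e, r]
    swap
    · rw [LinearIndependent.pair_iff' he] at hli
      push Not at hli
      obtain ⟨s, rfl⟩ := hli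
      exact ⟨0, by show beta (φ j) f (γL T) (s • e) w = _; rw [beta_smul₁ hf, hR.left, smul_zero, zero_smul]⟩
    obtain ⟨y, hy⟩ := exists_pairing hf hli ![0, -1]
    have hye : f y e = 0 := by rw [hf.skew, show f e y = 0 from hy 0, neg_zero]
    have hyr : f y r = 1 := by rw [hf.skew, show f r y = -1 from hy 1, neg_neg]
    have hx := sTv_mem_isoOf hf r (-1 : F)
    have hxe : (sTv f r (-1) : Matrix ι ι F) *ᵥ e = e := by
      rw [sTv_mulVec hf, hf.skew e r, hre, neg_zero, mul_zero, zero_smul, add_zero]
    set δ := cj (φ j) (sTv f r (-1)) (γL T) - γL T with hδ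
    have hδR : Rad (φ j) f e δ := (hR.conj hf hx hxe).sub hf hR
    have hT' : RadM (φ j) f M e (δ * (1 - aL T) - δ * γL T) := by
      refine ⟨(hδR.mul_cm hf (Cm.one.sub (haL T))).sub hf (hδR.mul hf hew hR).1, _,
        M.mul_mem (M.mul_mem (M.mul_mem (C.pure j _ hx) hm) (M.inv_mem (C.pure j _ hx))) (M.inv_mem hm), ?_⟩
      rw [Units.val_mul, cj_val, hmT, hmT', hsplit T, cj_one_add]
      have h1 : cj (φ j) (sTv f r (-1)) (aL T + γL T) = aL T + cj (φ j) (sTv f r (-1)) (γL T) := by
        conv_rhs => rw [← cj_cm (φ j) (haL T) (sTv f r (-1))]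
        simp only [cj, mul_add, add_mul]
      have h2 : (aL T + γL T) * (aL T + γL T) = 0 := by rw [← hsplit, ← cg_mul, hT.2.1, map_zero]
      rw [h1, hδ]
      linear_combination (norm := noncomm_ring) -h2
    obtain ⟨ν, hν⟩ := rho_scalar C hew hT' hye
    refine ⟨ν, hinv haa (x := beta (φ j) f (γL T) r w) ?_⟩
    rw [← hν, beta_sub hf, ((hδR.mul hf hew hR).2 y hye).1, sub_zero,
      beta_cm_mul (φ j) (Cm.one.sub (haL T))]
    congr 1
    rw [hδ, beta_sub hf, beta_cj (φ j) hf hx, sTv_inv hf, neg_neg, sTv_mulVec hf, sTv_mulVec hf, one_mul,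
      one_mul, hyr, one_smul]
    simp only [beta_add₁ hf, beta_add₂ hf, beta_smul₁ hf, beta_smul₂ hf, hR.mid y r hye hre,
      hR.mid r r hre hre, smul_zero, add_zero]
    abel
  -- the centre vanishes on roots
  have hμ : ∀ l, l ≠ i → ∀ u, u ≠ 0 → γL (φ l (op f u u)) = 0 := by
    intro l hl u hu
    let μL : A →ₗ[F] A :=
      { toFun := fun T => -beta (φ j) f (γL T) w w
        map_add' := fun T T' => by rw [map_add, beta_add hf, neg_add]
        map_smul' := fun s T => by rw [map_smul, beta_smul, RingHom.id_apply, smul_neg] }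
    have hcen : ∀ T, Cm (φ i) T → (∀ r, f r e = 0 → beta (φ j) f (γL T) r w = 0) →
        γL T = φ j (op f e e) * μL T := fun T hT h0 =>
      (hrad T hT).1.eq_central hf hew h0 fun d hd => by rw [(hrad T hT).2 d hd, h0 d hd, neg_zero]
    suffices h : μL (φ l (op f u u)) = 0 by
      rw [hcen _ (C.sys.cm i (Ne.symm hl) _) (fun r hr => hρ r hr l hl u hu), h, mul_zero]
    have hzero : ∀ T, (∀ r, f r e = 0 → beta (φ j) f (γL T) r w = 0) → sq0 T →
        ∃ ν : F, μL T = ν • (1 + aL T) := by
      intro T h0 hT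
      obtain ⟨haa, m, hm, hmT, hmT'⟩ := hsq hT
      set a' := aL T with ha'
      set μ := μL T with hμdef
      have hμc : Cm (φ j) μ := (cm_beta (φ j) _ w w).neg
      have hγ := hcen T hT.1 h0
      rw [← hμdef] at hγ
      set Q := φ j (op f e e) with hQ
      have hanti : μ * a' + a' * μ = 0 := by
        refine cm_eq_zero (φ j) ((hμc.mul (haL T)).add ((haL T).mul hμc)) (op_ne_zero hf he he) ?_
        have h2 : (a' + Q * μ) * (a' + Q * μ) = 0 := by
          rw [← hγ, ← hsplit, ← cg_mul, hT.2.1, map_zero]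
        have hQQ : Q * μ * (Q * μ) = 0 := by
          rw [mul_assoc, ← mul_assoc μ, ← (hμc _).eq, ← mul_assoc, ← mul_assoc, hQ, ← map_mul,
            op_mul hb, hf.alternating, zero_smul, map_zero, zero_mul, zero_mul]
        have hQa : Q * a' = a' * Q := (haL T _).eq
        linear_combination (norm := noncomm_ring) h2 - haa - hQQ + congrArg (fun x => x * μ) hQa
      -- the moved elements
      have hmv : ∀ v, v ≠ 0 → f v e = 0 →
          ∃ m' ∈ M, (m' : A) = 1 + φ j (op f v v - op f e e) * (μ * (1 - a')) := by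
        intro v hv hve
        obtain ⟨t, ht, hte⟩ := exists_iso_mulVec hf he hv
        have hti := closure_sTv_le' hf ht
        refine ⟨_, M.mul_mem (M.mul_mem (M.mul_mem (C.pure j _ hti) hm) (M.inv_mem (C.pure j _ hti)))
          (M.inv_mem hm), ?_⟩
        rw [Units.val_mul, cj_val, hmT, hmT', hsplit T, hγ, cj_one_add]
        have h1 : cj (φ j) t (a' + Q * μ) = a' + φ j (op f v v) * μ := by
          conv_rhs => rw [← cj_cm (φ j) (show Cm (φ j) a' from haL T) t, ← cj_cm (φ j) hμc t, ← hte, ← conj_op hf hti]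
          simp only [cj, mul_add, add_mul, hQ, map_mul, mul_assoc]
          congr 1
          simp only [← mul_assoc, ← map_mul]
          rw [show (t : Matrix ι ι F) * op f e e * ((t⁻¹ : GL ι F) : Matrix ι ι F) * (t : Matrix ι ι F) =
            (t : Matrix ι ι F) * op f e e by
              rw [mul_assoc _ _ (t : Matrix ι ι F), ← Units.val_mul, inv_mul_cancel, Units.val_one, mul_one]]
        rw [h1, map_sub]
        set P := φ j (op f v v) with hP
        have hPQ : P * Q = 0 := by
          rw [hP, hQ, ← map_mul, op_mul hb, hf.skew e v, hve, neg_zero, zero_smul, map_zero]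
        have hPQ' : P * μ * (Q * μ) = 0 := by
          rw [mul_assoc, ← mul_assoc μ, ← (hμc _).eq, ← mul_assoc, ← mul_assoc, hPQ, zero_mul, zero_mul]
        have hQa : Q * a' = a' * Q := (haL T _).eq
        linear_combination (norm := noncomm_ring) (-haa) - hPQ' + congrArg (fun x => Q * x) hanti * (-1)
          + congrArg (fun x => x * μ) hQa
      suffices hX : ∃ ν : F, μ * (1 - a') = algebraMap F A ν by
        obtain ⟨ν, hν⟩ := hX
        exact ⟨ν, hinv haa hν⟩
      have hXc : Cm (φ j) (μ * (1 - a')) := hμc.mul (Cm.one.sub (haL T))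
      by_cases hτ : ∃ τ : F, τ ≠ 0 ∧ τ ^ 2 ≠ 1
      · obtain ⟨τ, hτ0, hτ1⟩ := hτ
        obtain ⟨m', hm', hm'T⟩ := hmv (τ • e) (smul_ne_zero hτ0 he)
          (by rw [hb.smul_left, hf.alternating, mul_zero])
        obtain ⟨ν, hν⟩ := C.noUp j e ((τ ^ 2 - 1) • (μ * (1 - a'))) he (hXc.smul _) m' hm' (by
          rw [hm'T, op_smul_left, op_smul_right hb, smul_smul, map_sub, map_smul, mul_smul_comm,
            sub_mul, smul_mul_assoc, sub_smul, one_smul, pow_two])
        refine ⟨(τ ^ 2 - 1)⁻¹ * ν, ?_⟩
        rw [map_mul, ← hν, ← Algebra.smul_def, smul_smul, inv_mul_cancel₀ (sub_ne_zero.2 hτ1), one_smul]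
      push Not at hτ
      obtain ⟨d, p, hd2, hdq, hp0, hpo, hpl⟩ : ∃ (d : ℕ) (p : Fin d → ι → F), 2 ≤ d ∧
          (3 ≤ d ∨ 3 ≤ Fintype.card F) ∧ (∃ i, p i = e) ∧ (∀ a b, f (p a) (p b) = 0) ∧
          LinearIndependent F p := by
        have hq4 : Fintype.card F < 4 := by
          by_contra! h4
          have hsub : (Finset.univ : Finset F) ⊆ {0, 1, -1} := fun s _ => by
            simp only [Finset.mem_insert, Finset.mem_singleton]
            by_cases hs : s = 0
            · exact Or.inl hs
            · exact Or.inr (sq_eq_one_iff.1 (hτ s hs))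
          have h5 := Finset.card_le_card hsub
          have h6 : ({0, 1, -1} : Finset F).card ≤ 3 :=
            (Finset.card_insert_le _ _).trans (Nat.succ_le_succ Finset.card_le_two)
          rw [Finset.card_univ] at h5
          omega
        have h4 : 4 ≤ Fintype.card ι := hsm.resolve_right (by omega)
        obtain ⟨r₁, hr₁, hr₁n⟩ := exists_orth_extend hb ![e] (by omega)
        have hli2 : LinearIndependent F ![e, r₁] := by
          rw [LinearIndependent.pair_iff' he]
          exact fun s hs => hr₁n (Submodule.mem_span_singleton.2 ⟨s, hs⟩ |> fun h => by simpa using h)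
        have her : f e r₁ = 0 := hr₁ 0
        have hre : f r₁ e = 0 := by rw [hf.skew, her, neg_zero]
        by_cases hq3 : 3 ≤ Fintype.card F
        · refine ⟨2, ![e, r₁], le_rfl, Or.inr hq3, ⟨0, rfl⟩, fun a b => ?_, hli2⟩
          fin_cases a <;> fin_cases b <;> simp [her, hre, hf.alternating]
        have h2 : (2 : F) = 0 := by
          have h1 := Fintype.one_lt_card (α := F)
          have h2c : ((Fintype.card F : ℕ) : F) = 0 := FiniteField.cast_card_eq_zero F
          rw [show Fintype.card F = 2 by omega] at h2c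
          simpa using h2c
        have h5 : 5 ≤ Fintype.card ι := C.big.resolve_right fun h => h.1 h2
        obtain ⟨r₂, hr₂, hr₂n⟩ := exists_orth_extend hb ![e, r₁] (by omega)
        have her₂ : f e r₂ = 0 := hr₂ 0
        have hr₁r₂ : f r₁ r₂ = 0 := hr₂ 1
        refine ⟨3, ![e, r₁, r₂], by omega, Or.inl le_rfl, ⟨0, rfl⟩, fun a b => ?_, ?_⟩
        · fin_cases a <;> fin_cases b <;>
            simp [her, hre, her₂, hr₁r₂, hf.skew r₂ e, hf.skew r₂ r₁, hf.alternating]
        · rw [Fintype.linearIndependent_iff]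
          intro c hc
          simp only [Fin.sum_univ_three, Matrix.cons_val] at hc
          have hc2 : c 2 = 0 := by
            by_contra hc2
            refine hr₂n ?_
            rw [show r₂ = (-(c 2)⁻¹ * c 0) • e + (-(c 2)⁻¹ * c 1) • r₁ by
              have := congrArg (fun x => (c 2)⁻¹ • x) hc
              simp only [smul_add, smul_smul, inv_mul_cancel₀ hc2, one_smul, smul_zero] at this
              linear_combination (norm := module) this]
            exact Submodule.add_mem _ (Submodule.smul_mem _ _ (Submodule.subset_span ⟨0, rfl⟩))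
              (Submodule.smul_mem _ _ (Submodule.subset_span ⟨1, rfl⟩))
          rw [hc2, zero_smul, add_zero] at hc
          obtain ⟨c0, c1⟩ := LinearIndependent.pair_iff.1 hli2 _ _ hc
          intro i
          fin_cases i
          exacts [c0, c1, hc2]
      obtain ⟨i₀, hi₀⟩ := hp0
      let vec : (Fin d → F) → ι → F := fun s => ∑ a, s a • p a
      have hve : ∀ s b, f (vec s) (p b) = 0 := fun s b => by
        rw [← bilinOf_apply hb, map_sum, LinearMap.sum_apply]
        simp [map_smul, hpo]
      have hvv : ∀ s s', f (vec s) (vec s') = 0 := fun s s' => by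
        rw [← bilinOf_apply hb, map_sum]
        simp [map_smul, hve]
      set X := μ * (1 - a')
      have hall : ∀ t : Finset (Fin d → F), (0 : Fin d → F) ∉ t → ∃ m' ∈ M,
          (m' : A) = 1 + φ j (∑ s ∈ t, (op f (vec s) (vec s) - op f e e)) * X := by
        intro t
        induction t using Finset.induction_on with
        | empty => exact fun _ => ⟨1, M.one_mem, by simp⟩
        | @insert s t hst ih =>
          intro h0
          simp only [Finset.mem_insert, not_or] at h0
          obtain ⟨m₁, hm₁, hm₁T⟩ := ih h0.2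
          have hs : vec s ≠ 0 := fun h => h0.1 (funext fun a =>
            ((Fintype.linearIndependent_iff.1 hpl s h a).symm))
          obtain ⟨m₂, hm₂, hm₂T⟩ := hmv (vec s) hs (hi₀ ▸ hve s i₀)
          refine ⟨m₂ * m₁, M.mul_mem hm₂ hm₁, ?_⟩
          rw [Units.val_mul, hm₂T, hm₁T, Finset.sum_insert hst, map_add, add_mul]
          set P := op f (vec s) (vec s) - op f e e with hP
          set R := ∑ s ∈ t, (op f (vec s) (vec s) - op f e e) with hR
          have hPR : P * R = 0 := by
            rw [hR, Finset.mul_sum]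
            refine Finset.sum_eq_zero fun s' _ => ?_
            simp only [hP, sub_mul, mul_sub, op_mul hb, hvv, hf.alternating, ← hi₀, hve,
              hf.skew (p i₀) (vec _), neg_zero, zero_smul, sub_zero]
          have : φ j P * X * (φ j R * X) = 0 := by
            rw [show φ j P * X * (φ j R * X) = φ j P * (X * φ j R) * X by noncomm_ring, ← (hXc R).eq,
              show φ j P * (φ j R * X) * X = φ j P * φ j R * (X * X) by noncomm_ring, ← map_mul, hPR,
              map_zero, zero_mul]
          linear_combination (norm := noncomm_ring) this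
      obtain ⟨m', hm', hm'T⟩ := hall (Finset.univ.filter fun s => s ≠ 0) (by simp)
      have hsum : ∑ s ∈ Finset.univ.filter (fun s : Fin d → F => s ≠ 0),
          (op f (vec s) (vec s) - op f e e) = op f e e := by
        have h1 : ∑ s : Fin d → F, op f (vec s) (vec s) = 0 := by
          have hexp : ∀ s : Fin d → F,
              op f (vec s) (vec s) = ∑ a, ∑ b, (s a * s b) • op f (p a) (p b) := fun s => by
            refine Matrix.toLin'.injective (LinearMap.ext fun z => ?_)
            simp only [Matrix.toLin'_apply, sum_mulVec, smul_mulVec, op_mulVec hb, vec, Finset.smul_sum,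
              smul_smul]
            rw [← bilinOf_apply hb z, map_sum]
            simp only [map_smul, bilinOf_apply, smul_eq_mul]
            refine Finset.sum_congr rfl fun a _ => ?_
            rw [Finset.sum_mul, Finset.sum_smul]
            exact Finset.sum_congr rfl fun b _ => by ring_nf
          simp only [hexp]
          rw [Finset.sum_comm]
          refine Finset.sum_eq_zero fun a _ => ?_
          rw [Finset.sum_comm]
          refine Finset.sum_eq_zero fun b _ => ?_
          rw [← Finset.sum_smul]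
          have := sum_pair_zero (ι := Fin d) (F := F) (by simpa using hdq) (by simpa using hd2)
            (Pi.single a 1) (Pi.single b 1)
          simp only [single_dotProduct, one_mul] at this
          rw [this, zero_smul]
        have h2 : ∑ s ∈ Finset.univ.filter (fun s : Fin d → F => s ≠ 0), op f (vec s) (vec s) = 0 := by
          rw [Finset.sum_filter_of_ne, h1]
          intro s _ hs h0
          exact hs (by simp [h0, vec, op, formDual, Matrix.vecMulVec, funext_iff, Matrix.ext_iff.symm])
        have hcard : (((Finset.univ.filter fun s : Fin d → F => s ≠ 0).card : ℕ) : F) = -1 := by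
          rw [Finset.filter_ne', Finset.card_erase_of_mem (Finset.mem_univ _), Finset.card_univ,
            Nat.cast_sub Fintype.card_pos, Fintype.card_fun, Nat.cast_pow,
            FiniteField.cast_card_eq_zero, zero_pow (by simp; omega), Nat.cast_one, zero_sub]
        rw [Finset.sum_sub_distrib, h2, Finset.sum_const, ← Nat.cast_smul_eq_nsmul F, hcard, neg_smul,
          one_smul, zero_sub, neg_neg]
      rw [hsum] at hm'T
      exact C.noUp j e X he hXc m' hm' hm'T
    refine hroot l hl u hu μL fun T hT hspan => hzero T (fun r hr => ?_) hT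
    clear hT
    induction hspan using Submodule.span_induction with
    | mem x hx =>
      obtain ⟨v, rfl⟩ := hx
      rcases eq_or_ne v 0 with rfl | hv
      · simp [op, beta_zero hf]
      · exact hρ r hr l hl v hv
    | zero => rw [map_zero, beta_zero hf]
    | add x y _ _ hx hy => rw [map_add, beta_add hf, hx, hy, add_zero]
    | smul s x _ hx => rw [map_smul, beta_smul, hx, smul_zero]
  let B : Subalgebra F A :=
    { carrier := {T | Cm (φ j) ((cg g : A →ₗ[F] A) T)}
      mul_mem' := fun {T T'} h h' => by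
        show Cm (φ j) _
        rw [cg_mul]; exact h.mul h'
      one_mem' := by show Cm (φ j) _; rw [cg_one]; exact Cm.one
      add_mem' := fun {T T'} h h' => by
        show Cm (φ j) _
        rw [map_add]; exact h.add h'
      zero_mem' := by show Cm (φ j) _; rw [map_zero]; exact fun X => Commute.zero_right _
      algebraMap_mem' := fun s => by
        show Cm (φ j) _
        rw [Algebra.algebraMap_eq_smul_one, map_smul, cg_one]; exact Cm.one.smul s }
  have hB : ∀ l ∈ Finset.univ.erase i, ∀ X, φ l X ∈ B := fun l hl X =>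
    top_of_op_self hf (B.comap (φ l)) (fun u => by
      rcases eq_or_ne u 0 with rfl | hu
      · rw [Subalgebra.mem_comap, ← zero_smul F (0 : ι → F), op_smul_left, zero_smul, map_zero]
        exact B.zero_mem
      show Cm (φ j) ((cg g : A →ₗ[F] A) (φ l (op f u u)))
      rw [hsplit, hμ l (by simpa using hl) u hu, add_zero]
      exact haL _) X
  have := C.sys.mem_sub B _ hB S (hout hS)
  rw [← cg_apply (F := F)]
  exact this

end CfsgLib.ClassicalMax.TWMax
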