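/-
Commutators of product elements: they give new products over the factors.
-/
import Cfsg.Agent.Lib.ClassicalMax.TWMax.RadTest
import Cfsg.Agent.Lib.ClassicalMax.TWMax.Stab
import Cfsg.Agent.Lib.ClassicalMax.TWreath.Slot
set_option autoImplicit false
set_option linter.unusedSectionVars false

namespace CfsgLib.ClassicalMax.TWMax

open Matrix Cfsg.Geo CfsgLib.ClassicalMax.TWreath

variable {F : Type*} [Field F] {t k : ℕ} {f : (Fin k → F) → (Fin k → F) → F}
  {M : Subgroup (GL (Fin t → Fin k) F)}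

/-- The isometries of every factor belong to the group. -/
def Slots (f : (Fin k → F) → (Fin k → F) → F) (M : Subgroup (GL (Fin t → Fin k) F)) : Prop :=
  ∀ i : Fin t, ∀ g ∈ isoOf f,
    Units.map (slot (F := F) (k := k) i : Matrix (Fin k) (Fin k) F →* Matrix (Fin t → Fin k) (Fin t → Fin k) F) g ∈ M

/-- One plus the matrix is a member. -/
def Mem (M : Subgroup (GL (Fin t → Fin k) F)) (R : Matrix (Fin t → Fin k) (Fin t → Fin k) F) : Prop :=
  ∃ m ∈ M, m.val = 1 + R

lemma pmat_smul_all (α : Fin t → F) (X : Fin t → Matrix (Fin k) (Fin k) F) :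
    pmat (fun l => α l • X l) = (∏ l, α l) • pmat X := by
  ext a b
  simp [pmat_apply, Finset.prod_mul_distrib]

lemma pmat_zero_of {X : Fin t → Matrix (Fin k) (Fin k) F} (l : Fin t) (h : X l = 0) : pmat X = 0 := by
  ext a b
  exact Finset.prod_eq_zero (Finset.mem_univ l) (by rw [h]; rfl)

lemma pmat_update_sub (A : Fin t → Matrix (Fin k) (Fin k) F) (i : Fin t)
    (X Y : Matrix (Fin k) (Fin k) F) :
    pmat (Function.update A i (X - Y)) =
      pmat (Function.update A i X) - pmat (Function.update A i Y) := by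
  rw [eq_sub_iff_add_eq, ← pmat_update_add, sub_add_cancel]

lemma slot_conj_pmat (i : Fin t) (g : GL (Fin k) F) (X : Fin t → Matrix (Fin k) (Fin k) F) :
    slot i g.val * pmat X * slot i (g⁻¹).val =
      pmat (Function.update X i (g.val * X i * (g⁻¹).val)) := by
  rw [slot_mul_pmat, pmat_mul_slot, Function.update_self, Function.update_idem]

lemma Mem.conj_slot (hM : Slots f M) {R : Matrix (Fin t → Fin k) (Fin t → Fin k) F} (h : Mem M R)
    (i : Fin t) {g : GL (Fin k) F} (hg : g ∈ isoOf f) :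
    Mem M (slot i g.val * R * slot i (g⁻¹).val) := by
  obtain ⟨m, hm, hv⟩ := h
  refine ⟨_ * m * _, M.mul_mem (M.mul_mem (hM i g hg) hm) (M.inv_mem (hM i g hg)), ?_⟩
  rw [← map_inv, Units.val_mul, Units.val_mul, hv]
  show slot i g.val * (1 + R) * slot i (g⁻¹).val = _
  rw [mul_add, add_mul, mul_one, ← map_mul, Units.mul_inv, map_one]

lemma Mem.sub {R R' : Matrix (Fin t → Fin k) (Fin t → Fin k) F} (h' : Mem M R') (h : Mem M R)
    (hR : R * R = 0) (hR' : R' * R = 0) : Mem M (R' - R) := by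
  obtain ⟨m', hm', hv'⟩ := h'
  obtain ⟨m, hm, hv⟩ := h
  have hinv : (m⁻¹).val = 1 - R := Units.inv_eq_of_mul_eq_one_right (by
    rw [hv, add_mul, one_mul, mul_sub, mul_one, hR]; abel)
  refine ⟨m' * m⁻¹, M.mul_mem hm' (M.inv_mem hm), ?_⟩
  rw [Units.val_mul, hv', hinv, add_mul, one_mul, mul_sub, mul_one, hR']
  abel

lemma Mem.comm {R P : Matrix (Fin t → Fin k) (Fin t → Fin k) F} (hR : Mem M R) (hP : Mem M P)
    (hRR : R * R = 0) (hPP : P * P = 0) (h1 : R * P * R = 0) (h2 : P * R * P = 0) :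
    Mem M (R * P - P * R) := by
  obtain ⟨g, hg, hgv⟩ := hR
  obtain ⟨h, hh, hhv⟩ := hP
  have hgi : (g⁻¹).val = 1 - R := Units.inv_eq_of_mul_eq_one_right (by
    rw [hgv, add_mul, one_mul, mul_sub, mul_one, hRR]; abel)
  have hhi : (h⁻¹).val = 1 - P := Units.inv_eq_of_mul_eq_one_right (by
    rw [hhv, add_mul, one_mul, mul_sub, mul_one, hPP]; abel)
  refine ⟨g * h * g⁻¹ * h⁻¹, M.mul_mem (M.mul_mem (M.mul_mem hg hh) (M.inv_mem hg)) (M.inv_mem hh), ?_⟩
  rw [Units.val_mul, Units.val_mul, Units.val_mul, hgv, hhv, hgi, hhi]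
  calc (1 + R) * (1 + P) * (1 - R) * (1 - P) =
        1 - R * R - P * P + R * R * P + P * R * P - R * P * R - R * (P * P)
          + R * P * R * P + (R * P - P * R) := by noncomm_ring
    _ = _ := by simp [hRR, hPP, h1, h2, mul_assoc R P]

/-- An isometry fixing one vector and adding it to another. -/
lemma exists_shift [DecidableEq F] (hf : IsSymplecticForm f) {a b : Fin k → F}
    (h : LinearIndependent F ![a, b]) :
    ∃ g ∈ isoOf f, (g : Matrix (Fin k) (Fin k) F) *ᵥ a = a ∧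
      (g : Matrix (Fin k) (Fin k) F) *ᵥ b = b + a := by
  by_cases hab : f b a = 0
  · obtain ⟨d, hd⟩ := exists_pairing hf h ![0, 1]
    have had : f a d = 0 := hd 0
    have hbd : f b d = 1 := hd 1
    have hda : f d a = 0 := by rw [hf.skew, had, neg_zero]
    refine ⟨sh f d a 1, sh_mem_isoOf hf d a 1, ?_, ?_⟩
    · rw [sh_mulVec hf hda, hf.alternating, had]; simp
    · rw [sh_mulVec hf hda, hab, hbd]; simp
  · refine ⟨sTv f a (f b a)⁻¹, sTv_mem_isoOf hf _ _, ?_, ?_⟩
    · rw [sTv_mulVec hf, hf.alternating, mul_zero, zero_smul, add_zero]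
    · rw [sTv_mulVec hf, inv_mul_cancel₀ hab, one_smul]

variable [DecidableEq F] (hf : IsSymplecticForm f) (hM : Slots f M)
include hf hM

/-- Differences with conjugates make a pair into a common root. -/
theorem delta {κ : F} {a b : Fin t → Fin k → F} {μ ν : Fin t → F} {l0 : Fin t}
    {Z : Matrix (Fin k) (Fin k) F} (hZ : Z * Z = 0) (U : Finset (Fin t)) :
    ∀ (W₁ W₂ : Fin t → Matrix (Fin k) (Fin k) F), l0 ∉ U →
    (∃ α : F, W₁ l0 = α • Z) → (∃ β : F, W₂ l0 = β • Z) →
    (∀ m ∈ U, LinearIndependent F ![a m, b m] ∧ W₁ m = μ m • op f (a m) (b m) ∧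
      W₂ m = ν m • op f (b m) (a m)) →
    Mem M (κ • (pmat W₁ - pmat W₂)) →
    Mem M (κ • (pmat (fun m => if m ∈ U then μ m • op f (a m) (a m) else W₁ m) -
      pmat (fun m => if m ∈ U then ν m • op f (a m) (a m) else W₂ m))) := by
  induction U using Finset.induction_on with
  | empty => intro W₁ W₂ _ _ _ _ h; simpa using h
  | @insert m s hms ih =>
    intro W₁ W₂ hl0 h₁ h₂ hU h
    obtain ⟨hli, hW₁, hW₂⟩ := hU m (Finset.mem_insert_self _ _)
    obtain ⟨g, hg, hga, hgb⟩ := exists_shift hf hli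
    have hm0 : l0 ≠ m := fun e => hl0 (e ▸ Finset.mem_insert_self _ _)
    obtain ⟨α, hα⟩ := h₁
    obtain ⟨β, hβ⟩ := h₂
    -- products vanish by the common factor
    have hzero : ∀ V V' : Fin t → Matrix (Fin k) (Fin k) F, (∃ x : F, V l0 = x • Z) →
        (∃ y : F, V' l0 = y • Z) → pmat V * pmat V' = 0 := by
      rintro V V' ⟨x, hx⟩ ⟨y, hy⟩
      rw [pmat_mul]
      exact pmat_zero_of l0 (by rw [hx, hy, smul_mul_smul_comm, hZ, smul_zero])
    set W₁' := Function.update W₁ m (μ m • op f (a m) (a m))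
    set W₂' := Function.update W₂ m (ν m • op f (a m) (a m))
    have hstep : Mem M (κ • (pmat W₁' - pmat W₂')) := by
      have h' := h.conj_slot hM m hg
      have hval : slot m g.val * (κ • (pmat W₁ - pmat W₂)) * slot m (g⁻¹).val =
          κ • (pmat W₁ - pmat W₂) + κ • (pmat W₁' - pmat W₂') := by
        rw [mul_smul_comm, smul_mul_assoc, mul_sub, sub_mul, slot_conj_pmat, slot_conj_pmat, hW₁, hW₂,
          mul_smul_comm, smul_mul_assoc, mul_smul_comm, smul_mul_assoc, conj_op hf hg, conj_op hf hg,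
          hga, hgb, op_add_right hf.bilinear, op_add_left, smul_add, smul_add, pmat_update_add,
          pmat_update_add, ← hW₁, ← hW₂, Function.update_eq_self, Function.update_eq_self, ← smul_add]
        congr 1
        abel
      rw [hval] at h'
      have hs := h'.sub h ?_ ?_
      · rwa [add_sub_cancel_left] at hs
      · rw [smul_mul_smul_comm, sub_mul, mul_sub, mul_sub, hzero _ _ ⟨α, hα⟩ ⟨α, hα⟩,
          hzero _ _ ⟨α, hα⟩ ⟨β, hβ⟩, hzero _ _ ⟨β, hβ⟩ ⟨α, hα⟩, hzero _ _ ⟨β, hβ⟩ ⟨β, hβ⟩]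
        simp
      · have e₁ : W₁' l0 = α • Z := by rw [← hα]; exact Function.update_of_ne hm0 _ _
        have e₂ : W₂' l0 = β • Z := by rw [← hβ]; exact Function.update_of_ne hm0 _ _
        rw [add_mul, smul_mul_smul_comm, smul_mul_smul_comm]
        simp only [sub_mul, mul_sub, hzero _ _ ⟨α, hα⟩ ⟨α, hα⟩, hzero _ _ ⟨α, hα⟩ ⟨β, hβ⟩,
          hzero _ _ ⟨β, hβ⟩ ⟨α, hα⟩, hzero _ _ ⟨β, hβ⟩ ⟨β, hβ⟩, hzero _ _ ⟨α, e₁⟩ ⟨α, hα⟩,
          hzero _ _ ⟨α, e₁⟩ ⟨β, hβ⟩, hzero _ _ ⟨β, e₂⟩ ⟨α, hα⟩, hzero _ _ ⟨β, e₂⟩ ⟨β, hβ⟩]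
        simp
    have := ih W₁' W₂' (fun e => hl0 (Finset.mem_insert_of_mem e))
      ⟨α, by rw [← hα]; exact Function.update_of_ne hm0 _ _⟩
      ⟨β, by rw [← hβ]; exact Function.update_of_ne hm0 _ _⟩
      (fun l hl => by
        obtain ⟨h1, h2, h3⟩ := hU l (Finset.mem_insert_of_mem hl)
        have hlm : l ≠ m := fun e => hms (e ▸ hl)
        exact ⟨h1, (Function.update_of_ne hlm _ _).trans h2, (Function.update_of_ne hlm _ _).trans h3⟩)
      hstep
    have e : ∀ (W : Fin t → Matrix (Fin k) (Fin k) F) (η : Fin t → F),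
        (fun l => if l ∈ s then η l • op f (a l) (a l) else
          Function.update W m (η m • op f (a m) (a m)) l) =
        fun l => if l ∈ insert m s then η l • op f (a l) (a l) else W l := by
      intro W η
      funext l
      rcases eq_or_ne l m with rfl | hl
      · simp [hms]
      · simp [hl]
    rw [e W₁ μ, e W₂ ν] at this
    exact this

/-- The commutator of two products with pairs at some factors. -/
theorem combine {c c' : F} {X Y Z : Fin t → Matrix (Fin k) (Fin k) F} {a b : Fin t → Fin k → F}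
    {μ ν : Fin t → F} {P : Finset (Fin t)} {last l0 : Fin t}
    (hR : Mem M (c • pmat X)) (hP : Mem M (c' • pmat Y))
    (sqX : ∃ l, X l * X l = 0) (sqY : ∃ l, Y l * Y l = 0)
    (k1 : ∃ l, X l * Y l * X l = 0) (k2 : ∃ l, Y l * X l * Y l = 0)
    (hlast : last ∈ P) (hl0 : l0 ∉ P) (hZ : Z l0 * Z l0 = 0)
    (hpass : ∀ l ∉ P, X l * Y l = μ l • Z l ∧ Y l * X l = ν l • Z l)
    (hpair : ∀ l ∈ P, LinearIndependent F ![a l, b l] ∧ X l * Y l = μ l • op f (a l) (b l) ∧
      Y l * X l = ν l • op f (b l) (a l)) :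
    Mem M (pmat (Function.update (fun l => if l ∈ P then op f (a l) (a l) else Z l) last
      ((c * c' * ∏ l, μ l) • op f (a last) (b last) - (c * c' * ∏ l, ν l) • op f (b last) (a last)))) := by
  have hz : ∀ V : Fin t → Matrix (Fin k) (Fin k) F, (∃ l, V l = 0) → pmat V = 0 :=
    fun V ⟨l, hl⟩ => pmat_zero_of l hl
  have h := Mem.comm hR hP
    (by rw [smul_mul_smul_comm, pmat_mul, hz _ sqX, smul_zero])
    (by rw [smul_mul_smul_comm, pmat_mul, hz _ sqY, smul_zero])
    (by rw [smul_mul_smul_comm, pmat_mul, smul_mul_smul_comm, pmat_mul, hz _ k1, smul_zero])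
    (by rw [smul_mul_smul_comm, pmat_mul, smul_mul_smul_comm, pmat_mul, hz _ k2, smul_zero])
  rw [smul_mul_smul_comm, smul_mul_smul_comm, pmat_mul, pmat_mul, mul_comm c' c, ← smul_sub] at h
  have h' := delta hf hM hZ (P.erase last) (κ := c * c') (a := a) (b := b) (μ := μ) (ν := ν)
    (fun l => X l * Y l) (fun l => Y l * X l) (fun e => hl0 (Finset.mem_of_mem_erase e))
    ⟨μ l0, (hpass l0 hl0).1⟩ ⟨ν l0, (hpass l0 hl0).2⟩
    (fun m hm => hpair m (Finset.mem_of_mem_erase hm)) h
  convert h' using 2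
  set V : Fin t → Matrix (Fin k) (Fin k) F := fun l => if l ∈ P then op f (a l) (a l) else Z l with hV
  have e : ∀ (η : Fin t → F) (W : Fin t → Matrix (Fin k) (Fin k) F) (x y : Fin k → F),
      W last = η last • op f x y → (∀ l ∉ P, W l = η l • Z l) →
      (fun m => if m ∈ P.erase last then η m • op f (a m) (a m) else W m) =
        fun l => η l • Function.update V last (op f x y) l := by
    intro η W x y hWlast hW
    funext l
    rcases eq_or_ne l last with rfl | hl
    · simp [hWlast]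
    · by_cases hlP : l ∈ P
      · simp [hl, hlP, hV]
      · simp [hl, hlP, hV, hW l hlP]
  rw [e μ _ _ _ (hpair last hlast).2.1 (fun l hl => (hpass l hl).1),
    e ν _ _ _ (hpair last hlast).2.2 (fun l hl => (hpass l hl).2),
    pmat_smul_all μ, pmat_smul_all ν, smul_sub, smul_smul, smul_smul, pmat_update_sub,
    pmat_update_smul, pmat_update_smul]

end CfsgLib.ClassicalMax.TWMax
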