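/-
The matrix algebras of the factors of a tensor power as a system; sweeping to product elements.
-/
import Cfsg.Agent.Lib.ClassicalMax.TWMax.Pattern
import Cfsg.Agent.Lib.ClassicalMax.TWMax.Sys
set_option autoImplicit false
set_option linter.unusedSectionVars false

namespace CfsgLib.ClassicalMax.TWMax

open Matrix Cfsg.Geo CfsgLib.ClassicalMax.TWreath

variable {F : Type*} [Field F] {t k : ℕ} {f : (Fin k → F) → (Fin k → F) → F}
  {M : Subgroup (GL (Fin t → Fin k) F)}

lemma commute_pmat {S : Matrix (Fin t → Fin k) (Fin t → Fin k) F}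
    (X : Fin t → Matrix (Fin k) (Fin k) F) (h : ∀ l, Commute S (slot l (X l))) :
    Commute S (pmat X) := by
  suffices H : ∀ s : Finset (Fin t), Commute S (pmat fun l => if l ∈ s then X l else 1) by
    simpa using H Finset.univ
  intro s
  induction s using Finset.induction_on with
  | empty =>
    simp only [Finset.notMem_empty, if_false]
    rw [show (fun _ : Fin t => (1 : Matrix (Fin k) (Fin k) F)) = 1 from rfl, pmat_one]
    exact Commute.one_right S
  | @insert a s ha ih =>
    have e : (fun l => if l ∈ insert a s then X l else 1) =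
        Function.update (fun l => if l ∈ s then X l else 1) a ((if a ∈ s then X a else 1) * X a) := by
      funext l
      rcases eq_or_ne l a with rfl | hl
      · simp [ha]
      · simp [hl]
    rw [e, ← pmat_mul_slot (X := X a)]
    exact ih.mul_right (h a)

/-- The algebras of the factors have trivial common centraliser. -/
theorem slot_central {S : Matrix (Fin t → Fin k) (Fin t → Fin k) F}
    (h : ∀ l, Cm (slot (F := F) (k := k) l) S) :
    ∃ c : F, S = algebraMap F (Matrix (Fin t → Fin k) (Fin t → Fin k) F) c := by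
  obtain ⟨c, hc⟩ := Matrix.mem_range_scalar_of_commute_single (M := S) fun a b _ => by
    show Commute (Matrix.single a b (1 : F)) S
    rw [← pmat_single]
    exact (commute_pmat _ fun l => (h l _).symm).symm
  exact ⟨c, by rw [← hc, Matrix.algebraMap_eq_diagonal]; rfl⟩

theorem slot_sys (hf : IsSymplecticForm f) (hk : 0 < k) :
    Sys f (fun l : Fin t => slot (F := F) (k := k) l) where
  hf := hf
  comm _ _ h X Y := slot_comm h X Y
  central _ h := slot_central h
  nontriv := by
    haveI : Nonempty (Fin t → Fin k) := ⟨fun _ => ⟨0, hk⟩⟩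
    infer_instance

/-- The types at a factor. -/
def Kind (f : (Fin k → F) → (Fin k → F) → F) (X : Matrix (Fin k) (Fin k) F) : Prop :=
  IsA f X ∨ IsB f X ∨ X = 1

lemma IsA.sq (hf : IsSymplecticForm f) {X : Matrix (Fin k) (Fin k) F} (h : IsA f X) : X * X = 0 := by
  obtain ⟨u, -, rfl⟩ := h
  rw [op_mul hf.bilinear, hf.alternating, zero_smul]

lemma IsB.sq (hf : IsSymplecticForm f) {X : Matrix (Fin k) (Fin k) F} (h : IsB f X) : X * X = 0 := by
  obtain ⟨u, v, -, huv, rfl⟩ := h
  have hvu : f v u = 0 := by rw [hf.skew, huv, neg_zero]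
  simp only [sub_mul, mul_sub, op_mul hf.bilinear, hf.alternating, huv, hvu, zero_smul, sub_zero]

lemma IsA.ne_one (hf : IsSymplecticForm f) (hk : 0 < k) {X : Matrix (Fin k) (Fin k) F}
    (h : IsA f X) : X ≠ 1 := fun e => by
  have := h.sq hf
  rw [e, mul_one] at this
  exact one_ne_zero (α := F) (by simpa using congrFun (congrFun this ⟨0, hk⟩) ⟨0, hk⟩)

lemma IsB.ne_one (hf : IsSymplecticForm f) (hk : 0 < k) {X : Matrix (Fin k) (Fin k) F}
    (h : IsB f X) : X ≠ 1 := fun e => by
  have := h.sq hf
  rw [e, mul_one] at this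
  exact one_ne_zero (α := F) (by simpa using congrFun (congrFun this ⟨0, hk⟩) ⟨0, hk⟩)

variable [Fintype F] [DecidableEq F] (hf : IsSymplecticForm f) (hM : Slots f M)
  (hk : 2 ≤ k) (hq : 3 ≤ k ∨ 3 ≤ Fintype.card F) (h24 : (2 : F) ≠ 0 ∨ 3 ≤ k)
include hf hM hk hq h24

/-- A member moving along a factor yields a product member. -/
theorem monomial {i : Fin t} {u : Fin k → F} {S : Matrix (Fin t → Fin k) (Fin t → Fin k) F}
    (hu : u ≠ 0) (hS : Cm (slot (F := F) (k := k) i) S) (hm : Mem M (slot i (op f u u) * S))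
    (hns : ∀ c : F, S ≠ algebraMap F _ c) :
    ∃ (c : F) (X : Fin t → Matrix (Fin k) (Fin k) F), c ≠ 0 ∧ (∀ l, Kind f (X l)) ∧ IsA f (X i) ∧
      (∃ l, l ≠ i ∧ X l ≠ 1) ∧ Mem M (c • pmat X) := by
  have Y := slot_sys (t := t) hf (show 0 < k by omega)
  suffices H : ∀ U : Finset (Fin t), ∃ (X : Fin t → Matrix (Fin k) (Fin k) F)
      (T : Matrix (Fin t → Fin k) (Fin t → Fin k) F), (∀ l, Kind f (X l)) ∧
      (∀ l, l ∉ insert i U → X l = 1) ∧ IsA f (X i) ∧
      (∀ l ∈ insert i U, Cm (slot (F := F) (k := k) l) T) ∧ T ≠ 0 ∧ Mem M (pmat X * T) ∧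
      ((∃ l, l ≠ i ∧ X l ≠ 1) ∨ ∀ c : F, T ≠ algebraMap F _ c) by
    obtain ⟨X, T, hX, -, hA, hT, hT0, hmem, hor⟩ := H Finset.univ
    obtain ⟨c, rfl⟩ := slot_central fun l => hT l (Finset.mem_insert_of_mem (Finset.mem_univ l))
    refine ⟨c, X, fun h => hT0 (by rw [h, map_zero]), hX, hA, hor.resolve_right fun h => h c rfl, ?_⟩
    rwa [← Algebra.commutes, ← Algebra.smul_def] at hmem
  intro U
  induction U using Finset.induction_on with
  | empty =>
    refine ⟨Function.update 1 i (op f u u), S, fun l => ?_, fun l hl => ?_, ?_, ?_, ?_, hm, Or.inr hns⟩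
    · rcases eq_or_ne l i with rfl | h
      · rw [Function.update_self]; exact Or.inl ⟨u, hu, rfl⟩
      · rw [Function.update_of_ne h]; exact Or.inr (Or.inr rfl)
    · rw [Function.update_of_ne (fun h : l = i => hl (by simp [h]))]; rfl
    · rw [Function.update_self]; exact ⟨u, hu, rfl⟩
    · intro l hl
      rw [Finset.mem_insert] at hl
      rcases hl with rfl | hl
      · exact hS
      · simp at hl
    · exact fun h => hns 0 (by rw [h, map_zero])
  | @insert j U hjU ih =>
    obtain ⟨X, T, hX, hX1, hA, hT, hT0, hmem, hor⟩ := ih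
    by_cases hj : Cm (slot (F := F) (k := k) j) T
    · refine ⟨X, T, hX, fun l hl => hX1 l fun h => hl ?_, hA, fun l hl => ?_, hT0, hmem, hor⟩
      · simp only [Finset.mem_insert] at h ⊢; tauto
      · simp only [Finset.mem_insert] at hl
        rcases hl with rfl | rfl | hl
        exacts [hT _ (Finset.mem_insert_self _ _), hj, hT _ (Finset.mem_insert_of_mem hl)]
    set W := insert i U with hW
    have hjW : j ∉ W := fun h => hj (hT j h)
    have hji : j ≠ i := fun h => hjW (h ▸ Finset.mem_insert_self _ _)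
    have hcomm : ∀ {T' : Matrix (Fin t → Fin k) (Fin t → Fin k) F},
        (∀ l ∈ W, Cm (slot (F := F) (k := k) l) T') → Commute T' (pmat X) := fun {T'} h =>
      commute_pmat X fun l => by
        by_cases hl : l ∈ W
        · exact (h l hl _).symm
        · rw [hX1 l hl, map_one]; exact Commute.one_right _
    have hsq : pmat X * pmat X = 0 := by
      rw [pmat_mul]; exact pmat_zero_of i (hA.sq hf)
    have hz : ∀ {T₁ T₂ : Matrix (Fin t → Fin k) (Fin t → Fin k) F},
        (∀ l ∈ W, Cm (slot (F := F) (k := k) l) T₁) → pmat X * T₁ * (pmat X * T₂) = 0 := by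
      intro T₁ T₂ h
      rw [mul_assoc, ← mul_assoc T₁, (hcomm h).eq, mul_assoc (pmat X) T₁, ← mul_assoc, hsq, zero_mul]
    let G : AddSubgroup (Matrix (Fin t → Fin k) (Fin t → Fin k) F) :=
      { carrier := {T' | (∀ l ∈ W, Cm (slot (F := F) (k := k) l) T') ∧ Mem M (pmat X * T')}
        zero_mem' := ⟨fun l _ X' => Commute.zero_right _, 1, M.one_mem, by simp⟩
        add_mem' := by
          rintro T₁ T₂ ⟨h₁, m₁, hm₁, e₁⟩ ⟨h₂, m₂, hm₂, e₂⟩
          refine ⟨fun l hl => (h₁ l hl).add (h₂ l hl), m₁ * m₂, M.mul_mem hm₁ hm₂, ?_⟩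
          rw [Units.val_mul, e₁, e₂, add_mul, one_mul, mul_add (pmat X * T₁), mul_one, hz h₁, mul_add]
          abel
        neg_mem' := by
          rintro T₁ ⟨h₁, m₁, hm₁, e₁⟩
          refine ⟨fun l hl => (h₁ l hl).neg, m₁⁻¹, M.inv_mem hm₁,
            Units.inv_eq_of_mul_eq_one_right ?_⟩
          rw [e₁, mul_neg, add_mul, one_mul, mul_add (pmat X * T₁), mul_one, mul_neg, hz h₁]
          abel }
    have hG : ∀ g ∈ isoOf f, ∀ T' ∈ G, cj (slot (F := F) (k := k) j) g T' ∈ G := by
      rintro g hg T' ⟨h₁, h₂⟩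
      refine ⟨fun l hl => ((Y.cm l (fun e : l = j => hjW (e ▸ hl)) _).mul (h₁ l hl)).mul
        (Y.cm l (fun e : l = j => hjW (e ▸ hl)) _), ?_⟩
      have := h₂.conj_slot hM j hg
      have hc : Commute (slot j g.val) (pmat X) := commute_pmat X fun l => by
        rcases eq_or_ne l j with rfl | hl
        · rw [hX1 l hjW, map_one]; exact Commute.one_right _
        · exact slot_comm (Ne.symm hl) _ _
      rwa [← mul_assoc, hc.eq, mul_assoc (pmat X), mul_assoc (pmat X)] at this
    obtain ⟨X', c, hXt, hc0, hcj, hmem', hinh⟩ := alg_sweep (slot (F := F) (k := k) j) hf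
      (by rwa [Fintype.card_fin]) (by rwa [Fintype.card_fin]) (by rwa [Fintype.card_fin]) hG
      (⟨hT, hmem⟩ : T ∈ G) hj
    have hX' : Kind f X' := hXt.elim Or.inl fun h => Or.inr (Or.inl h)
    refine ⟨Function.update X j X', c, fun l => ?_, fun l hl => ?_, ?_, fun l hl => ?_, hc0, ?_, Or.inl ?_⟩
    · rcases eq_or_ne l j with rfl | h
      · rwa [Function.update_self]
      · rw [Function.update_of_ne h]; exact hX l
    · simp only [Finset.mem_insert, not_or] at hl
      rw [Function.update_of_ne hl.2.1]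
      exact hX1 l (by simp [hW, hl.1, hl.2.2])
    · rw [Function.update_of_ne hji.symm]; exact hA
    · simp only [Finset.mem_insert] at hl
      rcases eq_or_ne l j with rfl | h
      · exact hcj
      · have hlW : l ∈ W := by
          simp only [hW, Finset.mem_insert]; tauto
        exact fun X'' => hinh _ (Y.cm j (Ne.symm h) X'') fun T' hT' => hT'.1 l hlW X''
    · have := hmem'.2
      rw [← mul_assoc, pmat_mul_slot, hX1 j hjW, one_mul] at this
      exact this
    · refine ⟨j, hji, ?_⟩
      rw [Function.update_self]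
      rcases hXt with h | h
      exacts [h.ne_one hf (by omega), h.ne_one hf (by omega)]

end CfsgLib.ClassicalMax.TWMax
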