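/-
From a product member to a product member supported by all the factors, and on to a root element.
-/
import Cfsg.Agent.Lib.ClassicalMax.TWMax.SlotSys
set_option autoImplicit false
set_option linter.unusedSectionVars false

namespace CfsgLib.ClassicalMax.TWMax

open Matrix Cfsg.Geo CfsgLib.ClassicalMax.TWreath

variable {F : Type*} [Field F] {t k : ℕ} {f : (Fin k → F) → (Fin k → F) → F}
  {M : Subgroup (GL (Fin t → Fin k) F)}

/-- The even permutations of the factors belong to the group. -/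
def Perms (M : Subgroup (GL (Fin t → Fin k) F)) : Prop :=
  ∀ σ : Equiv.Perm (Fin t), σ ∈ alternatingGroup (Fin t) → permGL σ ∈ M

lemma Mem.perm (hP : Perms M) {σ : Equiv.Perm (Fin t)} (hσ : σ ∈ alternatingGroup (Fin t)) {c : F}
    {X : Fin t → Matrix (Fin k) (Fin k) F} (h : Mem M (c • pmat X)) :
    Mem M (c • pmat (X ∘ ⇑σ⁻¹)) := by
  obtain ⟨m, hm, hv⟩ := h
  refine ⟨permGL σ * m * (permGL σ)⁻¹, M.mul_mem (M.mul_mem (hP σ hσ) hm) (M.inv_mem (hP σ hσ)), ?_⟩
  rw [← map_inv, Units.val_mul, Units.val_mul, coe_permGL, coe_permGL, hv, mul_add, add_mul, mul_one,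
    permMat_mul, mul_inv_cancel, permMat_one, mul_smul_comm, smul_mul_assoc, permMat_mul_pmat,
    mul_assoc, permMat_mul, mul_inv_cancel, permMat_one, mul_one]

variable [DecidableEq F] (hf : IsSymplecticForm f)
include hf

lemma Mem.conj_all (hM : Slots f M) {c : F} {X : Fin t → Matrix (Fin k) (Fin k) F}
    (h : Mem M (c • pmat X)) {Y : Fin t → Matrix (Fin k) (Fin k) F}
    (hY : ∀ l, ∃ g ∈ isoOf f, Y l = g.val * X l * (g⁻¹).val) : Mem M (c • pmat Y) := by
  suffices H : ∀ U : Finset (Fin t), Mem M (c • pmat fun l => if l ∈ U then Y l else X l) by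
    simpa using H Finset.univ
  intro U
  induction U using Finset.induction_on with
  | empty => simpa using h
  | @insert a s ha ih =>
    obtain ⟨g, hg, e⟩ := hY a
    have := ih.conj_slot hM a hg
    rw [mul_smul_comm, smul_mul_assoc, slot_conj_pmat, if_neg ha, ← e] at this
    convert this using 4 with l
    rcases eq_or_ne l a with rfl | hl
    · simp
    · simp [hl]

lemma alg_one_self (X : Matrix (Fin k) (Fin k) F) :
    ∃ g ∈ isoOf f, X = (g : GL (Fin k) F).val * X * (g⁻¹).val :=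
  ⟨1, (isoOf f).one_mem, by simp⟩

/-- Roots move to roots. -/
lemma moveA {X : Matrix (Fin k) (Fin k) F} (hX : IsA f X) {a : Fin k → F} (ha : a ≠ 0) :
    ∃ g ∈ isoOf f, op f a a = (g : GL (Fin k) F).val * X * (g⁻¹).val := by
  obtain ⟨u, hu, rfl⟩ := hX
  obtain ⟨g, hg, hgu⟩ := exists_iso_mulVec hf hu ha
  exact ⟨g, closure_sTv_le' hf hg, by rw [conj_op hf (closure_sTv_le' hf hg), hgu]⟩

/-- Two roots in general position. -/
lemma pairAA {X : Matrix (Fin k) (Fin k) F} (hX : IsA f X) :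
    ∃ (Y : Matrix (Fin k) (Fin k) F) (a b : Fin k → F), (∃ g ∈ isoOf f, Y = g.val * X * (g⁻¹).val) ∧
      LinearIndependent F ![a, b] ∧ X * Y = (-1 : F) • op f a b ∧ Y * X = (1 : F) • op f b a := by
  obtain ⟨u, hu, hX'⟩ := id hX
  obtain ⟨w, hw⟩ := exists_pairing hf (v := ![u]) (LinearIndependent.of_subsingleton 0 hu) ![1]
  have huw : f u w = 1 := hw 0
  have hw0 : w ≠ 0 := fun e => one_ne_zero (α := F) (by
    rw [← huw, e, form_zero_right hf.bilinear])
  obtain ⟨g, hg, hgY⟩ := moveA hf hX hw0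
  refine ⟨op f w w, u, w, ⟨g, hg, hgY⟩, ?_, ?_, ?_⟩
  · refine (LinearIndependent.pair_iff' hu).2 fun s hs => one_ne_zero (α := F) ?_
    rw [← huw, ← hs, hf.bilinear.smul_right, hf.alternating, mul_zero]
  · rw [hX', op_mul hf.bilinear, hf.skew w u, huw]
  · rw [hX', op_mul hf.bilinear, huw]

/-- A root against an alternating pair. -/
lemma pairAB {X Y : Matrix (Fin k) (Fin k) F} (hX : IsA f X) (hY : IsB f Y) :
    ∃ (X' : Matrix (Fin k) (Fin k) F) (a b : Fin k → F),
      (∃ g ∈ isoOf f, X' = g.val * X * (g⁻¹).val) ∧ IsA f X' ∧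
      LinearIndependent F ![a, b] ∧ X' * Y = (1 : F) • op f a b ∧ Y * X' = (1 : F) • op f b a := by
  obtain ⟨c, d, hcd, hcd0, rfl⟩ := hY
  obtain ⟨e, he⟩ := exists_pairing hf hcd ![1, 0]
  have hce : f c e = 1 := he 0
  have hde : f d e = 0 := he 1
  have hec : f e c = -1 := by rw [hf.skew, hce]
  have hed : f e d = 0 := by rw [hf.skew, hde, neg_zero]
  have he0 : e ≠ 0 := fun h => one_ne_zero (α := F) (by rw [← hce, h, form_zero_right hf.bilinear])
  obtain ⟨g, hg, hgY⟩ := moveA hf hX he0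
  refine ⟨op f e e, e, d, ⟨g, hg, hgY⟩, ⟨e, he0, rfl⟩, ?_, ?_, ?_⟩
  · refine (LinearIndependent.pair_iff' he0).2 fun s hs => ?_
    rcases eq_or_ne s 0 with rfl | hs0
    · exact LinearIndependent.ne_zero 1 hcd (by simpa using hs.symm)
    · exact hs0 (by
        have := congrArg (f c) hs
        rw [hf.bilinear.smul_right, hce, hcd0, mul_one] at this
        exact this)
  · rw [mul_sub, op_mul hf.bilinear, op_mul hf.bilinear, hce, hde, zero_smul, sub_zero]
  · rw [sub_mul, op_mul hf.bilinear, op_mul hf.bilinear, hed, hec, zero_smul, zero_sub, neg_smul, neg_neg]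

/-- Two alternating pairs with a common vector. -/
lemma passBB {X : Matrix (Fin k) (Fin k) F} (hX : IsB f X) :
    ∃ (Y : Matrix (Fin k) (Fin k) F) (b : Fin k → F), (∃ g ∈ isoOf f, Y = g.val * X * (g⁻¹).val) ∧
      b ≠ 0 ∧ X * Y = (1 : F) • op f b b ∧ Y * X = (-1 : F) • op f b b ∧
      X * Y * X = 0 ∧ Y * X * Y = 0 := by
  obtain ⟨a, b, hab, hab0, rfl⟩ := hX
  obtain ⟨v, hv⟩ := exists_pairing hf hab ![1, 0]
  have hav : f a v = 1 := hv 0
  have hbv : f b v = 0 := hv 1
  have hg := sTv_mem_isoOf hf v 1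
  set a' := a + v with ha'
  have hga : (sTv f v 1 : Matrix (Fin k) (Fin k) F) *ᵥ a = a' := by
    rw [sTv_mulVec hf, hav, mul_one, one_smul]
  have hgb : (sTv f v 1 : Matrix (Fin k) (Fin k) F) *ᵥ b = b := by
    rw [sTv_mulVec hf, hbv, mul_zero, zero_smul, add_zero]
  have hba : f b a = 0 := by rw [hf.skew, hab0, neg_zero]
  have ha'b : f a' b = 0 := by rw [ha', hf.bilinear.add_left, hab0, hf.skew v b, hbv]; simp
  have hba' : f b a' = 0 := by rw [hf.skew, ha'b, neg_zero]
  have haa' : f a a' = 1 := by rw [ha', hf.bilinear.add_right, hf.alternating, hav, zero_add]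
  have ha'a : f a' a = -1 := by rw [hf.skew, haa']
  refine ⟨op f a' b - op f b a', b, ⟨_, hg, ?_⟩, LinearIndependent.ne_zero 1 hab, ?_, ?_, ?_, ?_⟩
  · rw [mul_sub, sub_mul, conj_op hf hg, conj_op hf hg, hga, hgb]
  all_goals simp only [sub_mul, mul_sub, op_mul hf.bilinear, hab0, hba, ha'b, hba', haa', ha'a,
    hf.alternating, zero_smul, sub_zero, zero_sub, neg_smul, one_smul, neg_neg, neg_mul, mul_neg,
    smul_neg, neg_zero]

/-- A pair of different vectors is not scalar. -/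
lemma pair_not_scalar (hk : 3 ≤ k) {a b : Fin k → F} (hab : LinearIndependent F ![a, b]) {x y : F}
    (hx : x ≠ 0) (s : F) : x • op f a b - y • op f b a ≠ s • (1 : Matrix (Fin k) (Fin k) F) := fun h => by
  obtain ⟨m, hm0, hm⟩ := exists_orth hf.bilinear ![a, b] (by rw [Fintype.card_fin]; omega)
  have hma : f m a = 0 := by rw [hf.skew, show f a m = 0 from hm 0, neg_zero]
  have hmb : f m b = 0 := by rw [hf.skew, show f b m = 0 from hm 1, neg_zero]
  have key : ∀ z, (x * f z b) • a - (y * f z a) • b = s • z := fun z => by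
    have := congrArg (fun E => E *ᵥ z) h
    simpa only [sub_mulVec, smul_mulVec, op_mulVec hf.bilinear, one_mulVec, smul_smul] using this
  have hs : s = 0 := by
    have := key m
    rw [hma, hmb, mul_zero, mul_zero, zero_smul, zero_smul, sub_zero] at this
    exact (smul_eq_zero.1 this.symm).resolve_right hm0
  obtain ⟨w, hw⟩ := exists_pairing hf hab ![0, 1]
  have h1 := key w
  rw [hf.skew w b, show f b w = 1 from hw 1, hf.skew w a, show f a w = 0 from hw 0, hs, neg_zero,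
    mul_zero, zero_smul, sub_zero, zero_smul] at h1
  exact (smul_eq_zero.1 h1).elim (by simp [hx]) (LinearIndependent.ne_zero 0 hab)

variable [Fintype F]

/-- The sweep of the last factor of a product member. -/
lemma finish (hM : Slots f M) (hk : 2 ≤ k) (hq : 3 ≤ k ∨ 3 ≤ Fintype.card F)
    (h24 : (2 : F) ≠ 0 ∨ 3 ≤ k) {V : Fin t → Matrix (Fin k) (Fin k) F} {last l0 : Fin t}
    (hl : l0 ≠ last) (hV : V l0 * V l0 = 0) {E : Matrix (Fin k) (Fin k) F}
    (h : Mem M (pmat (Function.update V last E))) (hE : ∀ s : F, E ≠ s • 1) :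
    ∃ (c : F) (X : Matrix (Fin k) (Fin k) F), c ≠ 0 ∧ (IsA f X ∨ IsB f X) ∧
      Mem M (c • pmat (Function.update V last X)) := by
  have hz : ∀ A B : Matrix (Fin k) (Fin k) F,
      pmat (Function.update V last A) * pmat (Function.update V last B) = 0 := fun A B => by
    rw [pmat_mul]
    exact pmat_zero_of l0 (by rw [Function.update_of_ne hl, Function.update_of_ne hl, hV])
  let G : AddSubgroup (Matrix (Fin k) (Fin k) F) :=
    { carrier := {A | Mem M (pmat (Function.update V last A))}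
      zero_mem' := ⟨1, M.one_mem, by
        rw [pmat_zero_of last (Function.update_self _ _ _), add_zero, Units.val_one]⟩
      add_mem' := by
        rintro A B ⟨m₁, hm₁, e₁⟩ ⟨m₂, hm₂, e₂⟩
        refine ⟨m₁ * m₂, M.mul_mem hm₁ hm₂, ?_⟩
        rw [Units.val_mul, e₁, e₂, pmat_update_add, add_mul, one_mul, mul_add, mul_one, hz]
        abel
      neg_mem' := by
        rintro A ⟨m₁, hm₁, e₁⟩
        refine ⟨m₁⁻¹, M.inv_mem hm₁, Units.inv_eq_of_mul_eq_one_right ?_⟩
        rw [e₁, show -A = (-1 : F) • A by simp, pmat_update_smul, add_mul, one_mul, mul_add, mul_one,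
          mul_smul_comm, hz, smul_zero, neg_one_smul]
        abel }
  have hG : ∀ g ∈ isoOf f, ∀ A ∈ G, cj (AlgHom.id F (Matrix (Fin k) (Fin k) F)) g A ∈ G := by
    intro g hg A hA
    have := Mem.conj_slot hM (hA : Mem M _) last hg
    rwa [slot_conj_pmat, Function.update_self, Function.update_idem] at this
  have hsc : ∀ {c : Matrix (Fin k) (Fin k) F}, Cm (AlgHom.id F (Matrix (Fin k) (Fin k) F)) c →
      ∃ s : F, c = s • 1 := fun {c} hc => by
    obtain ⟨s, hs⟩ := Matrix.mem_range_scalar_of_commute_single (M := c) fun a b _ => hc _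
    exact ⟨s, by rw [← hs, Matrix.smul_one_eq_diagonal]; rfl⟩
  obtain ⟨X, c, hX, hc0, hc, hmem, -⟩ := alg_sweep (AlgHom.id F (Matrix (Fin k) (Fin k) F)) hf
    (by rwa [Fintype.card_fin]) (by rwa [Fintype.card_fin]) (by rwa [Fintype.card_fin]) hG
    (h : E ∈ G) (fun hcm => by obtain ⟨s, hs⟩ := hsc hcm; exact hE s hs)
  obtain ⟨s, rfl⟩ := hsc hc
  refine ⟨s, X, fun h0 => hc0 (by rw [h0, zero_smul]), hX, ?_⟩
  have h' : Mem M (pmat (Function.update V last (X * (s • 1)))) := hmem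
  rwa [mul_smul_comm, mul_one, pmat_update_smul] at h'

variable (hM : Slots f M) (hP : Perms M)
include hM hP

/-- One more factor enters the support. -/
lemma grow (hk : 3 ≤ k) {c : F} {X : Fin t → Matrix (Fin k) (Fin k) F} (hc : c ≠ 0)
    (hX : ∀ l, Kind f (X l)) (hmem : Mem M (c • pmat X)) {i l j : Fin t} (hi : IsA f (X i))
    (hli : l ≠ i) (hl : X l ≠ 1) (hj : X j = 1) :
    ∃ (c' : F) (X' : Fin t → Matrix (Fin k) (Fin k) F), c' ≠ 0 ∧ (∀ m, Kind f (X' m)) ∧
      Mem M (c' • pmat X') ∧ IsA f (X' j) ∧ l ≠ j ∧ X' l ≠ 1 ∧ ∀ m, X m ≠ 1 → X' m ≠ 1 := by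
  classical
  have hij : i ≠ j := fun e => hi.ne_one hf (by omega) (by rw [e]; exact hj)
  have hlj : l ≠ j := fun e => hl (by rw [e]; exact hj)
  set σ : Equiv.Perm (Fin t) := Equiv.swap i l * Equiv.swap j i
  have hσ : σ ∈ alternatingGroup (Fin t) := by
    simp [σ, Equiv.Perm.mem_alternatingGroup, Equiv.Perm.sign_swap, hli.symm, hij.symm]
  have hσi : ⇑σ⁻¹ = fun m => if m = i then l else if m = j then i else if m = l then j else m := by
    funext m
    simp only [σ, _root_.mul_inv_rev, Equiv.swap_inv, Equiv.Perm.mul_apply]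
    split_ifs with h1 h2 h3
    · subst h1; simp [Equiv.swap_apply_of_ne_of_ne hlj hli]
    · subst h2; simp [Equiv.swap_apply_of_ne_of_ne hij.symm hlj.symm]
    · subst h3; simp
    · simp [Equiv.swap_apply_of_ne_of_ne h1 h3, Equiv.swap_apply_of_ne_of_ne h2 h1]
  -- the data at the first factor
  obtain ⟨Xi, Yi, ai, bi, μi, νi, hXi, hXiA, hYi, habi, hμi, hνi, hprod₁, hprod₂⟩ : ∃ (Xi Yi : Matrix
      (Fin k) (Fin k) F) (a b : Fin k → F) (μ ν : F), (∃ g ∈ isoOf f, Xi = g.val * X i * (g⁻¹).val) ∧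
      IsA f Xi ∧ (∃ g ∈ isoOf f, Yi = g.val * X l * (g⁻¹).val) ∧ LinearIndependent F ![a, b] ∧
      μ ≠ 0 ∧ ν ≠ 0 ∧ Xi * Yi = μ • op f a b ∧ Yi * Xi = ν • op f b a := by
    rcases hX l with h | h | h
    · obtain ⟨u, hu, he⟩ := id h
      obtain ⟨Y, a, b, hY, hab, e1, e2⟩ := pairAA hf hi
      obtain ⟨g, hg, hgY⟩ := moveA hf h hu
      obtain ⟨g₁, hg₁, hY⟩ := hY
      obtain ⟨v, hv, hXi⟩ := id hi
      have hv' : (g₁ : Matrix (Fin k) (Fin k) F) *ᵥ v ≠ 0 := fun h0 => hv (gl_mulVec_injective g₁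
        (show _ *ᵥ v = _ *ᵥ 0 by rw [h0, mulVec_zero]))
      obtain ⟨g₂, hg₂, hg₂Y⟩ := moveA hf h hv'
      rw [← conj_op hf hg₁, ← hXi, ← hY] at hg₂Y
      exact ⟨X i, Y, a, b, -1, 1, alg_one_self hf _, hi, ⟨g₂, hg₂, hg₂Y⟩, hab, by simp,
        one_ne_zero, e1, e2⟩
    · obtain ⟨X', a, b, hX', hA, hab, e1, e2⟩ := pairAB hf hi h
      exact ⟨X', X l, a, b, 1, 1, hX', hA, alg_one_self hf _, hab, one_ne_zero, one_ne_zero, e1, e2⟩
    · exact absurd h hl
  -- the data at the other factors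
  have hdata : ∀ m, m ≠ i → m ≠ j → m ≠ l → ∃ (Y : Matrix (Fin k) (Fin k) F) (Z : Matrix (Fin k) (Fin k) F)
      (a b : Fin k → F) (μ ν : F), (∃ g ∈ isoOf f, Y = g.val * X m * (g⁻¹).val) ∧ μ ≠ 0 ∧ ν ≠ 0 ∧
      ((X m * Y = μ • Z ∧ Y * X m = ν • Z ∧ Kind f Z ∧ (X m ≠ 1 → Z ≠ 1) ∧ ¬IsA f (X m)) ∨
        (LinearIndependent F ![a, b] ∧ X m * Y = μ • op f a b ∧ Y * X m = ν • op f b a ∧
          IsA f (X m))) := by
    intro m _ _ _
    by_cases hA : IsA f (X m)
    · obtain ⟨Y, a, b, hY, hab, e1, e2⟩ := pairAA hf hA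
      exact ⟨Y, 0, a, b, -1, 1, hY, by simp, one_ne_zero, Or.inr ⟨hab, e1, e2, hA⟩⟩
    rcases (hX m).resolve_left hA with h | h
    · obtain ⟨Y, b, hY, hb, e1, e2, -, -⟩ := passBB hf h
      exact ⟨Y, op f b b, 0, 0, 1, -1, hY, one_ne_zero, by simp, Or.inl ⟨e1, e2, Or.inl ⟨b, hb, rfl⟩,
        fun _ => IsA.ne_one hf (by omega) ⟨b, hb, rfl⟩, hA⟩⟩
    · exact ⟨X m, 1, 0, 0, 1, 1, alg_one_self hf _, one_ne_zero, one_ne_zero, Or.inl
        ⟨by rw [h, mul_one, one_smul], by rw [h, mul_one, one_smul], Or.inr (Or.inr rfl),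
          fun h' => absurd h h', hA⟩⟩
  choose Ym Zm am bm μm νm hYm hμm hνm hm using hdata
  let X₁ := Function.update X i Xi
  let Y : Fin t → Matrix (Fin k) (Fin k) F := fun m =>
    if h1 : m = i then Yi else if h2 : m = j then X i else if h3 : m = l then 1 else Ym m h1 h2 h3
  let Z : Fin t → Matrix (Fin k) (Fin k) F := fun m =>
    if h1 : m = i then 0 else if h2 : m = j then X i else if h3 : m = l then X l else Zm m h1 h2 h3
  let a : Fin t → Fin k → F := fun m =>
    if h1 : m = i then ai else if h2 : m = j then 0 else if h3 : m = l then 0 else am m h1 h2 h3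
  let b : Fin t → Fin k → F := fun m =>
    if h1 : m = i then bi else if h2 : m = j then 0 else if h3 : m = l then 0 else bm m h1 h2 h3
  let μ : Fin t → F := fun m =>
    if h1 : m = i then μi else if h2 : m = j then 1 else if h3 : m = l then 1 else μm m h1 h2 h3
  let ν : Fin t → F := fun m =>
    if h1 : m = i then νi else if h2 : m = j then 1 else if h3 : m = l then 1 else νm m h1 h2 h3
  set P := Finset.univ.filter fun m => m = i ∨ (m ≠ j ∧ m ≠ l ∧ IsA f (X m)) with hPdef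
  have hR₁ : Mem M (c • pmat X₁) := hmem.conj_all hf hM fun m => by
    by_cases h : m = i
    · subst h; simp only [X₁, Function.update_self]; exact hXi
    · simp only [X₁, Function.update_of_ne h]; exact alg_one_self hf _
  have hR₂ : Mem M (c • pmat Y) := (hmem.perm hP hσ).conj_all hf hM fun m => by
    simp only [Function.comp_apply, hσi, Y]
    split_ifs with h1 h2 h3
    · exact hYi
    · exact alg_one_self hf _
    · rw [hj]; exact alg_one_self hf _
    · exact hYm m h1 h2 h3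
  have hXj : X₁ j = 1 := by simp [X₁, Function.update_of_ne hij.symm, hj]
  have hYj : Y j = X i := by simp [Y, hij.symm]
  have hYl : Y l = 1 := by simp [Y, hli, hlj]
  have hXl : X₁ l = X l := Function.update_of_ne hli _ _
  have hsql : X l * X l = 0 := by
    rcases hX l with h | h | h
    exacts [h.sq hf, h.sq hf, absurd h hl]
  have hmain := combine hf hM (X := X₁) (Y := Y) (Z := Z) (a := a) (b := b) (μ := μ) (ν := ν)
    (P := P) (last := i) (l0 := j) hR₁ hR₂ ⟨l, by rw [hXl, hsql]⟩ ⟨j, by rw [hYj, hi.sq hf]⟩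
    ⟨l, by rw [hXl, hYl, mul_one, hsql]⟩ ⟨j, by rw [hYj, hXj, mul_one, hi.sq hf]⟩
    (by simp [hPdef]) (by simp [hPdef, hij.symm]) (by simp [Z, hij.symm, hi.sq hf])
    (fun m hm' => by
      simp only [hPdef, Finset.mem_filter, Finset.mem_univ, true_and, not_or] at hm'
      obtain ⟨h1, h'⟩ := hm'
      simp only [X₁, Y, Z, μ, ν, dif_neg h1, Function.update_of_ne h1]
      split_ifs with h2 h3
      · subst h2; simp [hj]
      · subst h3; simp
      · rcases hm m h1 h2 h3 with ⟨e1, e2, -⟩ | ⟨-, -, -, hA⟩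
        exacts [⟨e1, e2⟩, absurd ⟨h2, h3, hA⟩ h'])
    (fun m hm' => by
      simp only [hPdef, Finset.mem_filter, Finset.mem_univ, true_and] at hm'
      by_cases h1 : m = i
      · subst h1
        simp only [X₁, Y, a, b, μ, ν, dif_pos, Function.update_self]
        exact ⟨habi, hprod₁, hprod₂⟩
      obtain ⟨h2, h3, hA⟩ := hm'.resolve_left h1
      simp only [X₁, Y, a, b, μ, ν, dif_neg h1, dif_neg h2, dif_neg h3, Function.update_of_ne h1]
      rcases hm m h1 h2 h3 with ⟨-, -, -, -, hA'⟩ | ⟨e0, e1, e2, -⟩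
      exacts [absurd hA hA', ⟨e0, e1, e2⟩])
  have hμ0 : ∏ m, μ m ≠ 0 := Finset.prod_ne_zero_iff.2 fun m _ => by
    simp only [μ]
    split_ifs
    exacts [hμi, one_ne_zero, one_ne_zero, hμm _ _ _ _]
  have hai : a i = ai := dif_pos rfl
  have hbi : b i = bi := dif_pos rfl
  rw [hai, hbi] at hmain
  set V : Fin t → Matrix (Fin k) (Fin k) F := fun m => if m ∈ P then op f (a m) (a m) else Z m with hV
  have hVj : V j = X i := by simp [hV, hPdef, Z, hij.symm]
  obtain ⟨c', X', hc', hX', h'⟩ := finish hf hM (by omega) (Or.inl hk) (Or.inr hk) hij.symm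
    (by rw [hVj, hi.sq hf]) hmain fun s => pair_not_scalar hf hk habi
      (mul_ne_zero (mul_ne_zero hc hc) hμ0) s
  have hVl : V l = X l := by simp [hV, hPdef, Z, hli, hlj]
  have hkind : ∀ m, m ≠ i → Kind f (V m) ∧ (X m ≠ 1 → V m ≠ 1) := fun m h1 => by
    by_cases h2 : m = j
    · subst h2; rw [hVj]; exact ⟨Or.inl hi, fun _ => hi.ne_one hf (by omega)⟩
    by_cases h3 : m = l
    · subst h3; rw [hVl]; exact ⟨hX m, id⟩
    rcases hm m h1 h2 h3 with ⟨-, -, hk', hne, hA⟩ | ⟨h0, -, -, hA⟩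
    · have : V m = Zm m h1 h2 h3 := by simp [hV, hPdef, Z, h1, h2, h3, hA]
      rw [this]; exact ⟨hk', hne⟩
    · have : V m = op f (am m h1 h2 h3) (am m h1 h2 h3) := by simp [hV, hPdef, a, h1, h2, h3, hA]
      have hA' : IsA f (V m) := ⟨_, LinearIndependent.ne_zero 0 h0, this⟩
      exact ⟨Or.inl hA', fun _ => hA'.ne_one hf (by omega)⟩
  refine ⟨c', Function.update V i X', hc', fun m => ?_, h', ?_, hlj, ?_, fun m hm' => ?_⟩
  · by_cases h : m = i
    · subst h; rw [Function.update_self]; exact hX'.elim Or.inl fun h => Or.inr (Or.inl h)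
    · rw [Function.update_of_ne h]; exact (hkind m h).1
  · rw [Function.update_of_ne hij.symm, hVj]; exact hi
  · rw [Function.update_of_ne hli, hVl]; exact hl
  · by_cases h : m = i
    · subst h; rw [Function.update_self]; exact hX'.elim (fun h => h.ne_one hf (by omega))
        (fun h => h.ne_one hf (by omega))
    · rw [Function.update_of_ne h]; exact (hkind m h).2 hm'

/-- A member supported by all the factors. -/
lemma full (hk : 3 ≤ k) :
    ∀ (n : ℕ) (c : F) (X : Fin t → Matrix (Fin k) (Fin k) F),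
      (Finset.univ.filter fun m => X m = 1).card = n → c ≠ 0 → (∀ l, Kind f (X l)) →
      Mem M (c • pmat X) → ∀ i l, IsA f (X i) → l ≠ i → X l ≠ 1 →
      ∃ (c' : F) (X' : Fin t → Matrix (Fin k) (Fin k) F), c' ≠ 0 ∧ (∀ m, IsA f (X' m) ∨ IsB f (X' m)) ∧
        (∃ m, IsA f (X' m)) ∧ Mem M (c' • pmat X') := by
  intro n
  induction n using Nat.strong_induction_on with
  | _ n ih =>
    intro c X hn hc hX hmem i l hi hli hl
    by_cases h : ∃ j, X j = 1
    · obtain ⟨j, hj⟩ := h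
      obtain ⟨c', X', hc', hX', hmem', hA, hlj, hl', hsub⟩ := grow hf hM hP hk hc hX hmem hi hli hl hj
      refine ih _ ?_ c' X' rfl hc' hX' hmem' j l hA hlj hl'
      rw [← hn]
      refine Finset.card_lt_card ⟨fun m hm => ?_, fun hsup => ?_⟩
      · simp only [Finset.mem_filter, Finset.mem_univ, true_and] at hm ⊢
        exact by_contra fun h => hsub m h hm
      · exact hA.ne_one hf (by omega) (Finset.mem_filter.1 (hsup (by simp [hj]))).2
    · push Not at h
      exact ⟨c, X, hc, fun m => (hX m).elim Or.inl fun h' => h'.elim Or.inr fun e => absurd e (h m),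
        ⟨i, hi⟩, hmem⟩

omit hP in
/-- A full member with roots and pairs gives a root element. -/
lemma full_root {c : F} {X : Fin t → Matrix (Fin k) (Fin k) F} (hc : c ≠ 0)
    (hX : ∀ m, IsA f (X m) ∨ IsB f (X m)) (hA : ∃ m, IsA f (X m)) (hB : ∃ m, ¬ IsA f (X m))
    (hmem : Mem M (c • pmat X)) :
    ∃ (j : Fin t) (p : Fin t → Fin k → F) (a b : Fin k → F) (x y : F), (∀ l, l ≠ j → p l ≠ 0) ∧
      LinearIndependent F ![a, b] ∧ x ≠ 0 ∧
      Mem M (pmat (Function.update (fun l => op f (p l) (p l)) j (x • op f a b - y • op f b a))) := by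
  classical
  obtain ⟨i, hi⟩ := hA
  obtain ⟨b₀, hb₀⟩ := hB
  have hdata : ∀ m, ∃ (Y : Matrix (Fin k) (Fin k) F) (a b : Fin k → F) (μ ν : F),
      (∃ g ∈ isoOf f, Y = g.val * X m * (g⁻¹).val) ∧ μ ≠ 0 ∧ a ≠ 0 ∧
      ((¬ IsA f (X m) ∧ X m * Y = μ • op f a a ∧ Y * X m = ν • op f a a ∧ X m * Y * X m = 0 ∧
          Y * X m * Y = 0) ∨
        (IsA f (X m) ∧ LinearIndependent F ![a, b] ∧ X m * Y = μ • op f a b ∧
          Y * X m = ν • op f b a)) := by
    intro m
    by_cases hA : IsA f (X m)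
    · obtain ⟨Y, a, b, hY, hab, e1, e2⟩ := pairAA hf hA
      exact ⟨Y, a, b, -1, 1, hY, by simp, LinearIndependent.ne_zero 0 hab, Or.inr ⟨hA, hab, e1, e2⟩⟩
    · obtain ⟨Y, b, hY, hb, e1, e2, e3, e4⟩ := passBB hf ((hX m).resolve_left hA)
      exact ⟨Y, b, 0, 1, -1, hY, one_ne_zero, hb, Or.inl ⟨hA, e1, e2, e3, e4⟩⟩
  choose Y a b μ ν hY hμ ha hm using hdata
  obtain ⟨-, -, -, e3, e4⟩ := (hm b₀).resolve_right fun h => hb₀ h.1
  have hsq : X b₀ * X b₀ = 0 := ((hX b₀).resolve_left hb₀).sq hf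
  have hYsq : Y b₀ * Y b₀ = 0 := by
    obtain ⟨g, -, e⟩ := hY b₀
    rw [e, show ∀ A B C : Matrix (Fin k) (Fin k) F, A * B * C * (A * B * C) = A * (B * (C * A) * B) * C
      from fun A B C => by simp only [mul_assoc], Units.inv_mul, mul_one, hsq, mul_zero, zero_mul]
  have hmain := combine hf hM (X := X) (Y := Y) (Z := fun m => op f (a m) (a m)) (a := a) (b := b)
    (μ := μ) (ν := ν) (P := Finset.univ.filter fun m => IsA f (X m)) (last := i) (l0 := b₀) hmem
    (hmem.conj_all hf hM hY) ⟨b₀, hsq⟩ ⟨b₀, hYsq⟩ ⟨b₀, e3⟩ ⟨b₀, e4⟩ (by simp [hi]) (by simp [hb₀])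
    (by rw [op_mul hf.bilinear, hf.alternating, zero_smul])
    (fun m hm' => by
      rcases hm m with ⟨-, e1, e2, -⟩ | ⟨hA, -⟩
      exacts [⟨e1, e2⟩, absurd hA (by simpa using hm')])
    (fun m hm' => by
      rcases hm m with ⟨hA, -⟩ | ⟨-, h0, e1, e2⟩
      exacts [absurd (by simpa using hm') hA, ⟨h0, e1, e2⟩])
  simp only [ite_self] at hmain
  obtain ⟨-, hab, -, -⟩ := (hm i).resolve_left fun h => h.1 hi
  exact ⟨i, a, a i, b i, _, _, fun l _ => ha l, hab,
    mul_ne_zero (mul_ne_zero hc hc) (Finset.prod_ne_zero_iff.2 fun m _ => hμ m), hmain⟩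

end CfsgLib.ClassicalMax.TWMax
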