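/-
Root pairs of a group in a tensor power space with a compatible quadratic form.
-/
import Cfsg.Agent.Lib.ClassicalMax.TWMax.Pattern
import Cfsg.Agent.Lib.ClassicalMax.OrthNondeg
set_option autoImplicit false
set_option linter.unusedSectionVars false

namespace CfsgLib.ClassicalMax.TWMax

open Matrix Cfsg.Geo QuadraticMap CfsgLib.ClassicalMax.TWreath
open CfsgLib.Classical.Quad (NDPolar Frame)

variable {F : Type*} [Field F] {t k : ℕ}

/-- The quadratic form is compatible with the tensor power of the form. -/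
structure TForm (Q : QuadraticForm F ((Fin t → Fin k) → F)) (f : (Fin k → F) → (Fin k → F) → F)
    (c₀ : F) : Prop where
  hf : IsSymplecticForm f
  c_ne : c₀ ≠ 0
  polar_pvec : ∀ x y, polar Q (pvec x) (pvec y) = c₀ * ∏ l, f (x l) (y l)
  Q_pvec : ∀ x, Q (pvec x) = 0
  two_le : 2 ≤ t

lemma pvec_update_add (x : Fin t → Fin k → F) (i : Fin t) (u v : Fin k → F) :
    pvec (Function.update x i (u + v)) =
      pvec (Function.update x i u) + pvec (Function.update x i v) := by
  funext a
  simp only [pvec, Pi.add_apply, ← Finset.mul_prod_erase _ _ (Finset.mem_univ i), Function.update_self]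
  have e : ∀ w : Fin k → F, ∏ l ∈ Finset.univ.erase i, Function.update x i w l (a l) =
      ∏ l ∈ Finset.univ.erase i, x l (a l) := fun w => Finset.prod_congr rfl fun l hl => by
    rw [Function.update_of_ne (Finset.ne_of_mem_erase hl)]
  rw [e, e, e, add_mul]

lemma pvec_update_smul (x : Fin t → Fin k → F) (i : Fin t) (c : F) (u : Fin k → F) :
    pvec (Function.update x i (c • u)) = c • pvec (Function.update x i u) := by
  funext a
  simp only [pvec, Pi.smul_apply, ← Finset.mul_prod_erase _ _ (Finset.mem_univ i), Function.update_self,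
    smul_eq_mul]
  have e : ∀ w : Fin k → F, ∏ l ∈ Finset.univ.erase i, Function.update x i w l (a l) =
      ∏ l ∈ Finset.univ.erase i, x l (a l) := fun w => Finset.prod_congr rfl fun l hl => by
    rw [Function.update_of_ne (Finset.ne_of_mem_erase hl)]
  rw [e, e, mul_assoc]

lemma pvec_smul_all (α : Fin t → F) (x : Fin t → Fin k → F) :
    pvec (fun l => α l • x l) = (∏ l, α l) • pvec x := by
  funext a
  simp [pvec, Finset.prod_mul_distrib]

lemma pvec_zero_of {x : Fin t → Fin k → F} (l : Fin t) (h : x l = 0) : pvec x = 0 :=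
  funext fun a => Finset.prod_eq_zero (Finset.mem_univ l) (by rw [h]; rfl)

variable {Q : QuadraticForm F ((Fin t → Fin k) → F)} {f : (Fin k → F) → (Fin k → F) → F}
  {c₀ : F} {M : Subgroup (GL (Fin t → Fin k) F)}

lemma TForm.orth (T : TForm Q f c₀) {x y : Fin t → Fin k → F} (l : Fin t) (h : f (x l) (y l) = 0) :
    polar Q (pvec x) (pvec y) = 0 := by
  rw [T.polar_pvec, Finset.prod_eq_zero (Finset.mem_univ l) h, mul_zero]

/-- A root element with the given pair lies in the group. -/
def RP (Q : QuadraticForm F ((Fin t → Fin k) → F)) (M : Subgroup (GL (Fin t → Fin k) F))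
    (p z : (Fin t → Fin k) → F) : Prop :=
  polar Q p z = 0 ∧ ∃ h ∈ M, OmS.IsSg Q h p z

/-- The second vectors at a singular point form a subgroup. -/
def rps (Q : QuadraticForm F ((Fin t → Fin k) → F)) (M : Subgroup (GL (Fin t → Fin k) F))
    {p : (Fin t → Fin k) → F} (hp : Q p = 0) : AddSubgroup ((Fin t → Fin k) → F) where
  carrier := {z | RP Q M p z}
  zero_mem' := ⟨polar_zero_right _ _, 1, M.one_mem, fun x => by simp⟩
  add_mem' := by
    rintro z z' ⟨hz, h, hh, hx⟩ ⟨hz', h', hh', hx'⟩
    exact ⟨by rw [polar_add_right, hz, hz', add_zero], h * h', M.mul_mem hh hh',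
      OmS.IsSg.mul hp hz hz' hx hx'⟩
  neg_mem' := by
    rintro z ⟨hz, h, hh, hx⟩
    refine ⟨by rw [polar_neg_right, hz, neg_zero], h⁻¹, M.inv_mem hh, fun x => ?_⟩
    refine gl_mulVec_injective h ?_
    show _ *ᵥ _ = _ *ᵥ _
    rw [gl_mulVec_inv_mulVec, hx]
    have hcancel := Classical.Quad.siegelFun_add hp hz
      (show polar Q p (-z) = 0 by rw [polar_neg_right, hz, neg_zero]) x
    simp only [Classical.Quad.siegelFun, add_neg_cancel, polar_zero_right, map_zero, zero_mul,
      smul_zero, neg_zero, sub_zero, zero_smul, add_zero] at hcancel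
    exact hcancel.symm

lemma mem_rps {p z : (Fin t → Fin k) → F} {hp : Q p = 0} : z ∈ rps Q M hp ↔ RP Q M p z := Iff.rfl

lemma RP.self {p : (Fin t → Fin k) → F} (hp : Q p = 0) (c : F) : RP Q M p (c • p) := by
  have hpp : polar Q p p = 0 := Classical.Quad.polar_singular_self hp
  refine ⟨by rw [polar_smul_right, hpp, smul_zero], 1, M.one_mem, fun x => ?_⟩
  simp only [Units.val_one, one_mulVec, polar_smul_right, smul_eq_mul, QuadraticMap.map_smul, hp,
    mul_zero, zero_mul, sub_zero]
  module

lemma RP.scale {p z : (Fin t → Fin k) → F} (h : RP Q M p z) {s : F} (hs : s ≠ 0) :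
    RP Q M (s • p) (s⁻¹ • z) := by
  obtain ⟨hz, g, hg, hx⟩ := h
  refine ⟨by rw [polar_smul_left, polar_smul_right, hz, smul_zero, smul_zero], g, hg, fun x => ?_⟩
  rw [hx x]
  simp only [polar_smul_right, QuadraticMap.map_smul, smul_eq_mul, smul_smul, sub_mul, neg_mul]
  have e1 : s * polar Q x p * s⁻¹ = polar Q x p := by field_simp
  have e2 : s⁻¹ * polar Q x z * s = polar Q x z := by field_simp
  have e3 : s⁻¹ * s⁻¹ * Q z * (s * polar Q x p) * s = Q z * polar Q x p := by field_simp
  rw [e1, e2, e3]

lemma RP.conj (hM : M ≤ omegaGL ⇑Q) {m : GL (Fin t → Fin k) F} (hm : m ∈ M)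
    {p z : (Fin t → Fin k) → F} (h : RP Q M p z) :
    RP Q M (m.val *ᵥ p) (m.val *ᵥ z) := by
  obtain ⟨hz, g, hg, hx⟩ := h
  exact ⟨by rw [OmS.omega_polar (hM hm), hz], m * g * m⁻¹, M.mul_mem (M.mul_mem hm hg) (M.inv_mem hm),
    OmS.IsSg.conj (hM hm) hx⟩

/-- A root element moves a second vector. -/
lemma RP.move (hM : M ≤ omegaGL ⇑Q) {p z p₂ z₂ : (Fin t → Fin k) → F} (hp : Q p = 0) (hz₂ : Q z₂ = 0)
    (h : RP Q M p z) (h₂ : RP Q M p₂ z₂) (e₁ : polar Q p p₂ = 0) (e₂ : polar Q p z₂ = 0) :
    RP Q M p (polar Q z p₂ • z₂ - polar Q z z₂ • p₂) := by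
  obtain ⟨g, hg, hx⟩ := h₂.2
  have h' := RP.conj hM hg h
  rw [hx p, hx z] at h'
  simp only [e₁, e₂, hz₂, zero_mul, sub_zero, zero_smul, neg_zero, add_zero] at h'
  have := (rps Q M hp).sub_mem (mem_rps.2 h') (mem_rps.2 h)
  rw [mem_rps] at this
  convert this using 1
  module

variable [DecidableEq F] (T : TForm Q f c₀) (hM : Slots f M)

omit [DecidableEq F] in
include hM in
lemma pmatGL_mem (g : Fin t → GL (Fin k) F) (hg : ∀ l, g l ∈ isoOf f) : pmatGL g ∈ M := by
  suffices H : ∀ U : Finset (Fin t), pmatGL (fun l => if l ∈ U then g l else 1) ∈ M by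
    simpa using H Finset.univ
  intro U
  induction U using Finset.induction_on with
  | empty =>
    simp only [Finset.notMem_empty, if_false]
    rw [show (fun _ : Fin t => (1 : GL (Fin k) F)) = 1 from rfl, map_one]
    exact M.one_mem
  | @insert a s ha ih =>
    have e : pmatGL (fun l => if l ∈ insert a s then g l else 1) =
        Units.map (slot (F := F) (k := k) a : Matrix (Fin k) (Fin k) F →* Matrix (Fin t → Fin k) (Fin t → Fin k) F)
          (g a) * pmatGL (fun l => if l ∈ s then g l else 1) := by
      refine Units.ext ?_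
      rw [Units.val_mul, coe_pmatGL, coe_pmatGL]
      show _ = slot a (g a).val * _
      rw [slot_mul_pmat]
      congr 1
      funext l
      rcases eq_or_ne l a with rfl | hl
      · simp [ha]
      · simp [hl]
    rw [e]
    exact M.mul_mem (hM a _ (hg a)) ih

/-- Root pairs moving along the factor, orthogonally. -/
def Orth (Q : QuadraticForm F ((Fin t → Fin k) → F)) (f : (Fin k → F) → (Fin k → F) → F)
    (M : Subgroup (GL (Fin t → Fin k) F)) (j : Fin t) : Prop :=
  ∀ p : Fin t → Fin k → F, (∀ l, p l ≠ 0) → ∀ y, f y (p j) = 0 →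
    RP Q M (pvec p) (pvec (Function.update p j y))

/-- Root pairs moving along the factor. -/
def Along (Q : QuadraticForm F ((Fin t → Fin k) → F))
    (M : Subgroup (GL (Fin t → Fin k) F)) (j : Fin t) : Prop :=
  ∀ p : Fin t → Fin k → F, (∀ l, p l ≠ 0) → ∀ y, RP Q M (pvec p) (pvec (Function.update p j y))

include T

/-- The member given by a pair of roots is a root element. -/
lemma rp_of_mem (hle : M ≤ omegaGL ⇑Q) (hsign : (-1 : F) ^ t = 1) {j : Fin t} {p : Fin t → Fin k → F}
    {a b : Fin k → F} {x y : F} (hp : ∀ l, l ≠ j → p l ≠ 0) (hab : LinearIndependent F ![a, b])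
    (h : Mem M (pmat (Function.update (fun l => op f (p l) (p l)) j (x • op f a b - y • op f b a)))) :
    RP Q M (pvec (Function.update p j b)) ((x / c₀) • pvec (Function.update p j a)) := by
  have hf := T.hf
  have hb := hf.bilinear
  obtain ⟨m, hm, hv⟩ := h
  set E := x • op f a b - y • op f b a with hE
  set u := pvec (Function.update p j b) with hu
  set w := pvec (Function.update p j a) with hw
  obtain ⟨l₀, hl₀⟩ : ∃ l : Fin t, l ≠ j := by
    have := T.two_le
    exact ⟨if j.val = 0 then ⟨1, by omega⟩ else ⟨0, by omega⟩, by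
      split_ifs with h0 <;> (intro e; rw [Fin.ext_iff] at e; simp at e; omega)⟩
  have huw : polar Q u w = 0 := T.orth l₀ (by
    rw [Function.update_of_ne hl₀, Function.update_of_ne hl₀]; exact hf.alternating _)
  -- the action on pure vectors
  have hact : ∀ z : Fin t → Fin k → F, m.val *ᵥ pvec z = pvec z +
      (∏ l ∈ Finset.univ.erase j, f (z l) (p l)) •
        ((x * f (z j) b) • w - (y * f (z j) a) • u) := fun z => by
    rw [hv, add_mulVec, one_mulVec, pmat_mulVec_pvec]
    congr 1
    have e : (fun l => Function.update (fun l => op f (p l) (p l)) j E l *ᵥ z l) =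
        fun l => (if l = j then 1 else f (z l) (p l)) • Function.update p j (E *ᵥ z j) l := by
      funext l
      rcases eq_or_ne l j with rfl | hl
      · simp
      · simp [hl, op_mulVec hb]
    rw [e, pvec_smul_all, ← Finset.mul_prod_erase _ _ (Finset.mem_univ j), if_pos rfl, one_mul,
      Finset.prod_congr rfl fun l hl => if_neg (Finset.ne_of_mem_erase hl)]
    congr 1
    rw [hE, sub_mulVec, smul_mulVec, smul_mulVec, op_mulVec hb, op_mulVec hb, smul_smul, smul_smul,
      sub_eq_add_neg, pvec_update_add, ← neg_smul, pvec_update_smul, pvec_update_smul, neg_smul,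
      ← sub_eq_add_neg]
  -- the two scalars agree
  choose g hg using fun l => fun h : l ≠ j =>
    exists_pairing hf (v := ![p l]) (LinearIndependent.of_subsingleton 0 (hp l h)) ![-1]
  obtain ⟨za, hza⟩ := exists_pairing hf hab ![-1, 0]
  obtain ⟨zb, hzb⟩ := exists_pairing hf hab ![0, -1]
  let G : (Fin k → F) → Fin t → Fin k → F := fun v l => if h : l = j then v else g l h
  have hGp : ∀ v l, l ≠ j → f (G v l) (p l) = 1 := fun v l h => by
    simp only [G, dif_neg h]
    rw [hf.skew, show f (p l) (g l h) = -1 from hg l h 0, neg_neg]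
  have hGP : ∀ v, (∏ l ∈ Finset.univ.erase j, f (G v l) (p l)) = 1 := fun v =>
    Finset.prod_eq_one fun l hl => hGp v l (Finset.ne_of_mem_erase hl)
  have hGj : ∀ v, G v j = v := fun v => dif_pos rfl
  have e1 : f zb b = 1 := by rw [hf.skew, show f b zb = -1 from hzb 1, neg_neg]
  have e2 : f zb a = 0 := by rw [hf.skew, show f a zb = 0 from hzb 0, neg_zero]
  have e3 : f za a = 1 := by rw [hf.skew, show f a za = -1 from hza 0, neg_neg]
  have e4 : f za b = 0 := by rw [hf.skew, show f b za = 0 from hza 1, neg_zero]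
  have hA1 : m.val *ᵥ pvec (G zb) = pvec (G zb) + x • w := by
    rw [hact, hGP, hGj, e1, e2]; simp
  have hA2 : m.val *ᵥ pvec (G za) = pvec (G za) + (-y) • u := by
    rw [hact, hGP, hGj, e3, e4]; simp
  have hiso := OmS.omega_polar (hle hm) (pvec (G zb)) (pvec (G za))
  rw [hA1, hA2, polar_add_left, polar_add_right, polar_add_right, polar_smul_left, polar_smul_left,
    polar_smul_right, polar_smul_right, polar_comm (⇑Q) w u, huw, smul_zero, smul_zero, add_zero] at hiso
  have hwa : polar Q w (pvec (G za)) = c₀ * (-1) ^ t := by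
    rw [T.polar_pvec, Finset.prod_congr rfl (g := fun _ => (-1 : F)) fun l _ => ?_, Finset.prod_const,
      Finset.card_univ, Fintype.card_fin]
    rcases eq_or_ne l j with rfl | hl
    · rw [Function.update_self, hGj, show f a za = -1 from hza 0]
    · rw [Function.update_of_ne hl, hf.skew, hGp za l hl]
  have hbu : polar Q (pvec (G zb)) u = c₀ := by
    rw [T.polar_pvec, Finset.prod_eq_one fun l _ => ?_, mul_one]
    rcases eq_or_ne l j with rfl | hl
    · rw [Function.update_self, hGj, e1]
    · rw [Function.update_of_ne hl, hGp zb l hl]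
  rw [hwa, hbu, hsign, mul_one, smul_eq_mul, smul_eq_mul] at hiso
  have hxy : x = y := mul_right_cancel₀ T.c_ne (by linear_combination hiso)
  subst hxy
  refine ⟨by rw [polar_smul_right, huw, smul_zero], m, hm, fun z => ?_⟩
  have hQw : Q ((x / c₀) • w) = 0 := by rw [QuadraticMap.map_smul, hw, T.Q_pvec, smul_zero]
  rw [hQw, zero_mul, sub_zero]
  have hpr : ∀ (v : Fin k → F) (zz : Fin t → Fin k → F),
      ∏ l ∈ Finset.univ.erase j, f (zz l) (Function.update p j v l) =
        ∏ l ∈ Finset.univ.erase j, f (zz l) (p l) := fun v zz => Finset.prod_congr rfl fun l hl => by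
    rw [Function.update_of_ne (Finset.ne_of_mem_erase hl)]
  have key : Matrix.toLin' m.val = LinearMap.id + (((polarBilin Q).flip u).smulRight ((x / c₀) • w) -
      ((polarBilin Q).flip ((x / c₀) • w)).smulRight u) := by
    refine (Pi.basisFun F (Fin t → Fin k)).ext fun q => ?_
    rw [Pi.basisFun_apply, ← pvec_single, Matrix.toLin'_apply, hact]
    simp only [LinearMap.add_apply, LinearMap.sub_apply, LinearMap.id_apply, LinearMap.smulRight_apply,
      LinearMap.flip_apply, polarBilin_apply_apply, polar_smul_right, smul_eq_mul, hu, hw, T.polar_pvec]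
    rw [← Finset.mul_prod_erase _ _ (Finset.mem_univ j), ← Finset.mul_prod_erase _ _ (Finset.mem_univ j),
      Function.update_self, Function.update_self, hpr, hpr]
    have hc := T.c_ne
    match_scalars
    all_goals field_simp
  have := LinearMap.congr_fun key z
  rw [Matrix.toLin'_apply] at this
  rw [this]
  simp only [LinearMap.add_apply, LinearMap.sub_apply, LinearMap.id_apply, LinearMap.smulRight_apply,
    LinearMap.flip_apply, polarBilin_apply_apply, neg_smul]
  abel

end CfsgLib.ClassicalMax.TWMax
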