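/-
One root element of a pure pair spreads to all the root elements.
-/
import Cfsg.Agent.Lib.ClassicalMax.TWMax.RootPairs
import Cfsg.Agent.Lib.ClassicalMax.TWMax.Merge
set_option autoImplicit false
set_option linter.unusedSectionVars false

namespace CfsgLib.ClassicalMax.TWMax

open Matrix Cfsg.Geo QuadraticMap CfsgLib.ClassicalMax.TWreath
open CfsgLib.Classical.Quad (NDPolar Frame)

variable {F : Type*} [Field F] [DecidableEq F] [Fintype F] {t k : ℕ}
  {Q : QuadraticForm F ((Fin t → Fin k) → F)} {f : (Fin k → F) → (Fin k → F) → F}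
  {c₀ : F} {M : Subgroup (GL (Fin t → Fin k) F)}
  (T : TForm Q f c₀) (hle : M ≤ omegaGL ⇑Q) (hM : Slots f M)
include T hle hM

/-- The root pairs are carried by the isometries of the factors. -/
lemma RP.carry {p z : Fin t → Fin k → F} (h : RP Q M (pvec p) (pvec z)) {g : Fin t → GL (Fin k) F}
    (hg : ∀ l, g l ∈ isoOf f) :
    RP Q M (pvec fun l => (g l).val *ᵥ p l) (pvec fun l => (g l).val *ᵥ z l) := by
  have := RP.conj hle (pmatGL_mem hM g hg) h
  rwa [coe_pmatGL, pmat_mulVec_pvec, pmat_mulVec_pvec] at this

/-- A single pair gives a pair at every point. -/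
lemma seed {j : Fin t} {p : Fin t → Fin k → F} {a b : Fin k → F} {s : F} (hp : ∀ l, l ≠ j → p l ≠ 0)
    (hab : LinearIndependent F ![a, b]) (hs : s ≠ 0)
    (h : RP Q M (pvec (Function.update p j b)) (s • pvec (Function.update p j a)))
    (q : Fin t → Fin k → F) (hq : ∀ l, q l ≠ 0) :
    ∃ y, y ∉ Submodule.span F {q j} ∧ RP Q M (pvec q) (pvec (Function.update q j y)) := by
  set P₀ := Function.update p j b with hP₀
  have hP : ∀ l, P₀ l ≠ 0 := fun l => by
    rcases eq_or_ne l j with rfl | hl
    · rw [hP₀, Function.update_self]; exact LinearIndependent.ne_zero 1 hab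
    · rw [hP₀, Function.update_of_ne hl]; exact hp l hl
  choose g hg hgq using fun l => exists_iso_mulVec T.hf (hP l) (hq l)
  rw [← pvec_update_smul] at h
  have h' := RP.carry T hle hM h fun l => closure_sTv_le' T.hf (hg l)
  refine ⟨(g j).val *ᵥ (s • a), fun hmem => ?_, ?_⟩
  · obtain ⟨r, hr⟩ := Submodule.mem_span_singleton.1 hmem
    rw [← hgq j, ← mulVec_smul] at hr
    have e := gl_mulVec_injective (g j) hr
    rw [hP₀, Function.update_self] at e
    have := (LinearIndependent.pair_iff.1 hab (-s) r (by rw [e]; module)).1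
    exact hs (neg_eq_zero.1 this)
  · convert h' using 2
    · exact funext fun l => (hgq l).symm
    · funext l
      rcases eq_or_ne l j with rfl | hl
      · simp
      · rw [Function.update_of_ne hl, Function.update_of_ne hl, ← hgq l, hP₀, Function.update_of_ne hl]

/-- The second vectors moving along one factor. -/
lemma add_along {j : Fin t} {q : Fin t → Fin k → F} {y y' : Fin k → F}
    (h : RP Q M (pvec q) (pvec (Function.update q j y)))
    (h' : RP Q M (pvec q) (pvec (Function.update q j y'))) :
    RP Q M (pvec q) (pvec (Function.update q j (y + y'))) := by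
  rw [pvec_update_add]
  exact (rps Q M (T.Q_pvec q)).add_mem (mem_rps.2 h) (mem_rps.2 h')

lemma sub_along {j : Fin t} {q : Fin t → Fin k → F} {y y' : Fin k → F}
    (h : RP Q M (pvec q) (pvec (Function.update q j y)))
    (h' : RP Q M (pvec q) (pvec (Function.update q j y'))) :
    RP Q M (pvec q) (pvec (Function.update q j (y - y'))) := by
  have : pvec (Function.update q j (y - y')) =
      pvec (Function.update q j y) - pvec (Function.update q j y') := by
    rw [eq_sub_iff_add_eq, ← pvec_update_add, sub_add_cancel]
  rw [this]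
  exact (rps Q M (T.Q_pvec q)).sub_mem (mem_rps.2 h) (mem_rps.2 h')

lemma zero_along {j : Fin t} (q : Fin t → Fin k → F) :
    RP Q M (pvec q) (pvec (Function.update q j 0)) := by
  rw [pvec_zero_of j (Function.update_self _ _ _)]
  exact (rps Q M (T.Q_pvec q)).zero_mem

/-- The orthogonal second vectors. -/
lemma orth_of_seed {j : Fin t}
    (h : ∀ q : Fin t → Fin k → F, (∀ l, q l ≠ 0) →
      ∃ y, y ∉ Submodule.span F {q j} ∧ RP Q M (pvec q) (pvec (Function.update q j y))) :
    Orth Q f M j := by
  intro q hq v hv
  have hf := T.hf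
  obtain ⟨y, hy, hry⟩ := h q hq
  have hqv : f (q j) v = 0 := by rw [hf.skew, hv, neg_zero]
  have step : ∀ v', f v' (q j) = 0 → f y v' ≠ 0 →
      RP Q M (pvec q) (pvec (Function.update q j v')) := by
    intro v' hv' hyv'
    have hqv' : f (q j) v' = 0 := by rw [hf.skew, hv', neg_zero]
    let g : Fin t → GL (Fin k) F := fun l => if l = j then sTv f v' (f y v')⁻¹ else 1
    have hg : ∀ l, g l ∈ isoOf f := fun l => by
      by_cases hl : l = j
      · simp only [g, if_pos hl]; exact sTv_mem_isoOf hf _ _
      · simp only [g, if_neg hl]; exact (isoOf f).one_mem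
    have h' := RP.carry T hle hM hry hg
    have e1 : (fun l => (g l).val *ᵥ q l) = q := funext fun l => by
      by_cases hl : l = j
      · subst hl
        simp only [g, if_pos rfl]
        rw [sTv_mulVec hf, hqv', mul_zero, zero_smul, add_zero]
      · simp [g, hl]
    have e2 : (fun l => (g l).val *ᵥ Function.update q j y l) = Function.update q j (y + v') :=
      funext fun l => by
        by_cases hl : l = j
        · subst hl
          simp only [g, if_pos rfl, Function.update_self]
          rw [sTv_mulVec hf, inv_mul_cancel₀ hyv', one_smul]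
        · simp [g, hl]
    rw [e1, e2] at h'
    have := sub_along T hle hM h' hry
    rwa [add_sub_cancel_left] at this
  by_cases hyv : f y v = 0
  · have hli : LinearIndependent F ![q j, y] := (LinearIndependent.pair_iff' (hq j)).2 fun s hs =>
      hy (Submodule.mem_span_singleton.2 ⟨s, hs⟩)
    obtain ⟨v₀, hv₀⟩ := exists_pairing hf hli ![0, 1]
    have h₀ : f v₀ (q j) = 0 := by rw [hf.skew, show f (q j) v₀ = 0 from hv₀ 0, neg_zero]
    have h₁ : f y v₀ = 1 := hv₀ 1
    have ha := step (v + v₀) (by rw [hf.bilinear.add_left, hv, h₀, add_zero])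
      (by rw [hf.bilinear.add_right, hyv, h₁, zero_add]; exact one_ne_zero)
    have hb := step v₀ h₀ (by rw [h₁]; exact one_ne_zero)
    have := sub_along T hle hM ha hb
    rwa [add_sub_cancel_right] at this
  · exact step v hv hyv

/-- In a plane every second vector occurs. -/
lemma along_of_seed_two (hk : k = 2) (h2 : (2 : F) ≠ 0) {j : Fin t}
    (h : ∀ q : Fin t → Fin k → F, (∀ l, q l ≠ 0) →
      ∃ y, y ∉ Submodule.span F {q j} ∧ RP Q M (pvec q) (pvec (Function.update q j y))) :
    Along Q M j := by
  subst hk
  intro q hq v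
  have hf := T.hf
  obtain ⟨y, hy, hry⟩ := h q hq
  obtain ⟨l₀, hl₀⟩ : ∃ l : Fin t, l ≠ j := by
    have := T.two_le
    exact ⟨if j.val = 0 then ⟨1, by omega⟩ else ⟨0, by omega⟩, by
      split_ifs with h0 <;> (intro e; rw [Fin.ext_iff] at e; simp at e; omega)⟩
  have hself : ∀ d : F, RP Q M (pvec q) (pvec (Function.update q j (d • q j))) := fun d => by
    rw [pvec_update_smul, Function.update_eq_self]
    exact RP.self (T.Q_pvec q) d
  have hli : LinearIndependent F ![q j, y] := (LinearIndependent.pair_iff' (hq j)).2 fun s hs =>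
    hy (Submodule.mem_span_singleton.2 ⟨s, hs⟩)
  have hspan := hli.span_eq_top_of_card_eq_finrank (by simp)
  -- squares of scalars
  have hsq : ∀ s : F, RP Q M (pvec q) (pvec (Function.update q j ((s * s) • y))) := by
    intro s
    rcases eq_or_ne s 0 with rfl | hs
    · rw [mul_zero, zero_smul]; exact zero_along T hle hM q
    let g : Fin t → GL (Fin 2) F := fun _ => 1
    obtain ⟨x, hx, hxg⟩ := exists_iso_mulVec hf (hq l₀) (smul_ne_zero hs (hq l₀))
    have hxi := closure_sTv_le' hf hx
    have h' := RP.carry T hle hM hry (g := Function.update g l₀ x) fun l => by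
      rcases eq_or_ne l l₀ with rfl | hl
      · rw [Function.update_self]; exact hxi
      · rw [Function.update_of_ne hl]; exact (isoOf f).one_mem
    have e : ∀ z : Fin t → Fin 2 → F, z l₀ = q l₀ →
        (fun l => (Function.update g l₀ x l).val *ᵥ z l) = Function.update z l₀ (s • z l₀) := by
      intro z hz
      funext l
      rcases eq_or_ne l l₀ with rfl | hl
      · rw [Function.update_self, Function.update_self, hz, hxg]
      · rw [Function.update_of_ne hl, Function.update_of_ne hl, Units.val_one, one_mulVec]
    rw [e q rfl, e _ (Function.update_of_ne hl₀ _ _), pvec_update_smul, pvec_update_smul,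
      Function.update_eq_self, Function.update_eq_self] at h'
    have := RP.scale h' (inv_ne_zero hs)
    rw [inv_smul_smul₀ hs, inv_inv, smul_smul, ← pvec_update_smul] at this
    exact this
  have hall : ∀ d : F, RP Q M (pvec q) (pvec (Function.update q j (d • y))) := by
    intro d
    have h4 : (4 : F) ≠ 0 := by
      rw [show (4 : F) = 2 * 2 by norm_num]; exact mul_ne_zero h2 h2
    have := sub_along T hle hM (hsq (d / 4 + 1)) (hsq (d / 4 - 1))
    rw [← sub_smul, show (d / 4 + 1) * (d / 4 + 1) - (d / 4 - 1) * (d / 4 - 1) = d by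
      field_simp; ring] at this
    exact this
  obtain ⟨α, hα⟩ := (Submodule.mem_span_range_iff_exists_fun F).1 (hspan ▸ Submodule.mem_top : v ∈ _)
  rw [Fin.sum_univ_two] at hα
  rw [← hα]
  exact add_along T hle hM (hself _) (hall _)

/-- A far point from a near one. -/
lemma move_pure {p r : Fin t → Fin k → F} {m : Fin t} {y w : Fin k → F}
    (hr : ∀ l, l ≠ m → f (p l) (r l) ≠ 0) (hrm : f (r m) (p m) = 0) (hwp : f w (p m) = 0)
    (hyr : f y (r m) = 0) (hyw : f y w ≠ 0)
    (hx : ∀ s : F, RP Q M (pvec p) (pvec (Function.update p m (s • y))))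
    (h₂ : RP Q M (pvec (Function.update r m w)) (pvec r)) : RP Q M (pvec p) (pvec r) := by
  have hf := T.hf
  set r' := Function.update r m w with hr'
  set B := c₀ * ∏ l, f (Function.update p m y l) (r' l) with hB
  have hB0 : B ≠ 0 := mul_ne_zero T.c_ne (Finset.prod_ne_zero_iff.2 fun l _ => by
    rcases eq_or_ne l m with rfl | hl
    · rw [Function.update_self, hr', Function.update_self]; exact hyw
    · rw [Function.update_of_ne hl, hr', Function.update_of_ne hl]; exact hr l hl)
  have e₁ : polar Q (pvec p) (pvec r') = 0 := T.orth m (by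
    rw [hr', Function.update_self, hf.skew, hwp, neg_zero])
  have e₂ : polar Q (pvec p) (pvec r) = 0 := T.orth m (by rw [hf.skew, hrm, neg_zero])
  have := RP.move hle (T.Q_pvec p) (T.Q_pvec r) (hx B⁻¹) h₂ e₁ e₂
  rwa [pvec_update_smul, polar_smul_left, polar_smul_left, smul_eq_mul, smul_eq_mul,
    T.orth m (show f (Function.update p m y m) (r m) = 0 by rw [Function.update_self, hyr]),
    T.polar_pvec, ← hB, inv_mul_cancel₀ hB0, one_smul, mul_zero, zero_smul, sub_zero] at this

omit hM in
/-- Vectors with one fixed factor from those in general position. -/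
lemma expand {p x : Fin t → Fin k → F} (hp : ∀ l, p l ≠ 0) {m : Fin t}
    (h : ∀ r : Fin t → Fin k → F, r m = x m → (∀ l, l ≠ m → f (p l) (r l) ≠ 0) →
      RP Q M (pvec p) (pvec r)) : RP Q M (pvec p) (pvec x) := by
  have hf := T.hf
  suffices H : ∀ (U : Finset (Fin t)) (z : Fin t → Fin k → F), z m = x m →
      (∀ l, l ≠ m → l ∉ U → f (p l) (z l) ≠ 0) → RP Q M (pvec p) (pvec z) from
    H Finset.univ x rfl fun l _ hl => absurd (Finset.mem_univ l) hl
  intro U
  induction U using Finset.induction_on with
  | empty => exact fun z hz hz' => h z hz fun l hl => hz' l hl (Finset.notMem_empty l)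
  | @insert a s ha ih =>
    intro z hz hz'
    by_cases ham : a = m
    · exact ih z hz fun l hl hl' => hz' l hl fun h' => (Finset.mem_insert.1 h').elim
        (fun e => hl (e.trans ham)) hl'
    obtain ⟨g, hg⟩ := exists_pairing hf (v := ![p a]) (LinearIndependent.of_subsingleton 0 (hp a)) ![1]
    have hpg : f (p a) g = 1 := hg 0
    have upd : ∀ v, f (p a) v ≠ 0 → RP Q M (pvec p) (pvec (Function.update z a v)) := fun v hv =>
      ih _ (by rw [Function.update_of_ne (Ne.symm ham)]; exact hz) fun l hl hl' => by
        rcases eq_or_ne l a with rfl | hla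
        · rwa [Function.update_self]
        · rw [Function.update_of_ne hla]
          exact hz' l hl fun h' => (Finset.mem_insert.1 h').elim hla hl'
    by_cases hv : f (p a) (z a) = 0
    · have h1 := upd (z a + g) (by rw [hf.bilinear.add_right, hv, hpg, zero_add]; exact one_ne_zero)
      have h2 := upd g (by rw [hpg]; exact one_ne_zero)
      have h3 := (rps Q M (T.Q_pvec p)).sub_mem (mem_rps.2 h1) (mem_rps.2 h2)
      rwa [pvec_update_add, add_sub_cancel_right, Function.update_eq_self, mem_rps] at h3
    · have h1 := upd (z a) hv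
      rwa [Function.update_eq_self] at h1

/-- Orthogonal moves along one factor give all moves along the others. -/
lemma along_of_orth (hk : 3 ≤ k) {m : Fin t} (h : Orth Q f M m) {l : Fin t} (hlm : l ≠ m) :
    Along Q M l := by
  intro p hp v
  have hf := T.hf
  refine expand T hle hp (m := m) fun r hrm hr => ?_
  rw [Function.update_of_ne hlm.symm] at hrm
  obtain ⟨w, hw, hwn⟩ := exists_orth_extend hf.bilinear ![p m] (by
    rw [Fintype.card_fin]; omega)
  have hpw : f (p m) w = 0 := hw 0
  have hwp : f w (p m) = 0 := by rw [hf.skew, hpw, neg_zero]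
  have hw0 : w ≠ 0 := fun e => hwn (e ▸ Submodule.zero_mem _)
  have hli : LinearIndependent F ![p m, w] := (LinearIndependent.pair_iff' (hp m)).2 fun s hs =>
    hwn (by rw [← hs]; exact Submodule.smul_mem _ _ (Submodule.subset_span ⟨0, rfl⟩))
  obtain ⟨y, hy⟩ := exists_pairing hf hli ![0, 1]
  have hyp : f y (p m) = 0 := by rw [hf.skew, show f (p m) y = 0 from hy 0, neg_zero]
  have hyw : f y w ≠ 0 := by rw [hf.skew, show f w y = 1 from hy 1]; simp
  refine move_pure T hle hM hr (by rw [hrm]; exact hf.alternating _) hwp (by rw [hrm]; exact hyp) hyw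
    (fun s => h p hp _ (by rw [hf.bilinear.smul_left, hyp, mul_zero])) ?_
  have hr0 : ∀ n, Function.update r m w n ≠ 0 := fun n => by
    rcases eq_or_ne n m with rfl | hn
    · rwa [Function.update_self]
    · rw [Function.update_of_ne hn]
      exact fun e => hr n hn (by rw [e, form_zero_right hf.bilinear])
  have h2 := h _ hr0 (r m) (by rw [Function.update_self, hrm, hpw])
  rwa [Function.update_idem, Function.update_eq_self] at h2

/-- Every pure vector with an orthogonal factor. -/
lemma pure_perp (hk : 3 ≤ k) (h : ∀ l, Along Q M l) {p r : Fin t → Fin k → F} (hp : ∀ l, p l ≠ 0)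
    {m : Fin t} (hm : f (r m) (p m) = 0) : RP Q M (pvec p) (pvec r) := by
  have hf := T.hf
  refine expand T hle hp (m := m) fun z hzm hz => ?_
  rw [← hzm] at hm
  by_cases h0 : z m = 0
  · rw [pvec_zero_of m h0]; exact (rps Q M (T.Q_pvec p)).zero_mem
  obtain ⟨w, hw, hwn⟩ : ∃ w, f (p m) w = 0 ∧ w ∉ Submodule.span F {z m} := by
    obtain ⟨w, hw, hwn⟩ := exists_orth_extend hf.bilinear ![p m] (by rw [Fintype.card_fin]; omega)
    by_cases hz' : z m ∈ Submodule.span F (Set.range ![p m])
    · exact ⟨w, hw 0, fun h => hwn (Submodule.span_le.2 (Set.singleton_subset_iff.2 hz') h)⟩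
    · refine ⟨p m, hf.alternating _, fun h => hz' ?_⟩
      obtain ⟨s, hs⟩ := Submodule.mem_span_singleton.1 h
      have hs0 : s ≠ 0 := fun e => hp m (by rw [← hs, e, zero_smul])
      rw [show z m = s⁻¹ • p m by rw [← hs, inv_smul_smul₀ hs0]]
      exact Submodule.smul_mem _ _ (Submodule.subset_span ⟨0, rfl⟩)
  have hwp : f w (p m) = 0 := by rw [hf.skew, hw, neg_zero]
  have hw0 : w ≠ 0 := fun e => hwn (e ▸ Submodule.zero_mem _)
  have hli : LinearIndependent F ![z m, w] := (LinearIndependent.pair_iff' h0).2 fun s hs =>
    hwn (Submodule.mem_span_singleton.2 ⟨s, hs⟩)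
  obtain ⟨y, hy⟩ := exists_pairing hf hli ![0, 1]
  refine move_pure T hle hM hz hm hwp
    (by rw [hf.skew, show f (z m) y = 0 from hy 0, neg_zero])
    (by rw [hf.skew, show f w y = 1 from hy 1]; simp) (fun s => h m p hp _) ?_
  have hz0 : ∀ n, Function.update z m w n ≠ 0 := fun n => by
    rcases eq_or_ne n m with rfl | hn
    · rwa [Function.update_self]
    · rw [Function.update_of_ne hn]
      exact fun e => hz n hn (by rw [e, form_zero_right hf.bilinear])
  have h2 := h m _ hz0 (z m)
  rwa [Function.update_idem, Function.update_eq_self] at h2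

omit hM in
/-- The whole orthogonal of a point. -/
lemma mem_SS_of_pure {p : Fin t → Fin k → F} (hp : ∀ l, p l ≠ 0)
    (h : ∀ (r : Fin t → Fin k → F) (m : Fin t), f (r m) (p m) = 0 → RP Q M (pvec p) (pvec r)) :
    pvec p ∈ OmS.SS Q M := by
  have hf := T.hf
  refine ⟨T.Q_pvec p, fun z hz => ?_⟩
  choose g hg using fun l =>
    exists_pairing hf (v := ![p l]) (LinearIndependent.of_subsingleton 0 (hp l)) ![-1]
  have hgp : ∀ l, f (g l) (p l) = 1 := fun l => by
    rw [hf.skew, show f (p l) (g l) = -1 from hg l 0, neg_neg]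
  set K := rps Q M (T.Q_pvec p)
  have key : ∀ (U : Finset (Fin t)) (x : Fin t → Fin k → F), (∀ l ∉ U, ∃ s : F, x l = s • g l) →
      pvec x - (∏ l, f (x l) (p l)) • pvec g ∈ K := by
    intro U
    induction U using Finset.induction_on with
    | empty =>
      intro x hx
      choose s hs using fun l => hx l (Finset.notMem_empty l)
      have e : x = fun l => s l • g l := funext hs
      simp only [e, pvec_smul_all, hf.bilinear.smul_left, hgp, mul_one, sub_self]
      exact K.zero_mem
    | @insert a s _ ih =>
      intro x hx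
      set c := f (x a) (p a)
      have e : pvec x = pvec (Function.update x a (x a - c • g a)) +
          pvec (Function.update x a (c • g a)) := by
        rw [← pvec_update_add, sub_add_cancel, Function.update_eq_self]
      have h1 : pvec (Function.update x a (x a - c • g a)) ∈ K := mem_rps.2 (h _ a (by
        rw [Function.update_self, form_sub_left hf.bilinear, hf.bilinear.smul_left, hgp, mul_one,
          sub_self]))
      have h2 := ih (Function.update x a (c • g a)) fun l hl => by
        rcases eq_or_ne l a with rfl | hla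
        · exact ⟨c, Function.update_self _ _ _⟩
        · rw [Function.update_of_ne hla]
          exact hx l fun h' => (Finset.mem_insert.1 h').elim hla hl
      have e2 : (∏ l, f (Function.update x a (c • g a) l) (p l)) = ∏ l, f (x l) (p l) :=
        Finset.prod_congr rfl fun l _ => by
          rcases eq_or_ne l a with rfl | hla
          · rw [Function.update_self, hf.bilinear.smul_left, hgp, mul_one]
          · rw [Function.update_of_ne hla]
      rw [e, add_sub_assoc]
      rw [e2] at h2
      exact K.add_mem h1 h2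
  -- the functional given by the polar form
  let Φ : ((Fin t → Fin k) → F) →ₗ[F] ((Fin t → Fin k) → F) :=
    LinearMap.id - c₀⁻¹ • ((polarBilin Q).flip (pvec p)).smulRight (pvec g)
  have hΦ : ∀ x, Φ (pvec x) = pvec x - (∏ l, f (x l) (p l)) • pvec g := fun x => by
    simp only [Φ, LinearMap.sub_apply, LinearMap.id_apply, LinearMap.smul_apply,
      LinearMap.smulRight_apply, LinearMap.flip_apply, polarBilin_apply_apply, T.polar_pvec, smul_smul]
    rw [← mul_assoc, inv_mul_cancel₀ T.c_ne, one_mul]
  have hzΦ : Φ z = z := by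
    simp only [Φ, LinearMap.sub_apply, LinearMap.id_apply, LinearMap.smul_apply,
      LinearMap.smulRight_apply, LinearMap.flip_apply, polarBilin_apply_apply]
    rw [polar_comm, hz, zero_smul, smul_zero, sub_zero]
  suffices hmem : z ∈ K from (mem_rps.1 hmem).2
  rw [← hzΦ, pi_eq_sum_univ z, map_sum]
  refine K.sum_mem fun a _ => ?_
  have hx : pvec (Function.update (fun l => (Pi.single (a l) 1 : Fin k → F)) ⟨0, by have := T.two_le; omega⟩
      (z a • Pi.single (a ⟨0, by have := T.two_le; omega⟩) 1)) = z a • (Pi.single a 1 : (Fin t → Fin k) → F) := by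
    rw [pvec_update_smul]
    congr 1
    rw [Function.update_eq_self, pvec_single]
  rw [show (fun j => if a = j then (1 : F) else 0) = Pi.single a 1 by
    funext j; simp [Pi.single_apply, eq_comm], ← hx, hΦ]
  exact key Finset.univ _ fun l hl => absurd (Finset.mem_univ l) hl

end CfsgLib.ClassicalMax.TWMax
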