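/-
Two-dimensional factors: from a product member to a root element by double transpositions.
-/
import Cfsg.Agent.Lib.ClassicalMax.TWMax.Merge
set_option autoImplicit false
set_option linter.unusedSectionVars false

namespace CfsgLib.ClassicalMax.TWMax

open Matrix Cfsg.Geo CfsgLib.ClassicalMax.TWreath

variable {F : Type*} [Field F] [DecidableEq F] [Fintype F] {t : ℕ}
  {f : (Fin 2 → F) → (Fin 2 → F) → F} {M : Subgroup (GL (Fin t → Fin 2) F)}
  (hf : IsSymplecticForm f)
include hf

/-- There are no alternating pairs in a plane. -/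
lemma not_isB (X : Matrix (Fin 2) (Fin 2) F) : ¬ IsB f X := by
  rintro ⟨u, v, hli, huv, -⟩
  obtain ⟨w, hw, hwn⟩ : ∃ w, f u w = 1 ∧ w ∈ Submodule.span F (Set.range ![u, v]) := by
    obtain ⟨w, hw⟩ := exists_pairing hf hli ![1, 0]
    exact ⟨w, hw 0, by
      rw [hli.span_eq_top_of_card_eq_finrank (by simp)]
      exact Submodule.mem_top⟩
  obtain ⟨s, hs⟩ := (Submodule.mem_span_range_iff_exists_fun F).1 hwn
  rw [Fin.sum_univ_two] at hs
  simp only [Matrix.cons_val_zero, Matrix.cons_val_one] at hs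
  rw [← hs, hf.bilinear.add_right, hf.bilinear.smul_right, hf.bilinear.smul_right, hf.alternating, huv,
    mul_zero, mul_zero, add_zero] at hw
  exact zero_ne_one hw

/-- The identity of a plane. -/
lemma one_eq_pair {e w : Fin 2 → F} (h : f e w = 1) :
    (1 : Matrix (Fin 2) (Fin 2) F) = op f e w - op f w e := by
  have he : e ≠ 0 := fun h0 => one_ne_zero (α := F) (by rw [← h, h0, form_zero_left hf.bilinear])
  have hli : LinearIndependent F ![e, w] := (LinearIndependent.pair_iff' he).2 fun s hs =>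
    one_ne_zero (α := F) (by rw [← h, ← hs, hf.bilinear.smul_right, hf.alternating, mul_zero])
  refine Matrix.toLin'.injective (LinearMap.ext_on_range (hli.span_eq_top_of_card_eq_finrank (by simp))
    fun i => ?_)
  fin_cases i <;> simp [Matrix.toLin'_apply, sub_mulVec, op_mulVec hf.bilinear, hf.alternating, h,
    hf.skew w e]

variable (hM : Slots f M) (hP : Perms M) (h2 : (2 : F) ≠ 0) (hq : 3 ≤ Fintype.card F)
include hM hP h2 hq

/-- Two more factors enter the support. -/
lemma grow_two {c : F} {X : Fin t → Matrix (Fin 2) (Fin 2) F} {T : Finset (Fin t)} (hc : c ≠ 0)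
    (hA : ∀ m ∈ T, IsA f (X m)) (hone : ∀ m ∉ T, X m = 1) (hmem : Mem M (c • pmat X))
    (hodd : Odd T.card) (hT : 3 ≤ T.card) {j j' : Fin t} (hjj : j ≠ j') (hj : j ∉ T) (hj' : j' ∉ T) :
    ∃ (c' : F) (X' : Fin t → Matrix (Fin 2) (Fin 2) F), c' ≠ 0 ∧
      (∀ m ∈ insert j (insert j' T), IsA f (X' m)) ∧
      (∀ m ∉ insert j (insert j' T), X' m = 1) ∧ Mem M (c' • pmat X') := by
  classical
  obtain ⟨l, hl, l', hl', hll⟩ := Finset.one_lt_card.1 (show 1 < T.card by omega)
  obtain ⟨i, hi⟩ : ((T.erase l).erase l').Nonempty := by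
    rw [← Finset.card_pos, Finset.card_erase_of_mem (Finset.mem_erase.2 ⟨hll.symm, hl'⟩),
      Finset.card_erase_of_mem hl]
    omega
  simp only [Finset.mem_erase] at hi
  obtain ⟨hil', hil, hiT⟩ := hi
  have hlj : l ≠ j := fun e => hj (e ▸ hl)
  have hlj' : l ≠ j' := fun e => hj' (e ▸ hl)
  have hl'j : l' ≠ j := fun e => hj (e ▸ hl')
  have hl'j' : l' ≠ j' := fun e => hj' (e ▸ hl')
  set σ : Equiv.Perm (Fin t) := Equiv.swap l j * Equiv.swap l' j'
  have hσ : σ ∈ alternatingGroup (Fin t) := by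
    simp [σ, Equiv.Perm.mem_alternatingGroup, hlj, hl'j']
  have hσi : ⇑σ⁻¹ = fun m => if m = l then j else if m = j then l else if m = l' then j'
      else if m = j' then l' else m := by
    funext m
    simp only [σ, _root_.mul_inv_rev, Equiv.swap_inv, Equiv.Perm.mul_apply]
    split_ifs with h1 h2' h3 h4
    · subst h1; simp [Equiv.swap_apply_of_ne_of_ne hl'j.symm hjj]
    · subst h2'; simp [Equiv.swap_apply_of_ne_of_ne hll hlj']
    · subst h3; simp [Equiv.swap_apply_of_ne_of_ne hll.symm hl'j]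
    · subst h4; simp [Equiv.swap_apply_of_ne_of_ne hlj'.symm hjj.symm]
    · simp [Equiv.swap_apply_of_ne_of_ne h1 h2', Equiv.swap_apply_of_ne_of_ne h3 h4]
  set P := (T.erase l).erase l' with hPdef
  have hPm : ∀ {m}, m ∈ P ↔ m ≠ l' ∧ m ≠ l ∧ m ∈ T := fun {m} => by
    simp [hPdef, Finset.mem_erase]
  have hdata : ∀ m ∈ P, ∃ (Y : Matrix (Fin 2) (Fin 2) F) (a b : Fin 2 → F),
      (∃ g ∈ isoOf f, Y = g.val * X m * (g⁻¹).val) ∧ LinearIndependent F ![a, b] ∧
      X m * Y = (-1 : F) • op f a b ∧ Y * X m = (1 : F) • op f b a := fun m hm =>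
    pairAA hf (hA m (hPm.1 hm).2.2)
  choose Ym am bm hYm habm hm1 hm2 using hdata
  let Y : Fin t → Matrix (Fin 2) (Fin 2) F := fun m =>
    if h : m ∈ P then Ym m h else (X ∘ ⇑σ⁻¹) m
  let Z : Fin t → Matrix (Fin 2) (Fin 2) F := fun m =>
    if m = j then X l else if m = j' then X l' else X m
  let a : Fin t → Fin 2 → F := fun m => if h : m ∈ P then am m h else 0
  let b : Fin t → Fin 2 → F := fun m => if h : m ∈ P then bm m h else 0
  let μ : Fin t → F := fun m => if m ∈ P then -1 else 1
  have hR₂ : Mem M (c • pmat Y) := (hmem.perm hP hσ).conj_all hf hM fun m => by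
    by_cases h : m ∈ P
    · obtain ⟨h1, h2', h3⟩ := hPm.1 h
      simp only [Y, dif_pos h, Function.comp_apply, hσi, if_neg h2', if_neg (fun e : m = j => hj (e ▸ h3)),
        if_neg h1, if_neg (fun e : m = j' => hj' (e ▸ h3))]
      exact hYm m h
    · simp only [Y, dif_neg h]; exact alg_one_self hf _
  have hYl : Y l = 1 := by simp [Y, hPm, hσi, hone j hj]
  have hYl' : Y l' = 1 := by simp [Y, hPm, hσi, hll.symm, hl'j, hone j' hj']
  have hYj : Y j = X l := by simp [Y, hPm, hj, hσi, hlj.symm]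
  have hYj' : Y j' = X l' := by
    simp [Y, hPm, hj', hσi, hlj'.symm, hjj.symm, hl'j'.symm]
  have hsq : X l * X l = 0 := (hA l hl).sq hf
  have hmain := combine hf hM (X := X) (Y := Y) (Z := Z) (a := a) (b := b) (μ := μ)
    (ν := fun _ => (1 : F)) (P := P) (last := i) (l0 := j) hmem hR₂ ⟨l, hsq⟩
    ⟨j, by rw [hYj, hsq]⟩ ⟨l, by rw [hYl, mul_one, hsq]⟩ ⟨j, by rw [hYj, hone j hj, mul_one, hsq]⟩
    (hPm.2 ⟨hil', hil, hiT⟩) (fun h => hj (hPm.1 h).2.2) (by simp [Z, hsq])
    (fun m hm => by
      simp only [μ, if_neg hm, one_smul]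
      by_cases h1 : m = j
      · subst h1; simp [Z, hYj, hone m hj]
      by_cases h2' : m = j'
      · subst h2'; simp [Z, hYj', hone m hj', hjj.symm]
      by_cases h3 : m = l
      · subst h3; simp [Z, hYl, h1, h2']
      by_cases h4 : m = l'
      · subst h4; simp [Z, hYl', h1, h2']
      have hmT : m ∉ T := fun h => hm (hPm.2 ⟨h4, h3, h⟩)
      simp [Z, Y, hm, hσi, h1, h2', h3, h4, hone m hmT])
    (fun m hm => by
      simp only [μ, Y, a, b, if_pos hm, dif_pos hm]
      exact ⟨habm m hm, hm1 m hm, hm2 m hm⟩)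
  have hμ : ∏ m, μ m = -1 := by
    simp only [μ]
    rw [Finset.prod_ite_mem, Finset.univ_inter, Finset.prod_const]
    have : P.card = T.card - 2 := by
      rw [hPdef, Finset.card_erase_of_mem (Finset.mem_erase.2 ⟨hll.symm, hl'⟩),
        Finset.card_erase_of_mem hl]
      omega
    obtain ⟨r, hr⟩ := hodd
    rw [this, Odd.neg_one_pow ⟨r - 1, by omega⟩]
  rw [hμ, Finset.prod_const_one] at hmain
  set V : Fin t → Matrix (Fin 2) (Fin 2) F := fun m => if m ∈ P then op f (a m) (a m) else Z m with hV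
  have hiP : i ∈ P := hPm.2 ⟨hil', hil, hiT⟩
  have hai : a i = am i hiP := dif_pos hiP
  have hbi : b i = bm i hiP := dif_pos hiP
  have hab := habm i hiP
  have hji : j ≠ i := fun e => hj (e ▸ hiT)
  have hVj : V j = X l := by simp [hV, Z, hPm, hj]
  obtain ⟨c', X', hc', hX', h'⟩ := finish hf hM le_rfl (Or.inr hq) (Or.inl h2) hji
    (by rw [hVj, hsq]) hmain fun s hs => by
      rw [hai, hbi] at hs
      obtain ⟨z, hz⟩ := exists_pairing hf hab ![0, 1]
      obtain ⟨z', hz'⟩ := exists_pairing hf hab ![1, 0]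
      -- evaluate at the two vectors
      have hab' : f (am i hiP) (bm i hiP) ≠ 0 := fun h0 => not_isB hf _
        ⟨_, _, hab, h0, rfl⟩
      have key : ∀ v, (c * c * -1 * f v (bm i hiP)) • am i hiP - (c * c * 1 * f v (am i hiP)) • bm i hiP
          = s • v := fun v => by
        have := congrArg (fun E => E *ᵥ v) hs
        simpa only [sub_mulVec, smul_mulVec, op_mulVec hf.bilinear, one_mulVec, smul_smul] using this
      have e1 := key (am i hiP)
      have e2 := key (bm i hiP)
      rw [hf.alternating, mul_zero, zero_smul, sub_zero] at e1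
      rw [hf.alternating, mul_zero, zero_smul, zero_sub, ← neg_smul, hf.skew] at e2
      have d1 := smul_left_injective F (LinearIndependent.ne_zero 0 hab) e1
      have d2 := smul_left_injective F (LinearIndependent.ne_zero 1 hab) e2
      refine h2 (mul_left_cancel₀ (mul_ne_zero (mul_ne_zero hc hc) hab') ?_)
      rw [mul_zero]
      linear_combination -d1 + d2
  refine ⟨c', Function.update V i X', hc', fun m hm => ?_, fun m hm => ?_, h'⟩
  · by_cases hmi : m = i
    · subst hmi; rw [Function.update_self]; exact hX'.resolve_right (not_isB hf _)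
    rw [Function.update_of_ne hmi]
    by_cases hmP : m ∈ P
    · simp only [hV, if_pos hmP, a, dif_pos hmP]
      exact ⟨_, LinearIndependent.ne_zero 0 (habm m hmP), rfl⟩
    simp only [hV, if_neg hmP, Z]
    split_ifs with h1 h2'
    · exact hA l hl
    · exact hA l' hl'
    · simp only [Finset.mem_insert, h1, h2', false_or] at hm
      exact hA m hm
  · simp only [Finset.mem_insert, not_or] at hm
    rw [Function.update_of_ne (fun e : m = i => hm.2.2 (e ▸ hiT))]
    simp [hV, Z, hPm, hm.1, hm.2.1, hm.2.2, hone m hm.2.2]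

/-- A product member gives a root element. -/
lemma two_root
    (hsk : ∀ (c : F) (X : Fin t → Matrix (Fin 2) (Fin 2) F) (T : Finset (Fin t)), c ≠ 0 →
      (∀ m ∈ T, IsA f (X m)) → (∀ m ∉ T, X m = 1) → T.Nonempty → Mem M (c • pmat X) → Odd T.card)
    (ht : Even t) {c : F} {X : Fin t → Matrix (Fin 2) (Fin 2) F} {i l : Fin t} (hc : c ≠ 0)
    (hX : ∀ m, Kind f (X m)) (hi : IsA f (X i)) (hli : l ≠ i) (hl : X l ≠ 1)
    (hmem : Mem M (c • pmat X)) :
    ∃ (j : Fin t) (p : Fin t → Fin 2 → F) (a b : Fin 2 → F) (x y : F), (∀ m, m ≠ j → p m ≠ 0) ∧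
      LinearIndependent F ![a, b] ∧ x ≠ 0 ∧
      Mem M (pmat (Function.update (fun m => op f (p m) (p m)) j (x • op f a b - y • op f b a))) := by
  classical
  have hX' : ∀ m, X m ≠ 1 → IsA f (X m) := fun m hm =>
    (hX m).elim id fun h => h.elim (fun h => absurd h (not_isB hf _)) fun h => absurd h hm
  suffices H : ∀ (n : ℕ) (c : F) (X : Fin t → Matrix (Fin 2) (Fin 2) F) (T : Finset (Fin t)),
      t - T.card = n → c ≠ 0 → (∀ m ∈ T, IsA f (X m)) → (∀ m ∉ T, X m = 1) → 2 ≤ T.card →
      Mem M (c • pmat X) → ∃ (c' : F) (X' : Fin t → Matrix (Fin 2) (Fin 2) F) (j : Fin t), c' ≠ 0 ∧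
        (∀ m, m ≠ j → IsA f (X' m)) ∧ X' j = 1 ∧ Mem M (c' • pmat X') by
    obtain ⟨c', X', j, hc', hA, hj, h'⟩ := H _ c X (Finset.univ.filter fun m => X m ≠ 1) rfl hc
      (fun m hm => hX' m (Finset.mem_filter.1 hm).2) (fun m hm => by simpa using hm)
      (Finset.one_lt_card.2 ⟨i, by simp [hi.ne_one hf (by omega)], l, by simp [hl], hli.symm⟩) hmem
    obtain ⟨u, hu0, -⟩ := id hi
    obtain ⟨w, hw⟩ := exists_pairing hf (v := ![u]) (LinearIndependent.of_subsingleton 0 hu0) ![1]
    have huw : f u w = 1 := hw 0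
    choose p hp hXp using fun m => fun h : m ≠ j => hA m h
    refine ⟨j, fun m => if h : m = j then 0 else p m h, u, w, c', c', fun m hm => by simp [hm, hp m hm],
      (LinearIndependent.pair_iff' hu0).2 fun s hs => one_ne_zero (α := F)
        (by rw [← huw, ← hs, hf.bilinear.smul_right, hf.alternating, mul_zero]), hc', ?_⟩
    rw [← smul_sub, ← one_eq_pair hf huw, pmat_update_smul]
    convert h' using 4
    funext m
    by_cases hm : m = j
    · rw [hm, Function.update_self, hj]
    · simp [hm, (hXp m hm).symm]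
  intro n
  induction n using Nat.strong_induction_on with
  | _ n ih =>
    intro c X T hn hc hA hone h2T hmem
    have hodd := hsk c X T hc hA hone (Finset.card_pos.1 (by omega)) hmem
    have hTt : T.card ≤ t := by simpa using Finset.card_le_univ T
    obtain ⟨r, hr⟩ := hodd
    obtain ⟨s, hs⟩ := ht
    have hcompl : Tᶜ.card = t - T.card := by rw [Finset.card_compl, Fintype.card_fin]
    by_cases h1 : Tᶜ.card ≤ 1
    · obtain ⟨j, hj⟩ := Finset.card_eq_one.1 (show Tᶜ.card = 1 by omega)
      have hmemT : ∀ m, m ∉ T ↔ m = j := fun m => by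
        rw [← Finset.mem_compl, hj, Finset.mem_singleton]
      exact ⟨c, X, j, hc, fun m hm => hA m (by_contra fun h => hm ((hmemT m).1 h)),
        hone j ((hmemT j).2 rfl), hmem⟩
    · obtain ⟨j, hj, j', hj', hjj⟩ := Finset.one_lt_card.1 (show 1 < Tᶜ.card by omega)
      rw [Finset.mem_compl] at hj hj'
      obtain ⟨c', X', hc', hA', hone', h'⟩ := grow_two hf hM hP h2 hq hc hA hone hmem ⟨r, hr⟩
        (by omega) hjj hj hj'
      have hcard : (insert j (insert j' T)).card = T.card + 2 := by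
        rw [Finset.card_insert_of_notMem (by simp [hjj, hj]), Finset.card_insert_of_notMem hj']
      exact ih _ (by omega) c' X' _ rfl hc' hA' hone' (by omega) h'

end CfsgLib.ClassicalMax.TWMax
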