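/-
Two-dimensional factors: the monomials reached from the moves along single factors.
-/
import Cfsg.Agent.Lib.ClassicalMax.TWMax.Closure
import Cfsg.Agent.Lib.ClassicalMax.TWMax.MergeTwo
set_option autoImplicit false
set_option linter.unusedSectionVars false

namespace CfsgLib.ClassicalMax.TWMax

open Matrix Cfsg.Geo QuadraticMap CfsgLib.ClassicalMax.TWreath
open CfsgLib.Classical.Quad (NDPolar Frame)

variable {F : Type*} [Field F] [DecidableEq F] [Fintype F] {t : ℕ}
  {Q : QuadraticForm F ((Fin t → Fin 2) → F)} {f : (Fin 2 → F) → (Fin 2 → F) → F}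
  {c₀ : F} {M : Subgroup (GL (Fin t → Fin 2) F)}
  (T : TForm Q f c₀) (hle : M ≤ omegaGL ⇑Q) (hM : Slots f M)
include T hle hM

/-- The monomials of all the admissible sizes. -/
lemma mono_perp (ht : Even t) (h : ∀ l, Along Q M l) {p g : Fin t → Fin 2 → F}
    (hgp : ∀ l, f (g l) (p l) = 1) (G : Finset (Fin t)) (hG : G ≠ Finset.univ) (c : F) :
    RP Q M (pvec p) (c • pvec fun l => if l ∈ G then g l else p l) := by
  classical
  have hf := T.hf
  set mon : Finset (Fin t) → (Fin t → Fin 2 → F) := fun G l => if l ∈ G then g l else p l with hmon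
  have hp : ∀ l, p l ≠ 0 := fun l e => zero_ne_one (α := F) (by
    rw [← hgp l, e, form_zero_right hf.bilinear])
  have hg : ∀ l, g l ≠ 0 := fun l e => zero_ne_one (α := F) (by
    rw [← hgp l, e, form_zero_left hf.bilinear])
  have hmon0 : ∀ G l, mon G l ≠ 0 := fun G l => by
    simp only [mon]; split_ifs
    exacts [hg l, hp l]
  let S : ℕ → Prop := fun s => ∀ G : Finset (Fin t), G.card = s → ∀ c : F, RP Q M (pvec p) (c • pvec (mon G))
  have h0 : S 0 := fun G hG c => by
    have : mon G = p := funext fun l => by simp [mon, Finset.card_eq_zero.1 hG]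
    rw [this]; exact RP.self (T.Q_pvec p) c
  have h1 : S 1 := fun G hG c => by
    obtain ⟨j, rfl⟩ := Finset.card_eq_one.1 hG
    have : mon {j} = Function.update p j (g j) := funext fun l => by
      rcases eq_or_ne l j with rfl | hl
      · simp [mon]
      · simp [mon, hl]
    rw [this, ← pvec_update_smul]
    exact h j p hp _
  -- passing to the complement and one more change
  have step : ∀ (G G' : Finset (Fin t)) (j : Fin t), (∀ l, l ≠ j → (l ∈ G' ↔ l ∉ G)) → (j ∈ G ↔ j ∈ G') →
      G ≠ Finset.univ → G.Nonempty → G' ≠ Finset.univ →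
      (∀ c : F, RP Q M (pvec p) (c • pvec (mon G))) → ∀ c : F, RP Q M (pvec p) (c • pvec (mon G')) := by
    intro G G' j hGG hj hGu hGn hG'u hz c
    obtain ⟨n, hn⟩ : ∃ n, n ∉ G' := by
      by_contra! hcon
      exact hG'u (Finset.eq_univ_iff_forall.2 hcon)
    obtain ⟨n', hn'⟩ := hGn
    set B := c₀ * ∏ l, f (mon G l) (mon Gᶜ l) with hB
    have hB0 : B ≠ 0 := mul_ne_zero T.c_ne (Finset.prod_ne_zero_iff.2 fun l _ => by
      by_cases hl : l ∈ G
      · simp [mon, hl, hgp]
      · simp [mon, hl, hf.skew (p l) (g l), hgp])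
    have e₁ : polar Q (pvec p) (pvec (mon Gᶜ)) = 0 := T.orth n' (by simp [mon, hn', hf.alternating])
    have e₂ : polar Q (pvec p) (pvec (mon G')) = 0 := T.orth n (by simp [mon, hn, hf.alternating])
    have h₂ : RP Q M (pvec (mon Gᶜ)) (pvec (mon G')) := by
      have : mon G' = Function.update (mon Gᶜ) j (mon G' j) := funext fun l => by
        rcases eq_or_ne l j with rfl | hl
        · simp
        · rw [Function.update_of_ne hl]
          simp [mon, hGG l hl]
      rw [this]
      exact h j _ (hmon0 _) _
    have ez : polar Q (pvec (mon G)) (pvec (mon G')) = 0 := T.orth j (by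
      by_cases hjG : j ∈ G
      · simp [mon, hjG, hj.1 hjG, hf.alternating]
      · simp [mon, hjG, mt hj.2 hjG, hf.alternating])
    have := RP.move hle (T.Q_pvec p) (T.Q_pvec _) (hz (c / B)) h₂ e₁ e₂
    rw [polar_smul_left, polar_smul_left, ez, smul_zero, zero_smul, sub_zero, T.polar_pvec, ← hB,
      smul_eq_mul, div_mul_cancel₀ _ hB0] at this
    exact this
  obtain ⟨r, hr⟩ := ht
  have down : ∀ s s', 1 ≤ s → s ≤ t - 1 → s' + s + 1 = t → S s → S s' := by
    intro s s' hs hst hss hS G' hG'
    obtain ⟨j, hj⟩ : ∃ j, j ∉ G' := by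
      by_contra! hcon
      have := Finset.card_eq_of_equiv_fintype (s := G') (α := Fin t)
        (Equiv.subtypeUnivEquiv hcon)
      rw [Fintype.card_fin] at this
      omega
    set G := (insert j G')ᶜ
    have hc : G.card = s := by
      rw [Finset.card_compl, Fintype.card_fin, Finset.card_insert_of_notMem hj]; omega
    refine step G G' j (fun l hl => by simp [G, hl]) (by simp [G, hj]) (fun e => ?_)
      (Finset.card_pos.1 (by omega)) (fun e => hj (e ▸ Finset.mem_univ j)) (hS G hc)
    rw [e, Finset.card_univ, Fintype.card_fin] at hc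
    omega
  have up : ∀ s s', 1 ≤ s → s ≤ t - 1 → s' + s = t + 1 → s' ≤ t - 1 → S s → S s' := by
    intro s s' hs hst hss hs' hS G' hG'
    obtain ⟨j, hj⟩ := Finset.card_pos.1 (show 0 < G'.card by omega)
    set G := (G'.erase j)ᶜ
    have hc : G.card = s := by
      rw [Finset.card_compl, Fintype.card_fin, Finset.card_erase_of_mem hj]; omega
    refine step G G' j (fun l hl => by simp [G, hl]) (by simp [G, hj]) (fun e => ?_)
      (Finset.card_pos.1 (by omega)) (fun e => ?_) (hS G hc)
    · rw [e, Finset.card_univ, Fintype.card_fin] at hc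
      omega
    · rw [e, Finset.card_univ, Fintype.card_fin] at hG'
      omega
  have hodd : ∀ i, 2 * i + 1 ≤ t - 1 → S (2 * i + 1) := by
    intro i
    induction i with
    | zero => exact fun _ => h1
    | succ i ih =>
      intro hi
      exact up (t - 2 * i - 2) _ (by omega) (by omega) (by omega) hi
        (down (2 * i + 1) _ (by omega) (by omega) (by omega) (ih (by omega)))
  have hall : ∀ s, s ≤ t - 1 → S s := by
    intro s hs
    rcases Nat.even_or_odd s with ⟨i, hi⟩ | ⟨i, hi⟩
    · rcases Nat.eq_zero_or_pos s with rfl | hpos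
      · exact h0
      · have := T.two_le
        exact down (2 * (r - i - 1) + 1) s (by omega) (by omega) (by omega) (hodd _ (by omega))
    · rw [hi]; exact hodd i (by omega)
  refine hall G.card ?_ G rfl c
  have : G.card < t := by
    have := Finset.card_lt_card (Finset.ssubset_univ_iff.2 hG)
    rwa [Finset.card_univ, Fintype.card_fin] at this
  omega

/-- Every pure vector with an orthogonal factor. -/
lemma pure_perp_two (ht : Even t) (h : ∀ l, Along Q M l) {p r : Fin t → Fin 2 → F} (hp : ∀ l, p l ≠ 0)
    {m : Fin t} (hm : f (r m) (p m) = 0) : RP Q M (pvec p) (pvec r) := by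
  classical
  have hf := T.hf
  choose g hg using fun l =>
    exists_pairing hf (v := ![p l]) (LinearIndependent.of_subsingleton 0 (hp l)) ![-1]
  have hgp : ∀ l, f (g l) (p l) = 1 := fun l => by
    rw [hf.skew, show f (p l) (g l) = -1 from hg l 0, neg_neg]
  have hdec : ∀ l (v : Fin 2 → F), ∃ α β : F, v = α • p l + β • g l ∧ (f v (p l) = 0 → β = 0) := by
    intro l v
    have hli : LinearIndependent F ![p l, g l] := (LinearIndependent.pair_iff' (hp l)).2 fun s hs =>
      zero_ne_one (α := F) (by rw [← hgp l, ← hs, hf.bilinear.smul_left, hf.alternating, mul_zero])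
    obtain ⟨α, hα⟩ := (Submodule.mem_span_range_iff_exists_fun F).1
      ((hli.span_eq_top_of_card_eq_finrank (by simp)) ▸ Submodule.mem_top : v ∈ _)
    rw [Fin.sum_univ_two] at hα
    refine ⟨α 0, α 1, hα.symm, fun h0 => ?_⟩
    rw [← hα, hf.bilinear.add_left, hf.bilinear.smul_left, hf.bilinear.smul_left] at h0
    simpa [hgp, hf.alternating] using h0
  have key : ∀ (U : Finset (Fin t)) (z : Fin t → Fin 2 → F), f (z m) (p m) = 0 →
      (∀ l ∉ U, l ≠ m → ∃ (s : F), z l = s • p l ∨ z l = s • g l) → RP Q M (pvec p) (pvec z) := by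
    intro U
    induction U using Finset.induction_on with
    | empty =>
      intro z hz hz'
      have hz'' : ∀ l, ∃ s : F, z l = s • p l ∨ (l ≠ m ∧ z l = s • g l) := fun l => by
        rcases eq_or_ne l m with rfl | hl
        · obtain ⟨α, β, e, hβ⟩ := hdec l (z l)
          exact ⟨α, Or.inl (by rw [e, hβ hz, zero_smul, add_zero])⟩
        · obtain ⟨s, hs⟩ := hz' l (Finset.notMem_empty l) hl
          exact ⟨s, hs.imp_right fun e => ⟨hl, e⟩⟩
      choose s hs using hz''
      set G := Finset.univ.filter fun l => z l ≠ s l • p l with hG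
      have e : z = fun l => s l • (if l ∈ G then g l else p l) := funext fun l => by
        by_cases hl : z l = s l • p l
        · simp [hG, hl]
        · simp [hG, hl, ((hs l).resolve_left hl).2]
      rw [e, pvec_smul_all]
      refine mono_perp T hle hM ht h hgp G (fun hu => ?_) _
      have hm' := (Finset.mem_filter.1 (hu ▸ Finset.mem_univ m : m ∈ G)).2
      exact ((hs m).resolve_left hm').1 rfl
    | @insert a U ha ih =>
      intro z hz hz'
      by_cases ham : a = m
      · exact ih z hz fun l hl hlm => hz' l (fun h' => (Finset.mem_insert.1 h').elim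
          (fun e => hlm (e.trans ham)) hl) hlm
      obtain ⟨α, β, e, -⟩ := hdec a (z a)
      have upd : ∀ v, (∃ s : F, v = s • p a ∨ v = s • g a) →
          RP Q M (pvec p) (pvec (Function.update z a v)) := fun v hv =>
        ih _ (by rw [Function.update_of_ne (Ne.symm ham)]; exact hz) fun l hl hlm => by
          rcases eq_or_ne l a with rfl | hla
          · rwa [Function.update_self]
          · rw [Function.update_of_ne hla]
            exact hz' l (fun h' => (Finset.mem_insert.1 h').elim hla hl) hlm
      have := (rps Q M (T.Q_pvec p)).add_mem (mem_rps.2 (upd _ ⟨α, Or.inl rfl⟩))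
        (mem_rps.2 (upd _ ⟨β, Or.inr rfl⟩))
      rwa [← pvec_update_add, ← e, Function.update_eq_self, mem_rps] at this
  exact key Finset.univ r hm fun l hl => absurd (Finset.mem_univ l) hl

omit hM in
/-- The moves are transported by even permutations. -/
lemma along_perm (hP : Perms M) (ht : 3 ≤ t) {j : Fin t} (h : Along Q M j) (l : Fin t) :
    Along Q M l := by
  rcases eq_or_ne l j with rfl | hlj
  · exact h
  obtain ⟨n, hn⟩ : ((Finset.univ.erase l).erase j).Nonempty := by
    rw [← Finset.card_pos, Finset.card_erase_of_mem (by simp [hlj.symm]),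
      Finset.card_erase_of_mem (Finset.mem_univ l), Finset.card_univ, Fintype.card_fin]
    omega
  simp only [Finset.mem_erase, Finset.mem_univ, and_true] at hn
  set σ : Equiv.Perm (Fin t) := Equiv.swap l n * Equiv.swap j n with hσdef
  have hσ : σ ∈ alternatingGroup (Fin t) := by
    simp [σ, Equiv.Perm.mem_alternatingGroup, hn.2.symm, hn.1.symm]
  have hσj : σ j = l := by simp [σ]
  have hσi : σ⁻¹ l = j := by rw [← hσj]; simp
  intro p hp y
  have h' := RP.conj hle (hP σ hσ) (h (p ∘ ⇑σ) (fun _ => hp _) y)
  rw [coe_permGL, permMat_mulVec_pvec, permMat_mulVec_pvec] at h'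
  have e : Function.update (p ∘ ⇑σ) j y ∘ ⇑σ⁻¹ = Function.update p l y := funext fun m => by
    rcases eq_or_ne m l with rfl | hm
    · rw [Function.comp_apply, hσi, Function.update_self, Function.update_self]
    · have hne : σ⁻¹ m ≠ j := fun e => hm (by rw [← hσj, ← e]; simp)
      rw [Function.comp_apply, Function.update_of_ne hne, Function.update_of_ne hm, Function.comp_apply]
      simp
  rw [e, show (p ∘ ⇑σ) ∘ ⇑σ⁻¹ = p from funext fun m => by simp] at h'
  exact h'

end CfsgLib.ClassicalMax.TWMax
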