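/-
Rectangular products over the factors and rank bounds.
-/
import Cfsg.Agent.Lib.ClassicalMax.TWreath.Slot
set_option autoImplicit false
set_option linter.unusedSectionVars false

namespace CfsgLib.ClassicalMax.TWMax

open Matrix CfsgLib.ClassicalMax.TWreath

variable {F : Type*} [Field F] {t k : ℕ}

/-- The product of rectangular matrices over the factors. -/
def kp {r s : Fin t → ℕ} (X : ∀ l, Matrix (Fin (r l)) (Fin (s l)) F) :
    Matrix (∀ l, Fin (r l)) (∀ l, Fin (s l)) F := fun a b => ∏ l, X l (a l) (b l)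

lemma kp_mul {r s v : Fin t → ℕ} (X : ∀ l, Matrix (Fin (r l)) (Fin (s l)) F)
    (Z : ∀ l, Matrix (Fin (s l)) (Fin (v l)) F) : kp X * kp Z = kp fun l => X l * Z l := by
  ext a b
  simp [Matrix.mul_apply, kp, Fintype.prod_sum, Finset.prod_mul_distrib]

lemma kp_one {r : Fin t → ℕ} : kp (fun l => (1 : Matrix (Fin (r l)) (Fin (r l)) F)) = 1 := by
  ext a b
  by_cases h : a = b
  · subst h; simp [kp]
  · obtain ⟨l, hl⟩ := Function.ne_iff.1 h
    rw [Matrix.one_apply_ne h]
    exact Finset.prod_eq_zero (Finset.mem_univ l) (by simp [hl])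

lemma kp_eq_zero {r s : Fin t → ℕ} (X : ∀ l, Matrix (Fin (r l)) (Fin (s l)) F) (l : Fin t)
    (h : X l = 0) : kp X = 0 := by
  ext a b
  exact Finset.prod_eq_zero (Finset.mem_univ l) (by rw [h]; rfl)

lemma pmat_eq_kp (A : Fin t → Matrix (Fin k) (Fin k) F) :
    pmat A = kp (r := fun _ => k) (s := fun _ => k) A := rfl

lemma card_le_rank {α : Type*} [Fintype α] [DecidableEq α] {n : Type*} [Fintype n]
    {L : Matrix α n F} {Y : Matrix n n F} {C : Matrix n α F} (h : L * (Y * C) = 1) :
    Fintype.card α ≤ Y.rank := by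
  calc Fintype.card α = (L * (Y * C)).rank := by rw [h, Matrix.rank_one]
    _ ≤ (Y * C).rank := Matrix.rank_mul_le_right _ _
    _ ≤ Y.rank := Matrix.rank_mul_le_left _ _

lemma rank_conj_le {n : Type*} [Fintype n] [DecidableEq n] (A B Y : Matrix n n F) :
    (A * Y * B).rank ≤ Y.rank :=
  (Matrix.rank_mul_le_left _ _).trans (Matrix.rank_mul_le_right _ _)

/-- The rank of a rank one matrix at one factor. -/
lemma rank_slot_vecMulVec_le (i : Fin t) (u v : Fin k → F) :
    (slot i (Matrix.vecMulVec u v)).rank ≤ k ^ (t - 1) := by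
  let r : Fin t → ℕ := fun l => if l = i then 1 else k
  let C : ∀ l, Matrix (Fin k) (Fin (r l)) F := fun l =>
    Matrix.of fun p q => if l = i then u p else if (p : ℕ) = q then 1 else 0
  let R : ∀ l, Matrix (Fin (r l)) (Fin k) F := fun l =>
    Matrix.of fun q p => if l = i then v p else if (q : ℕ) = p then 1 else 0
  have h : slot i (Matrix.vecMulVec u v) = kp (r := fun _ => k) C * kp (s := fun _ => k) R := by
    rw [kp_mul, slot_eq, pmat_eq_kp]
    congr 1
    funext l
    ext p q
    by_cases hl : l = i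
    · subst hl
      have h1 : r l = 1 := if_pos rfl
      simp [Matrix.mul_apply, C, R, Matrix.vecMulVec_apply, h1]
    · have h1 : r l = k := if_neg hl
      rw [Function.update_of_ne hl, Pi.one_apply, Matrix.mul_apply,
        Finset.sum_eq_single (Fin.cast h1.symm p) (fun b _ hb => ?_) (by simp)]
      · simp only [C, R, Matrix.of_apply, Fin.val_cast, if_true, one_mul, Matrix.one_apply, Fin.ext_iff,
          if_neg (Fin.val_ne_iff.2 hl)]
      · have : ¬((p : ℕ) = b) := fun e => hb (Fin.ext (by simpa using e.symm))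
        simp [C, hl, this]
  rw [h]
  refine (Matrix.rank_mul_le_left _ _).trans ((Matrix.rank_le_card_width _).trans ?_)
  rw [Fintype.card_pi, ← Finset.mul_prod_erase _ _ (Finset.mem_univ i),
    Finset.prod_congr rfl fun l hl => by
      rw [Fintype.card_fin, show r l = k from if_neg (Finset.ne_of_mem_erase hl)]]
  simp [r]

end CfsgLib.ClassicalMax.TWMax
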