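/-
In characteristic two an involution of the wreath group of small rank is a transvection of a
single factor.
-/
import Cfsg.Agent.Lib.ClassicalMax.TWMax.Kp
import Cfsg.Agent.Lib.ClassicalMax.SympShort
set_option autoImplicit false
set_option linter.unusedSectionVars false

namespace CfsgLib.ClassicalMax.TWMax

open Matrix Cfsg.Geo CfsgLib.ClassicalMax.TWreath

variable {F : Type*} [Field F] {t k : ℕ}

lemma scalars_of_pmat_eq_one (hk : 0 < k) {B : Fin t → Matrix (Fin k) (Fin k) F} (h : pmat B = 1)
    (l : Fin t) : ∃ c : F, B l = c • (1 : Matrix (Fin k) (Fin k) F) := by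
  let z : Fin k := ⟨0, hk⟩
  have hd : ∀ m, B m z z ≠ 0 := fun m h0 => by
    have := congrFun (congrFun h fun _ => z) fun _ => z
    rw [pmat_apply, Finset.prod_eq_zero (Finset.mem_univ m) h0, Matrix.one_apply_eq] at this
    exact zero_ne_one this
  set P := ∏ m ∈ Finset.univ.erase l, B m z z with hP
  have hP0 : P ≠ 0 := Finset.prod_ne_zero_iff.2 fun m _ => hd m
  refine ⟨P⁻¹, Matrix.ext fun p q => ?_⟩
  have := congrFun (congrFun h (Function.update (fun _ => z) l p)) (Function.update (fun _ => z) l q)
  rw [pmat_apply, ← Finset.mul_prod_erase _ _ (Finset.mem_univ l), Function.update_self,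
    Function.update_self, Finset.prod_congr rfl fun m hm => by
      rw [Function.update_of_ne (Finset.ne_of_mem_erase hm),
        Function.update_of_ne (Finset.ne_of_mem_erase hm)], ← hP] at this
  rw [Matrix.smul_apply, smul_eq_mul, eq_inv_mul_iff_mul_eq₀ hP0, mul_comm, this]
  by_cases hpq : p = q
  · subst hpq; simp
  · rw [Matrix.one_apply_ne hpq, Matrix.one_apply_ne fun e => hpq (by
      have := congrFun e l
      simpa using this)]

lemma card_pi_two (r : Fin t → ℕ) {i j : Fin t} (hij : i ≠ j) (h : ∀ l, l ≠ i → l ≠ j → r l = k) :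
    Fintype.card (∀ l, Fin (r l)) = r i * r j * k ^ (t - 2) := by
  rw [Fintype.card_pi]
  simp only [Fintype.card_fin]
  rw [← Finset.mul_prod_erase _ _ (Finset.mem_univ i),
    ← Finset.mul_prod_erase _ _ (Finset.mem_erase.2 ⟨hij.symm, Finset.mem_univ j⟩),
    Finset.prod_congr rfl fun l hl => h l (Finset.ne_of_mem_erase (Finset.mem_of_mem_erase hl))
      (Finset.ne_of_mem_erase hl), Finset.prod_const, ← mul_assoc,
    Finset.card_erase_of_mem (Finset.mem_erase.2 ⟨hij.symm, Finset.mem_univ j⟩),
    Finset.card_erase_of_mem (Finset.mem_univ i), Finset.card_univ, Fintype.card_fin]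
  rfl

lemma card_pi_one (r : Fin t → ℕ) {i : Fin t} (h : ∀ l, l ≠ i → r l = k) :
    Fintype.card (∀ l, Fin (r l)) = r i * k ^ (t - 1) := by
  rw [Fintype.card_pi]
  simp only [Fintype.card_fin]
  rw [← Finset.mul_prod_erase _ _ (Finset.mem_univ i),
    Finset.prod_congr rfl fun l hl => h l (Finset.ne_of_mem_erase hl), Finset.prod_const,
    Finset.card_erase_of_mem (Finset.mem_univ i), Finset.card_univ, Fintype.card_fin]

lemma two_le_t {i j : Fin t} (h : i ≠ j) : 2 ≤ t := by
  by_contra ht
  exact h (Fin.ext (by have := i.isLt; have := j.isLt; omega))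

/-- A non-trivial permutation part makes the rank large. -/
lemma perm_rank (hk : 5 ≤ k) {g : GL (Fin t → Fin k) F} {σ : Equiv.Perm (Fin t)}
    {A : Fin t → GL (Fin k) F} (hg : g = pmatGL A * permGL σ) (hrk : (g.val - 1).rank ≤ k ^ (t - 1)) :
    σ = 1 := by
  by_contra hσ
  obtain ⟨i, hi⟩ : ∃ i, σ i ≠ i := by
    by_contra! h
    exact hσ (Equiv.ext h)
  set j := σ i with hj
  let r : Fin t → ℕ := fun l => if l = i then 2 else if l = j then k - 2 else k
  let e₁ : ∀ l, Fin (r l) → Fin k := fun l q =>
    if hl : l = i then ⟨q, by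
      have h1 : r l = 2 := if_pos hl
      have := q.isLt; omega⟩
    else if hl' : l = j then ⟨q + 2, by
      have h1 : r l = k - 2 := (if_neg hl).trans (if_pos hl')
      have := q.isLt; omega⟩
    else ⟨q, by
      have h1 : r l = k := (if_neg hl).trans (if_neg hl')
      have := q.isLt; omega⟩
  have he : ∀ l, Function.Injective (e₁ l) := fun l a b hab => by
    simp only [e₁] at hab
    split_ifs at hab <;> simp [Fin.ext_iff] at hab <;> exact Fin.ext (by omega)
  let C : ∀ l, Matrix (Fin k) (Fin (r l)) F := fun l =>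
    (if l = i then ((A j)⁻¹ : GL (Fin k) F).val else 1).submatrix id (e₁ l)
  let K : ∀ l, Matrix (Fin (r l)) (Fin k) F := fun l =>
    (if l = i then (A j).val else 1).submatrix (e₁ l) id
  have hKC : ∀ l, K l * C l = 1 := fun l => by
    simp only [K, C]
    rw [← Matrix.submatrix_mul _ _ _ id _ Function.bijective_id]
    split_ifs
    · rw [Units.mul_inv]; exact Matrix.submatrix_one _ (he l)
    · rw [one_mul]; exact Matrix.submatrix_one _ (he l)
  set L := kp (s := fun _ => k) K
  set Cm' := kp (r := fun _ => k) C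
  have h1 : L * Cm' = 1 := by
    rw [kp_mul]; simp only [hKC]; exact kp_one
  have h2 : L * (g.val * Cm') = 0 := by
    rw [hg, Units.val_mul, coe_pmatGL, coe_permGL, pmat_eq_kp, ← Matrix.mul_assoc,
      ← Matrix.mul_assoc, kp_mul]
    ext a c
    have hmul : ∀ b, ((kp (r := r) (s := fun _ => k) fun l => K l * (A l).val) *
        (permMat σ : Matrix (Fin t → Fin k) (Fin t → Fin k) F)) a b =
        ∏ l, (K l * (A l).val) (a l) (b (σ⁻¹ l)) := fun b => by
      rw [Matrix.mul_apply, Finset.sum_eq_single (b ∘ ⇑σ⁻¹) (fun d _ hd => ?_) (by simp)]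
      · simp [permMat, kp, Function.comp_assoc]
      · have : b ≠ d ∘ ⇑σ := fun e => hd (by subst e; funext l; simp)
        simp [permMat, this]
    rw [Matrix.mul_apply, Matrix.zero_apply]
    simp only [hmul]
    have hre : ∀ b : Fin t → Fin k, (∏ l, (K l * (A l).val) (a l) (b (σ⁻¹ l))) =
        ∏ m, (K (σ m) * (A (σ m)).val) (a (σ m)) (b m) := fun b =>
      (Fintype.prod_equiv σ _ _ fun m => by simp).symm
    simp only [hre, Cm', kp, ← Finset.prod_mul_distrib]
    refine (Fintype.prod_sum fun m q =>
      (K (σ m) * (A (σ m)).val) (a (σ m)) q * C m q (c m)).symm.trans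
        (Finset.prod_eq_zero (Finset.mem_univ i) ?_)
    rw [← Matrix.mul_apply, ← hj]
    have hdisj : ∀ p q, e₁ j p ≠ e₁ i q := fun p q h => by
      have hp := p.isLt
      have hq := q.isLt
      have hri : r i = 2 := if_pos rfl
      simp only [e₁, dif_neg hi, ↓reduceDIte] at h
      rw [Fin.ext_iff] at h
      simp only at h
      omega
    simp only [K, C, if_neg hi, ↓reduceIte]
    rw [Matrix.mul_assoc, ← Matrix.submatrix_id_id (A j).val,
      ← Matrix.submatrix_mul _ _ _ id _ Function.bijective_id, Units.mul_inv,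
      ← Matrix.submatrix_mul _ _ _ id _ Function.bijective_id, one_mul, Matrix.submatrix_apply,
      Matrix.one_apply_ne (hdisj _ _)]
  have h3 : (-L) * ((g.val - 1) * Cm') = 1 := by
    rw [Matrix.sub_mul, Matrix.one_mul, Matrix.neg_mul, Matrix.mul_sub, h2, h1, zero_sub, neg_neg]
  have h4 := (card_le_rank h3).trans hrk
  have ht := two_le_t (Ne.symm hi)
  have hji : j ≠ i := hi
  rw [card_pi_two (k := k) r (Ne.symm hi) (fun l hl hl' => by simp [r, hl, hl']),
    show r i = 2 from if_pos rfl, show r j = k - 2 from (if_neg hji).trans (if_pos rfl)] at h4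
  rw [show t - 1 = t - 2 + 1 by omega, pow_succ, mul_comm (k ^ (t - 2))] at h4
  have := Nat.le_of_mul_le_mul_right h4 (pow_pos (by omega) _)
  omega

variable [Fintype F]

/-- An involution of the wreath group of small rank is a transvection in one factor. -/
theorem two_class (h2 : (2 : F) = 0) (hk : 6 ≤ k)
    {f : (Fin k → F) → (Fin k → F) → F} (hf : IsSymplecticForm f)
    {g : GL (Fin t → Fin k) F} (hg : g ∈ tensorWreathStandard k t F) (hgg : g.val * g.val = 1)
    (hrk : (g.val - 1).rank ≤ k ^ (t - 1)) (hne : g.val ≠ 1) :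
    ∃ j x φ, g.val = 1 + slot j (Matrix.vecMulVec x φ) ∧ φ ⬝ᵥ x = 0 ∧ x ≠ 0 ∧ φ ≠ 0 := by
  classical
  obtain ⟨σ, A, hσA⟩ := mem_std_iff.1 hg
  obtain rfl := perm_rank (by omega) hσA hrk
  have hgv : g.val = pmat fun l => (A l).val := by rw [hσA, map_one, mul_one, coe_pmatGL]
  haveI : CharP F 2 := by
    obtain ⟨p, hp⟩ := CharP.exists F
    obtain ⟨hprime⟩ : Fact p.Prime := ⟨CharP.char_is_prime F p⟩
    have : p ∣ 2 := (CharP.cast_eq_zero_iff F p 2).1 (by exact_mod_cast h2)
    rwa [← (Nat.prime_dvd_prime_iff_eq hprime Nat.prime_two).1 this]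
  -- each factor squares to a scalar
  have hsc : ∀ l, ∃ c : F, c ≠ 0 ∧ ((A l).val - c • 1) * ((A l).val - c • 1) = 0 := fun l => by
    obtain ⟨α, hα⟩ := scalars_of_pmat_eq_one (B := fun l => (A l).val * (A l).val) (by omega)
      (by rw [← pmat_mul, ← hgv, hgg]) l
    obtain ⟨c, hc⟩ := FiniteField.isSquare_of_char_two (ringChar.eq F 2) α
    refine ⟨c, fun h0 => ?_, ?_⟩
    · rw [hc, h0, mul_zero, zero_smul] at hα
      have := congrArg (fun X => ((A l)⁻¹ : GL (Fin k) F).val * ((A l)⁻¹ : GL (Fin k) F).val * X) hα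
      rw [mul_assoc, ← mul_assoc ((A l)⁻¹ : GL (Fin k) F).val (A l).val, Units.inv_mul, one_mul,
        Units.inv_mul, mul_zero] at this
      exact one_ne_zero (α := F) (by simpa using congrFun (congrFun this ⟨0, by omega⟩) ⟨0, by omega⟩)
    · simp only [sub_mul, mul_sub, smul_mul_assoc, mul_smul_comm, one_mul, mul_one, smul_smul, hα, hc]
      linear_combination (norm := module) (2 : F) • (rfl : (c * c) • (1 : Matrix (Fin k) (Fin k) F) = _)
        + h2 • ((c * c) • (1 : Matrix (Fin k) (Fin k) F) - c • (A l).val)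
  choose c hc0 hcN using hsc
  set P := ∏ l, c l with hP
  have hP0 : P ≠ 0 := Finset.prod_ne_zero_iff.2 fun l _ => hc0 l
  set N : Fin t → Matrix (Fin k) (Fin k) F := fun l => (c l)⁻¹ • ((A l).val - c l • 1) with hN
  have hA : ∀ l, (A l).val = c l • (1 + N l) := fun l => by
    simp only [hN, smul_add, smul_inv_smul₀ (hc0 l)]
    module
  have hNN : ∀ l, N l * N l = 0 := fun l => by simp only [hN, smul_mul_smul_comm, hcN, smul_zero]
  have hsq : ∀ l, (1 + N l) * (1 + N l) = 1 := fun l => by
    rw [add_mul, mul_add, mul_one, one_mul, mul_add, mul_one, hNN, add_zero, add_assoc, ← two_smul F,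
      h2, zero_smul, add_zero]
  have hscale : pmat (fun l => (A l).val) = P • pmat fun l => 1 + N l := by
    ext a b
    simp [pmat_apply, hA, hP, ← mul_add, Finset.prod_mul_distrib]
  have hP1 : P = 1 := by
    have h := hgg
    rw [hgv, hscale, smul_mul_smul_comm, pmat_mul] at h
    simp only [hsq] at h
    rw [show (fun _ : Fin t => (1 : Matrix (Fin k) (Fin k) F)) = 1 from rfl, pmat_one] at h
    have := congrFun (congrFun h fun _ => ⟨0, by omega⟩) fun _ => ⟨0, by omega⟩
    simp only [Matrix.smul_apply, Matrix.one_apply_eq, smul_eq_mul, mul_one] at this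
    have h3 : (P - 1) ^ 2 = 0 := by linear_combination this + (1 - P) * h2
    exact sub_eq_zero.1 (pow_eq_zero_iff two_ne_zero |>.1 h3)
  rw [hscale, hP1, one_smul] at hgv
  -- the factors have rank at most one
  have hone : ∀ l, ∀ e e', ¬ LinearIndependent F ![N l *ᵥ e, N l *ᵥ e'] := by
    intro a e e' hli
    have hli4 : LinearIndependent F ![N a *ᵥ e, N a *ᵥ e', e, e'] := by
      rw [Fintype.linearIndependent_iff]
      intro s hs
      simp only [Fin.sum_univ_four, Matrix.cons_val] at hs
      have := congrArg (fun x => N a *ᵥ x) hs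
      simp only [Matrix.mulVec_add, Matrix.mulVec_smul, Matrix.mulVec_mulVec, hNN, Matrix.zero_mulVec,
        smul_zero, zero_add, Matrix.mulVec_zero] at this
      obtain ⟨h2', h3'⟩ := LinearIndependent.pair_iff.1 hli _ _ this
      rw [h2', h3', zero_smul, zero_smul, add_zero, add_zero] at hs
      obtain ⟨h0', h1'⟩ := LinearIndependent.pair_iff.1 hli _ _ hs
      intro i
      fin_cases i
      exacts [h0', h1', h2', h3']
    obtain ⟨z₀, hz₀⟩ := exists_pairing hf hli4 ![1, 0, 0, 0]
    obtain ⟨z₁, hz₁⟩ := exists_pairing hf hli4 ![0, 1, 0, 0]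
    let r : Fin t → ℕ := fun l => if l = a then 2 else k
    let C : ∀ l, Matrix (Fin k) (Fin (r l)) F := fun l => Matrix.of fun p q =>
      if l = a then (if (q : ℕ) = 0 then e p else e' p) else if (p : ℕ) = q then 1 else 0
    let K : ∀ l, Matrix (Fin (r l)) (Fin k) F := fun l => Matrix.of fun q p =>
      if l = a then (if (q : ℕ) = 0 then formDual f z₀ p else formDual f z₁ p)
      else if hp : (q : ℕ) < k then (1 + N l) ⟨q, hp⟩ p else 0
    have hKC : K a * C a = 0 := by
      ext q q'
      rw [Matrix.mul_apply, Matrix.zero_apply]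
      simp only [K, C, ↓reduceIte, Matrix.of_apply]
      split_ifs
      · exact (formDual_dot hf.bilinear z₀ e).trans (hz₀ 2)
      · exact (formDual_dot hf.bilinear z₀ e').trans (hz₀ 3)
      · exact (formDual_dot hf.bilinear z₁ e).trans (hz₁ 2)
      · exact (formDual_dot hf.bilinear z₁ e').trans (hz₁ 3)
    have hKAC : ∀ l, K l * ((1 + N l) * C l) = 1 := by
      intro l
      by_cases hl : l = a
      · subst hl
        rw [Matrix.add_mul, Matrix.one_mul, Matrix.mul_add, hKC, zero_add]
        ext q q'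
        have h2q : ∀ q : Fin (r l), (q : ℕ) < 2 := fun q => by
          have := q.isLt
          simpa [r] using this
        have hNC : ∀ q' : Fin (r l), (fun p => (N l * C l) p q') =
            N l *ᵥ (if (q' : ℕ) = 0 then e else e') := fun q' => by
          funext p
          simp only [Matrix.mul_apply, C, if_pos rfl, Matrix.of_apply, Matrix.mulVec, dotProduct]
          split_ifs <;> rfl
        rw [Matrix.mul_apply]
        show (fun p => K l q p) ⬝ᵥ (fun p => (N l * C l) p q') = _
        rw [hNC]
        simp only [K, if_pos rfl, Matrix.of_apply]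
        have hq := h2q q
        have hq' := h2q q'
        by_cases h0 : (q : ℕ) = 0 <;> by_cases h0' : (q' : ℕ) = 0 <;> simp only [h0, h0', if_true, if_false]
        · rw [show q = q' from Fin.ext (by omega), Matrix.one_apply_eq]
          exact (formDual_dot hf.bilinear _ _).trans (hz₀ 0)
        · rw [Matrix.one_apply_ne (fun e => h0' (by rw [← e]; exact h0))]
          exact (formDual_dot hf.bilinear _ _).trans (hz₀ 1)
        · rw [Matrix.one_apply_ne (fun e => h0 (by rw [e]; exact h0'))]
          exact (formDual_dot hf.bilinear _ _).trans (hz₁ 0)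
        · rw [show q = q' from Fin.ext (by omega), Matrix.one_apply_eq]
          exact (formDual_dot hf.bilinear _ _).trans (hz₁ 1)
      · have hr : r l = k := if_neg hl
        have hK : K l = (1 + N l).submatrix (Fin.cast hr) id := by
          ext q p
          simp only [K, if_neg hl, Matrix.of_apply, Matrix.submatrix_apply, id_eq]
          rw [dif_pos (by have := q.isLt; omega)]
          rfl
        have hC : C l = (1 : Matrix (Fin k) (Fin k) F).submatrix id (Fin.cast hr) := by
          ext p q
          simp [C, Matrix.one_apply, Fin.ext_iff, Fin.val_ne_iff.2 hl]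
        rw [hK, hC, ← Matrix.submatrix_id_id (1 + N l), ← Matrix.submatrix_mul _ _ _ id _ Function.bijective_id,
          Matrix.mul_one, Matrix.submatrix_id_id, ← Matrix.submatrix_mul _ _ _ id _ Function.bijective_id, hsq]
        exact Matrix.submatrix_one _ (Fin.cast_injective hr)
    have h3 : kp (s := fun _ => k) K * ((g.val - 1) * kp (r := fun _ => k) C) = 1 := by
      rw [Matrix.sub_mul, Matrix.one_mul, Matrix.mul_sub, hgv, pmat_eq_kp, kp_mul, kp_mul, kp_mul,
        kp_eq_zero (fun l => K l * C l) a hKC, sub_zero]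
      simp only [hKAC]
      exact kp_one
    have h4 := (card_le_rank h3).trans hrk
    rw [card_pi_one r (fun l hl => if_neg hl), show r a = 2 from if_pos rfl] at h4
    have := pow_pos (show 0 < k by omega) (t - 1)
    omega
  -- the shape of a non-trivial factor
  have hshape : ∀ l, N l ≠ 0 → ∃ x φ, N l = Matrix.vecMulVec x φ ∧ φ ⬝ᵥ x = 0 ∧ x ≠ 0 ∧ φ ≠ 0 := by
    intro l hl
    obtain ⟨p, q, hpq⟩ : ∃ p q, N l p q ≠ 0 := by
      by_contra! h
      exact hl (Matrix.ext h)
    set x := N l *ᵥ Pi.single q 1 with hx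
    have hxp : x p = N l p q := by simp [hx]
    have hx0 : x ≠ 0 := fun h => hpq (by rw [← hxp, h]; rfl)
    have hcol : ∀ q', ∃ s : F, N l *ᵥ Pi.single q' 1 = s • x := fun q' => by
      have := hone l (Pi.single q 1) (Pi.single q' 1)
      rw [LinearIndependent.pair_iff' hx0] at this
      push Not at this
      obtain ⟨s, hs⟩ := this
      exact ⟨s, hs.symm⟩
    choose φ hφ using hcol
    have hNφ : N l = Matrix.vecMulVec x φ := Matrix.ext_of_mulVec_single fun q' => by
      rw [hφ, Matrix.vecMulVec_mulVec, dotProduct_single, mul_one, op_smul_eq_smul]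
    have hdot : φ ⬝ᵥ x = 0 := by
      have h := hNN l
      rw [hNφ, Matrix.vecMulVec_mul_vecMulVec, Matrix.vecMulVec_smul, smul_eq_zero] at h
      exact h.resolve_right (hNφ ▸ hl)
    exact ⟨x, φ, hNφ, hdot, hx0, fun h => hl (by rw [hNφ, h, Matrix.vecMulVec_zero])⟩
  by_cases htwo : ∃ a b, a ≠ b ∧ N a ≠ 0 ∧ N b ≠ 0
  · exfalso
    obtain ⟨a, b, hab, ha, hb⟩ := htwo
    have hdata : ∀ l, N l ≠ 0 → ∃ (e ψ : Fin k → F) (Q : Matrix (Fin k) (Fin (k - 2)) F)
        (K : Matrix (Fin (k - 2)) (Fin k) F), ψ ⬝ᵥ e = 0 ∧ ψ ⬝ᵥ (N l *ᵥ e) = 1 ∧ ψ ᵥ* Q = 0 ∧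
          N l * Q = 0 ∧ K * Q = 1 := by
      intro l hl
      obtain ⟨x, φ, hN', hdot, hx0, hφ0⟩ := hshape l hl
      obtain ⟨p, hp⟩ := Function.ne_iff.1 hφ0
      set e : Fin k → F := (φ p)⁻¹ • Pi.single p 1 with he
      have hφe : φ ⬝ᵥ e = 1 := by simp [he, inv_mul_cancel₀ hp]
      have hNe : N l *ᵥ e = x := by rw [hN', Matrix.vecMulVec_mulVec, hφe]; simp
      have hli : LinearIndependent F ![x, e] := by
        rw [LinearIndependent.pair_iff' hx0]
        intro s hs
        have := congrArg (φ ⬝ᵥ ·) hs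
        simp [hdot, hφe] at this
      obtain ⟨z, hz⟩ := exists_pairing hf hli ![1, 0]
      set ψ := formDual f z with hψ
      have hψx : ψ ⬝ᵥ x = 1 := (formDual_dot hf.bilinear z x).trans (hz 0)
      have hψe : ψ ⬝ᵥ e = 0 := (formDual_dot hf.bilinear z e).trans (hz 1)
      let L : (Fin k → F) →ₗ[F] F × F :=
        { toFun := fun y => (φ ⬝ᵥ y, ψ ⬝ᵥ y)
          map_add' := fun y y' => by simp [dotProduct_add]
          map_smul' := fun s y => by simp [dotProduct_smul] }
      have hker : Module.finrank F (LinearMap.ker L) = k - 2 := by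
        have h1 := LinearMap.finrank_range_add_finrank_ker L
        have hsurj : LinearMap.range L = ⊤ := LinearMap.range_eq_top.2 fun s =>
          ⟨s.2 • x + s.1 • e, by
            refine Prod.ext ?_ ?_ <;> simp [L, hdot, hφe, hψx, hψe]⟩
        rw [hsurj, finrank_top, Module.finrank_prod, Module.finrank_self, Module.finrank_fin_fun] at h1
        omega
      let B := Module.finBasisOfFinrankEq F (LinearMap.ker L) hker
      let emb : (Fin (k - 2) → F) →ₗ[F] (Fin k → F) :=
        (LinearMap.ker L).subtype.comp B.equivFun.symm.toLinearMap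
      have hemb : LinearMap.ker emb = ⊥ := LinearMap.ker_eq_bot.2
        (Subtype.val_injective.comp B.equivFun.symm.injective)
      obtain ⟨G, hG⟩ := LinearMap.exists_leftInverse_of_injective emb hemb
      refine ⟨e, ψ, LinearMap.toMatrix' emb, LinearMap.toMatrix' G, hψe, by rw [hNe, hψx], ?_, ?_, ?_⟩
      · funext q
        show ψ ⬝ᵥ (fun p => LinearMap.toMatrix' emb p q) = 0
        simp only [LinearMap.toMatrix'_apply]
        exact congrArg Prod.snd (LinearMap.mem_ker.1 ((B.equivFun.symm _).2))
      · ext p q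
        rw [hN', Matrix.vecMulVec_mul, Matrix.vecMulVec_apply, Matrix.zero_apply]
        refine mul_eq_zero_of_right _ ?_
        show φ ⬝ᵥ (fun p => LinearMap.toMatrix' emb p q) = 0
        simp only [LinearMap.toMatrix'_apply]
        exact congrArg Prod.fst (LinearMap.mem_ker.1 ((B.equivFun.symm _).2))
      · rw [← LinearMap.toMatrix'_comp, hG, LinearMap.toMatrix'_id]
    -- rows and columns for an ordered pair
    choose ev ψv Qv Kv hψe hψNe hψQ hNQ hKQ using hdata
    have hblock : ∀ a b, a ≠ b → ∀ (ha : N a ≠ 0) (hb : N b ≠ 0), ∃ (r : Fin t → ℕ)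
        (K : ∀ l, Matrix (Fin (r l)) (Fin k) F) (C : ∀ l, Matrix (Fin k) (Fin (r l)) F),
        Fintype.card (∀ l, Fin (r l)) = (k - 2) * k ^ (t - 2) ∧
        (∀ l, K l * ((1 + N l) * C l) = 1) ∧
        K a = Matrix.of (fun _ p => ψv a ha p) ∧ K a * C a = 0 ∧
        ∃ h2 : r b = k - 2, C b = (Qv b hb).submatrix id (Fin.cast h2) := by
      intro a b hab ha hb
      set e := ev a ha
      set ψ := ψv a ha
      set Q := Qv b hb
      set K' := Kv b hb
      let r : Fin t → ℕ := fun l => if l = a then 1 else if l = b then k - 2 else k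
      let K : ∀ l, Matrix (Fin (r l)) (Fin k) F := fun l => Matrix.of fun q p =>
        if l = a then ψ p else if l = b then (if h : (q : ℕ) < k - 2 then K' ⟨q, h⟩ p else 0)
        else if h : (q : ℕ) < k then (1 + N l) ⟨q, h⟩ p else 0
      let C : ∀ l, Matrix (Fin k) (Fin (r l)) F := fun l => Matrix.of fun p q =>
        if l = a then e p else if l = b then (if h : (q : ℕ) < k - 2 then Q p ⟨q, h⟩ else 0)
        else if (p : ℕ) = q then 1 else 0
      have hra : r a = 1 := if_pos rfl
      have hrb : r b = k - 2 := by simp [r, hab.symm]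
      have hKa : K a = Matrix.of fun _ p => ψ p := by ext q p; simp [K]
      have hCa : C a = Matrix.of fun p _ => e p := by ext p q; simp [C]
      have hKb : K b = K'.submatrix (Fin.cast hrb) id := by
        ext q p
        simp only [K, if_neg hab.symm, if_pos rfl, Matrix.of_apply, Matrix.submatrix_apply, id_eq]
        rw [dif_pos (by have := q.isLt; omega)]
        rfl
      have hCb : C b = Q.submatrix id (Fin.cast hrb) := by
        ext p q
        simp only [C, if_neg hab.symm, if_pos rfl, Matrix.of_apply, Matrix.submatrix_apply, id_eq]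
        rw [dif_pos (by have := q.isLt; omega)]
        rfl
      refine ⟨r, K, C, ?_, fun l => ?_, hKa, ?_, hrb, hCb⟩
      · rw [card_pi_two (k := k) r hab (fun l h h' => by simp [r, h, h']), hra, hrb, one_mul]
      · by_cases hla : l = a
        · subst hla
          have hq : ∀ q q' : Fin (r l), q = q' := fun q q' => Fin.ext (by
            have := q.isLt; have := q'.isLt; omega)
          ext q q'
          rw [hKa, hCa, hq q q', Matrix.one_apply_eq, Matrix.mul_apply]
          show ψ ⬝ᵥ ((1 + N l) *ᵥ e) = 1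
          rw [Matrix.add_mulVec, Matrix.one_mulVec, dotProduct_add, hψe, hψNe, zero_add]
        by_cases hlb : l = b
        · subst hlb
          rw [hKb, hCb, ← Matrix.submatrix_id_id (1 + N l), ← Matrix.submatrix_mul _ _ _ id _ Function.bijective_id,
            Matrix.add_mul, Matrix.one_mul, hNQ l hb, add_zero, ← Matrix.submatrix_mul _ _ _ id _ Function.bijective_id,
            hKQ l hb]
          exact Matrix.submatrix_one _ (Fin.cast_injective hrb)
        have hr : r l = k := by simp [r, hla, hlb]
        have hK : K l = (1 + N l).submatrix (Fin.cast hr) id := by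
          ext q p
          simp only [K, if_neg hla, if_neg hlb, Matrix.of_apply, Matrix.submatrix_apply, id_eq]
          rw [dif_pos (by have := q.isLt; omega)]
          rfl
        have hC : C l = (1 : Matrix (Fin k) (Fin k) F).submatrix id (Fin.cast hr) := by
          ext p q
          simp [C, Matrix.one_apply, Fin.ext_iff, Fin.val_ne_iff.2 hla, Fin.val_ne_iff.2 hlb]
        rw [hK, hC, ← Matrix.submatrix_id_id (1 + N l), ← Matrix.submatrix_mul _ _ _ id _ Function.bijective_id,
          Matrix.mul_one, Matrix.submatrix_id_id, ← Matrix.submatrix_mul _ _ _ id _ Function.bijective_id, hsq]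
        exact Matrix.submatrix_one _ (Fin.cast_injective hr)
      · ext q q'
        rw [hKa, hCa, Matrix.mul_apply]
        exact hψe a ha
    obtain ⟨r₁, K₁, C₁, hc1, h11, hK1, h10, hr1, hC1⟩ := hblock a b hab ha hb
    obtain ⟨r₂, K₂, C₂, hc2, h22, hK2, h20, hr2, hC2⟩ := hblock b a hab.symm hb ha
    -- a functional of one pair kills the columns of the other
    have cross : ∀ {m n : ℕ} (x : Fin t) (hx : N x ≠ 0) (hm : m = k - 2),
        (Matrix.of fun (_ : Fin n) p => ψv x hx p) * (Qv x hx).submatrix id (Fin.cast hm) = 0 := by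
      intro m n x hx hm
      ext q q'
      rw [Matrix.mul_apply, Matrix.zero_apply]
      exact congrFun (hψQ x hx) (Fin.cast hm q')
    have hNC : ∀ {m : ℕ} (x : Fin t) (hx : N x ≠ 0) (hm : m = k - 2),
        (1 + N x) * (Qv x hx).submatrix id (Fin.cast hm) = (Qv x hx).submatrix id (Fin.cast hm) := by
      intro m x hx hm
      rw [Matrix.add_mul, Matrix.one_mul, ← Matrix.submatrix_id_id (N x),
        ← Matrix.submatrix_mul _ _ _ id _ Function.bijective_id, hNQ x hx, Matrix.submatrix_zero,
        Pi.zero_apply, Pi.zero_apply, add_zero]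
    set y := g.val
    have e11 : kp (s := fun _ => k) K₁ * ((y - 1) * kp (r := fun _ => k) C₁) = 1 := by
      rw [Matrix.sub_mul, Matrix.one_mul, Matrix.mul_sub, hgv, pmat_eq_kp, kp_mul, kp_mul, kp_mul,
        kp_eq_zero (fun l => K₁ l * C₁ l) a h10, sub_zero]
      simp only [h11]
      exact kp_one
    have e22 : kp (s := fun _ => k) K₂ * ((y - 1) * kp (r := fun _ => k) C₂) = 1 := by
      rw [Matrix.sub_mul, Matrix.one_mul, Matrix.mul_sub, hgv, pmat_eq_kp, kp_mul, kp_mul, kp_mul,
        kp_eq_zero (fun l => K₂ l * C₂ l) b h20, sub_zero]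
      simp only [h22]
      exact kp_one
    have e12 : kp (s := fun _ => k) K₁ * ((y - 1) * kp (r := fun _ => k) C₂) = 0 := by
      rw [Matrix.sub_mul, Matrix.one_mul, Matrix.mul_sub, hgv, pmat_eq_kp, kp_mul, kp_mul, kp_mul,
        kp_eq_zero (fun l => K₁ l * C₂ l) a (by rw [hK1, hC2]; exact cross a ha hr2),
        kp_eq_zero (fun l => K₁ l * ((1 + N l) * C₂ l)) a
          (by rw [hK1, hC2, hNC a ha hr2]; exact cross a ha hr2), sub_zero]
    have e21 : kp (s := fun _ => k) K₂ * ((y - 1) * kp (r := fun _ => k) C₁) = 0 := by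
      rw [Matrix.sub_mul, Matrix.one_mul, Matrix.mul_sub, hgv, pmat_eq_kp, kp_mul, kp_mul, kp_mul,
        kp_eq_zero (fun l => K₂ l * C₁ l) b (by rw [hK2, hC1]; exact cross b hb hr1),
        kp_eq_zero (fun l => K₂ l * ((1 + N l) * C₁ l)) b
          (by rw [hK2, hC1, hNC b hb hr1]; exact cross b hb hr1), sub_zero]
    have h3 : Matrix.fromRows (kp (s := fun _ => k) K₁) (kp (s := fun _ => k) K₂) *
        ((y - 1) * Matrix.fromCols (kp (r := fun _ => k) C₁) (kp (r := fun _ => k) C₂)) = 1 := by
      rw [Matrix.mul_fromCols, Matrix.fromRows_mul_fromCols, e11, e12, e21, e22, Matrix.fromBlocks_one]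
    have h4 := (card_le_rank h3).trans hrk
    rw [Fintype.card_sum, hc1, hc2, show t - 1 = t - 2 + 1 by have := two_le_t hab; omega, pow_succ,
      mul_comm (k ^ (t - 2)), ← add_mul] at h4
    have := Nat.le_of_mul_le_mul_right h4 (pow_pos (by omega) _)
    omega
  · push Not at htwo
    by_cases h0 : ∃ j, N j ≠ 0
    · obtain ⟨j, hj⟩ := h0
      obtain ⟨x, φ, hN', hdot, hx, hφ⟩ := hshape j hj
      refine ⟨j, x, φ, ?_, hdot, hx, hφ⟩
      rw [hgv, ← map_one (slot j), ← map_add, ← hN', slot_eq]
      congr 1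
      funext l
      by_cases hl : l = j
      · subst hl; rw [Function.update_self]
      · rw [Function.update_of_ne hl, htwo j l (Ne.symm hl) hj, add_zero]; rfl
    · push Not at h0
      refine absurd ?_ hne
      rw [hgv]
      simp only [h0, add_zero]
      exact pmat_one

end CfsgLib.ClassicalMax.TWMax
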