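/-
Characteristic two: roots of a factor carried into the wreath group go to roots of a factor.
-/
import Cfsg.Agent.Lib.ClassicalMax.TWMax.TwoClass
import Cfsg.Agent.Lib.ClassicalMax.TWMax.RootPairs
import Cfsg.Agent.Lib.ClassicalMax.TWMax.SlotSys
import Cfsg.Agent.Lib.ClassicalMax.TWMax.Stab
import Cfsg.Agent.Lib.ClassicalMax.TWreath.Wreath
import Cfsg.Agent.Lib.ClassicalMax.TWreath.SpAdj
set_option autoImplicit false
set_option linter.unusedSectionVars false

namespace CfsgLib.ClassicalMax.TWMax

open Matrix Cfsg.Geo QuadraticMap CfsgLib.ClassicalMax.TWreath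

variable {F : Type*} [Field F] [DecidableEq F] [Fintype F] {t k : ℕ}
  {Q : QuadraticForm F ((Fin t → Fin k) → F)} {f : (Fin k → F) → (Fin k → F) → F}
  {c₀ : F} {M : Subgroup (GL (Fin t → Fin k) F)}

/-- No member moves along a factor. -/
def NoMove (f : (Fin k → F) → (Fin k → F) → F) (M : Subgroup (GL (Fin t → Fin k) F)) : Prop :=
  ∀ (l : Fin t) (u : Fin k → F) (S : Matrix (Fin t → Fin k) (Fin t → Fin k) F), u ≠ 0 →
    Cm (slot (F := F) (k := k) l) S → Mem M (slot l (op f u u) * S) →
    ∃ c : F, S = algebraMap F _ c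

/-- The hypotheses of the averaging argument. -/
structure EvenHyp (Q : QuadraticForm F ((Fin t → Fin k) → F)) (f : (Fin k → F) → (Fin k → F) → F)
    (c₀ : F) (M : Subgroup (GL (Fin t → Fin k) F)) : Prop where
  tform : TForm Q f c₀
  le : M ≤ omegaGL ⇑Q
  slots : Slots f M
  no : NoMove f M
  two : (2 : F) = 0
  six : 6 ≤ k

variable (H : EvenHyp Q f c₀ M)
include H

lemma EvenHyp.ctx : Ctx f (fun l : Fin t => slot (F := F) (k := k) l) M where
  sys := slot_sys H.tform.hf (by have := H.six; omega)
  pure l g hg := H.slots l g hg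
  noUp l u S hu hS m hm hv := H.no l u S hu hS ⟨m, hm, hv⟩
  two_le := by have := H.six; rw [Fintype.card_fin]; omega
  hq := Or.inl (by have := H.six; rw [Fintype.card_fin]; omega)
  h24 := Or.inr (by have := H.six; rw [Fintype.card_fin]; omega)
  big := Or.inl (by have := H.six; rw [Fintype.card_fin]; omega)

/-- A root of a factor is a member. -/
lemma EvenHyp.root (i : Fin t) (u : Fin k → F) : Mem M (slot i (op f u u)) := by
  refine ⟨_, H.slots i _ (sTv_mem_isoOf H.tform.hf u 1), ?_⟩
  show slot i (sTv f u 1 : Matrix (Fin k) (Fin k) F) = _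
  rw [sTv_val_smul H.tform.hf, one_smul, map_add, map_one]

/-- A transvection of one factor preserving the forms is symmetric. -/
lemma EvenHyp.transvection_form {g : GL (Fin t → Fin k) F} (hg : g ∈ M) {j : Fin t} {x φ : Fin k → F}
    (hv : g.val = 1 + slot j (Matrix.vecMulVec x φ)) (hx : x ≠ 0) :
    ∃ s : F, Matrix.vecMulVec x φ = s • op f x x := by
  have T := H.tform
  have hf := T.hf
  obtain ⟨b, hb⟩ := exists_pairing hf (v := ![x]) (LinearIndependent.of_subsingleton 0 hx) ![1]
  have hxb : f x b = 1 := hb 0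
  let z : (Fin k → F) → Fin t → Fin k → F := fun v l => if l = j then v else x
  let z' : (Fin k → F) → Fin t → Fin k → F := fun v l => if l = j then v else b
  have hact : ∀ (v : Fin k → F) (y : Fin t → Fin k → F), y j = v →
      g.val *ᵥ pvec y = pvec (Function.update y j (v + (φ ⬝ᵥ v) • x)) := fun v y hy => by
    rw [hv, add_mulVec, one_mulVec, slot_eq, pmat_mulVec_pvec, pvec_update_add, ← hy,
      Function.update_eq_self]
    congr 1
    refine congrArg pvec (funext fun l => ?_)
    rcases eq_or_ne l j with rfl | hl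
    · rw [Function.update_self, Function.update_self, vecMulVec_mulVec, op_smul_eq_smul]
    · rw [Function.update_of_ne hl, Function.update_of_ne hl, Pi.one_apply, one_mulVec]
  have hval : ∀ v v', polar Q (pvec (Function.update (z 0) j v)) (pvec (Function.update (z' 0) j v')) =
      c₀ * f v v' := fun v v' => by
    rw [T.polar_pvec]
    congr 1
    rw [← Finset.mul_prod_erase _ _ (Finset.mem_univ j), Function.update_self, Function.update_self,
      Finset.prod_eq_one fun l hl => ?_, mul_one]
    have hl' := Finset.ne_of_mem_erase hl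
    simp [z, z', Function.update_of_ne hl', hl', hxb]
  have key : ∀ v v', (φ ⬝ᵥ v) * f x v' + (φ ⬝ᵥ v') * f v x = 0 := fun v v' => by
    have h := OmS.omega_polar (H.le hg) (pvec (Function.update (z 0) j v))
      (pvec (Function.update (z' 0) j v'))
    rw [hact v _ (Function.update_self _ _ _), hact v' _ (Function.update_self _ _ _), Function.update_idem,
      Function.update_idem, hval, hval] at h
    have h' := mul_left_cancel₀ T.c_ne h
    simp only [hf.bilinear.add_left, hf.bilinear.add_right, hf.bilinear.smul_left,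
      hf.bilinear.smul_right, hf.alternating] at h'
    linear_combination h'
  refine ⟨-(φ ⬝ᵥ b), ?_⟩
  have hφ : φ = -(φ ⬝ᵥ b) • formDual f x := by
    funext p
    have h := key (Pi.single p 1) b
    rw [hxb, mul_one, dotProduct_single, mul_one, ← formDual_dot hf.bilinear x, dotProduct_single,
      mul_one] at h
    rw [Pi.smul_apply, smul_eq_mul]
    linear_combination h
  conv_lhs => rw [hφ]
  rw [vecMulVec_smul, op]

/-- A small involution of the wreath group in the group is a root of a factor. -/
lemma EvenHyp.small {g : GL (Fin t → Fin k) F} (hg : g ∈ M) (hstd : g ∈ tensorWreathStandard k t F)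
    {Y : Matrix (Fin t → Fin k) (Fin t → Fin k) F} (hv : g.val = 1 + Y) (hY : Y * Y = 0) (hY0 : Y ≠ 0)
    (hrk : Y.rank ≤ k ^ (t - 1)) : ∃ (j : Fin t) (x : Fin k → F) (s : F), x ≠ 0 ∧ s ≠ 0 ∧ Y = s • slot j (op f x x) := by
  have hgg : g.val * g.val = 1 := by
    rw [hv, add_mul, one_mul, mul_add, mul_one, hY, add_zero, add_assoc, ← two_smul F, H.two, zero_smul,
      add_zero]
  obtain ⟨j, x, φ, hval, -, hx, -⟩ := two_class H.two H.six H.tform.hf hstd hgg
    (by rwa [hv, add_sub_cancel_left]) (by rw [hv]; simpa using hY0)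
  obtain ⟨s, hs⟩ := H.transvection_form hg hval hx
  rw [hs, map_smul, hv, add_right_inj] at hval
  exact ⟨j, x, s, hx, fun h => hY0 (by rw [hval, h, zero_smul]), hval⟩

/-- A root going into the wreath group takes the centraliser of its factor to one of a factor. -/
lemma EvenHyp.image {g : GL (Fin t → Fin k) F} (hg : g ∈ M) {i : Fin t} {u : Fin k → F} (hu : u ≠ 0)
    {h : GL (Fin t → Fin k) F} (hh : h ∈ tensorWreathStandard k t F)
    (hv : h.val = 1 + g.val * slot i (op f u u) * (g⁻¹).val) :
    ∃ j, ∀ X, ∃ X', (g⁻¹).val * slot j X * g.val = slot i X' := by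
  have hf := H.tform.hf
  set Y := g.val * slot i (op f u u) * (g⁻¹).val with hYdef
  obtain ⟨m, hm, hmv⟩ := H.root i u
  have hM' : g * m * g⁻¹ = h := Units.ext (by
    rw [Units.val_mul, Units.val_mul, hmv, hv, mul_add, add_mul, mul_one, Units.mul_inv])
  have hsq : slot i (op f u u) * slot i (op f u u) = (0 : Matrix (Fin t → Fin k) (Fin t → Fin k) F) := by
    rw [← map_mul, op_mul hf.bilinear, hf.alternating, zero_smul, map_zero]
  have hY : Y * Y = 0 := by
    rw [hYdef, show g.val * slot i (op f u u) * (g⁻¹).val * (g.val * slot i (op f u u) * (g⁻¹).val) =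
      g.val * (slot i (op f u u) * ((g⁻¹).val * g.val) * slot i (op f u u)) * (g⁻¹).val by
        simp only [mul_assoc], Units.inv_mul, mul_one, hsq, mul_zero, zero_mul]
  have hY0 : Y ≠ 0 := fun h0 => op_ne_zero hf hu hu (slot_injective i (by
    rw [map_zero, show slot i (op f u u) = (g⁻¹).val * Y * g.val by
      rw [hYdef]; simp [mul_assoc, Units.inv_mul], h0, mul_zero, zero_mul]))
  have hrk : Y.rank ≤ k ^ (t - 1) := (rank_conj_le _ _ _).trans (rank_slot_vecMulVec_le i _ _)
  obtain ⟨j, x, s, hx, hs, hYs⟩ := H.small (hM' ▸ M.mul_mem (M.mul_mem hg hm) (M.inv_mem hg)) hh hv hY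
    hY0 hrk
  refine ⟨j, fun X => (H.ctx.sys).bicomm (l := i) fun S hS => ?_⟩
  have hst := stab H.ctx (Or.inl (by have := H.six; rw [Fintype.card_fin]; omega)) hg hu hx hs
    (by rw [← hYdef, hYs]) hS X
  -- move the commutation back
  show S * ((g⁻¹).val * slot j X * g.val) = (g⁻¹).val * slot j X * g.val * S
  have e : slot j X * (g.val * S * (g⁻¹).val) = g.val * S * (g⁻¹).val * slot j X := hst.eq
  calc S * ((g⁻¹).val * slot j X * g.val)
      = (g⁻¹).val * (g.val * S * (g⁻¹).val * slot j X) * g.val := by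
        simp only [mul_assoc]; rw [← mul_assoc (g⁻¹).val g.val, Units.inv_mul, one_mul]
    _ = (g⁻¹).val * (slot j X * (g.val * S * (g⁻¹).val)) * g.val := by rw [e]
    _ = (g⁻¹).val * slot j X * g.val * S := by
        simp only [mul_assoc]; rw [Units.inv_mul, mul_one]

/-- A member carrying a root of every factor into the wreath group lies in it. -/
lemma EvenHyp.std_of_images {g : GL (Fin t → Fin k) F} (hg : g ∈ M)
    (h : ∀ i : Fin t, ∃ u, u ≠ 0 ∧ ∃ h ∈ tensorWreathStandard k t F,
      (h : GL (Fin t → Fin k) F).val = 1 + g.val * slot i (op f u u) * (g⁻¹).val) :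
    g ∈ tensorWreathStandard k t F := by
  have hk : 2 ≤ k := by have := H.six; omega
  choose u hu hh hhm hhv using h
  choose J hJ using fun i => H.image hg (hu i) (hhm i) (hhv i)
  have hinj : Function.Injective J := fun i i' e => by
    by_contra hne
    let X₀ : Matrix (Fin k) (Fin k) F := Matrix.single ⟨0, by omega⟩ ⟨1, by omega⟩ 1
    obtain ⟨X', h1⟩ := hJ i X₀
    obtain ⟨X'', h2⟩ := hJ i' X₀
    rw [← e, h1] at h2
    obtain ⟨c, hc⟩ := slot_central (S := slot i X') fun l X => by
      rcases eq_or_ne l i with rfl | hl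
      · rw [h2]; exact slot_comm hne _ _
      · exact slot_comm hl _ _
    have h3 : slot (J i) X₀ = algebraMap F (Matrix (Fin t → Fin k) (Fin t → Fin k) F) c := by
      rw [show slot (J i) X₀ = g.val * ((g⁻¹).val * slot (J i) X₀ * g.val) * (g⁻¹).val by
        simp [mul_assoc], h1, hc, ← Algebra.commutes, mul_assoc, Units.mul_inv, mul_one]
    rw [← AlgHom.commutes (slot (F := F) (k := k) (J i))] at h3
    have := congrFun (congrFun (slot_injective _ h3) ⟨0, by omega⟩) ⟨1, by omega⟩
    simp [X₀, Matrix.algebraMap_matrix_apply] at this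
  let σ : Equiv.Perm (Fin t) := (Equiv.ofBijective J ⟨hinj, Finite.injective_iff_surjective.1 hinj⟩).symm
  rw [← inv_inv g]
  refine inv_mem (mem_std_of_slots (by omega) (by have := H.tform.two_le; omega) σ fun l X => ?_)
  obtain ⟨X', hX'⟩ := hJ (σ l) X
  rw [show J (σ l) = l from Equiv.ofBijective_apply_symm_apply J _ l] at hX'
  exact ⟨X', by rw [inv_inv]; exact hX'⟩

end CfsgLib.ClassicalMax.TWMax
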