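/-
Characteristic two: without moving members the group lies in the wreath group.
-/
import Cfsg.Agent.Lib.ClassicalMax.TWMax.EvenSlot
import Cfsg.Agent.Lib.ClassicalMax.TWreath.Trace
set_option autoImplicit false
set_option linter.unusedSectionVars false

namespace CfsgLib.ClassicalMax.TWMax

open Matrix Cfsg.Geo CfsgLib.ClassicalMax.TWreath

variable {F : Type*} [Field F] [DecidableEq F] [Fintype F] {t k : ℕ}
  {Q : QuadraticForm F ((Fin t → Fin k) → F)} {f : (Fin k → F) → (Fin k → F) → F}
  {c₀ : F} {M : Subgroup (GL (Fin t → Fin k) F)}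

/-- A sum of slots squaring to zero and absorbing roots is one slot. -/
lemma single_of_sum (hf : IsSymplecticForm f) (h2 : (2 : F) = 0) (hk : 3 ≤ k)
    {Z : Fin t → Matrix (Fin k) (Fin k) F} {Y : Matrix (Fin t → Fin k) (Fin t → Fin k) F}
    (hY : Y = ∑ l, slot l (Z l)) (hsq : Y * Y = 0) (hY0 : Y ≠ 0)
    (habs : ∀ a x, ∃ μ : F, Y * slot a (op f x x) * Y = μ • Y) : ∃ a A, Y = slot a A := by
  classical
  have hf' := hf.bilinear
  have htwo : ∀ {W : Type _} [AddCommGroup W] [Module F W] (w : W), w + w = 0 := fun {W} _ _ w => by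
    rw [← two_smul F w, h2, zero_smul]
  by_cases hall : ∀ a, ∃ s : F, Z a = s • 1
  · choose s hs using hall
    have hYs : Y = (∑ l, s l) • (1 : Matrix (Fin t → Fin k) (Fin t → Fin k) F) := by
      rw [hY, Finset.sum_smul]
      exact Finset.sum_congr rfl fun l _ => by rw [hs, map_smul, map_one]
    have hzero : ∑ l, s l = 0 := by
      by_contra hne
      rw [hYs, smul_mul_smul_comm, one_mul, smul_eq_zero] at hsq
      rcases hsq with h | h
      · exact hne (mul_self_eq_zero.1 h)
      · exact hY0 (by rw [hYs, h, smul_zero])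
    exact absurd (by rw [hYs, hzero, zero_smul]) hY0
  push Not at hall
  obtain ⟨a, ha⟩ := hall
  obtain ⟨R, hR⟩ : ∃ R, R = ∑ l ∈ Finset.univ.erase a, slot l (Z l) := ⟨_, rfl⟩
  have hYaR : Y = slot a (Z a) + R := by rw [hR, Finset.add_sum_erase Finset.univ (fun l => slot l (Z l)) (Finset.mem_univ a), ← hY]
  have hRc : Cm (slot (F := F) (k := k) a) R := fun X => by
    rw [hR]
    exact Commute.sum_right _ _ _ fun l hl => slot_comm (Finset.ne_of_mem_erase hl).symm _ _
  have hcentral : ∀ {A : Matrix (Fin k) (Fin k) F}, Cm (slot (F := F) (k := k) a) (slot a A) →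
      ∃ s : F, A = s • 1 := by
    intro A hA
    obtain ⟨s, hs⟩ := slot_central (S := slot a A) fun l X => by
      rcases eq_or_ne l a with rfl | hl
      · exact hA X
      · exact slot_comm hl _ _
    refine ⟨s, slot_injective a ?_⟩
    rw [map_smul, map_one, hs, Algebra.algebraMap_eq_smul_one]
  have hexp : ∀ (A : Matrix (Fin k) (Fin k) F) (C : Matrix (Fin t → Fin k) (Fin t → Fin k) F),
      Cm (slot (F := F) (k := k) a) C → (slot a A + C) * (slot a A + C) = slot a (A * A) + C * C := by
    intro A C hC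
    rw [add_mul, mul_add, mul_add, (hC A).eq, map_mul]
    have := htwo (C * slot a A)
    linear_combination (norm := abel) this
  obtain ⟨α, hα⟩ : ∃ α : F, Z a * Z a = α • 1 := hcentral (by
    have h0 := hsq
    rw [hYaR, hexp _ _ hRc] at h0
    rw [eq_neg_of_add_eq_zero_left h0]
    exact (hRc.mul hRc).neg)
  haveI : CharP F 2 := CharTwo.of_one_ne_zero_of_two_eq_zero one_ne_zero h2
  obtain ⟨s, hs⟩ := FiniteField.isSquare_of_char_two (ringChar.eq F 2) α
  set A := Z a + s • (1 : Matrix (Fin k) (Fin k) F) with hAdef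
  set C := R + s • (1 : Matrix (Fin t → Fin k) (Fin t → Fin k) F) with hCdef
  have hAA : A * A = 0 := by
    rw [hAdef, add_mul, mul_add, mul_add, hα, hs, smul_mul_smul_comm, mul_one, mul_smul_comm, mul_one,
      smul_mul_assoc, one_mul]
    have h1 := htwo ((s * s) • (1 : Matrix (Fin k) (Fin k) F))
    have h2' := htwo (s • Z a)
    linear_combination (norm := abel) h1 + h2'
  have hCc : Cm (slot (F := F) (k := k) a) C := hRc.add (Cm.one.smul s)
  have hYAC : Y = slot a A + C := by
    rw [hYaR, hAdef, hCdef, map_add, map_smul, map_one]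
    have := htwo (s • (1 : Matrix (Fin t → Fin k) (Fin t → Fin k) F))
    linear_combination (norm := abel) -this
  have hCC : C * C = 0 := by
    have := hsq
    rwa [hYAC, hexp _ _ hCc, hAA, map_zero, zero_add] at this
  have hA0 : ∀ r : F, A ≠ r • 1 := fun r h => ha (r - s) (by
    rw [sub_smul, ← h, hAdef, add_sub_cancel_right])
  by_contra hcon
  push Not at hcon
  have hCns : ∀ r : F, C ≠ r • 1 := fun r h => by
    have hr : r = 0 := by
      by_contra hne
      rw [h, smul_mul_smul_comm, one_mul, smul_eq_zero] at hCC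
      rcases hCC with hc | hc
      · exact hne (mul_self_eq_zero.1 hc)
      · exact hY0 (by rw [← mul_one Y, hc, mul_zero])
    exact hcon a A (by rw [hYAC, h, hr, zero_smul, add_zero])
  have hkill : ∀ x, A * op f x x + op f x x * A = 0 := by
    intro x
    obtain ⟨μ, hμ⟩ := habs a x
    rw [hYAC] at hμ
    set E := A * op f x x + op f x x * A with hE
    have hfull : slot a (E - μ • 1) * C = slot a (μ • A - A * op f x x * A) := by
      have e1 : (slot a A + C) * slot a (op f x x) * (slot a A + C) =
          slot a (A * op f x x * A) + slot a E * C + slot a (op f x x) * (C * C) := by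
        simp only [hE, map_add, map_mul, add_mul, mul_add, mul_assoc]
        simp only [← (hCc A).eq, ← (hCc (op f x x)).eq, ← mul_assoc (slot a (op f x x)) C]
        simp only [← mul_assoc, ← (hCc (op f x x)).eq]
        simp only [mul_assoc, (hCc A).eq]
        abel
      rw [e1, hCC, mul_zero, add_zero] at hμ
      rw [map_sub, map_sub, map_smul, map_smul, map_one, sub_mul, smul_mul_assoc, one_mul]
      linear_combination (norm := module) hμ
    have hEμ : E = μ • 1 := by
      by_contra hne
      obtain ⟨p, q, hpq⟩ : ∃ p q, (E - μ • 1) p q ≠ 0 := by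
        by_contra! h
        exact hne (sub_eq_zero.1 (Matrix.ext h))
      have h1 := congrArg (fun S => cE (slot (F := F) (k := k) a) S (Pi.single p 1) (Pi.single q 1)) hfull
      rw [cE_of_cm _ hCc, show slot a (μ • A - A * op f x x * A) =
        slot a (μ • A - A * op f x x * A) * 1 from (mul_one _).symm, cE_of_cm _ Cm.one] at h1
      have hd : (Pi.single p 1 : Fin k → F) ⬝ᵥ (E - μ • 1) *ᵥ Pi.single q 1 = (E - μ • 1) p q := by
        simp
      rw [hd] at h1
      refine hCns (((E - μ • (1 : Matrix (Fin k) (Fin k) F)) p q)⁻¹ *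
        ((Pi.single p 1 : Fin k → F) ⬝ᵥ (μ • A - A * op f x x * A) *ᵥ Pi.single q 1)) ?_
      rw [mul_smul, ← h1, inv_smul_smul₀ hpq]
    obtain ⟨m, hm0, hm⟩ := exists_orth hf' ![x, Aᵀ *ᵥ formDual f x] (by
      rw [Fintype.card_fin]; omega)
    obtain ⟨m, hm0, h1, h2'⟩ : ∃ m : Fin k → F, m ≠ 0 ∧ f m x = 0 ∧ f (A *ᵥ m) x = 0 := by
      let L : (Fin k → F) →ₗ[F] (Fin 2 → F) :=
        LinearMap.pi ![(bilinOf hf').flip x, ((bilinOf hf').flip x).comp (Matrix.toLin' A)]
      obtain ⟨m, hm, hm0⟩ := Submodule.exists_mem_ne_zero_of_ne_bot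
        (LinearMap.ker_ne_bot_of_finrank_lt (f := L) (by
          rw [Module.finrank_fintype_fun_eq_card, Module.finrank_fintype_fun_eq_card, Fintype.card_fin,
            Fintype.card_fin]
          omega))
      exact ⟨m, hm0, congrFun (LinearMap.mem_ker.1 hm) 0, by
        have := congrFun (LinearMap.mem_ker.1 hm) 1
        simpa [L, Matrix.toLin'_apply] using this⟩
    have hμ0 : μ = 0 := by
      have h := congrArg (fun S => S *ᵥ m) hEμ
      simp only [hE, add_mulVec, ← mulVec_mulVec, op_mulVec hf', h1, h2', zero_smul, mulVec_zero,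
        add_zero, smul_mulVec, one_mulVec] at h
      exact (smul_eq_zero.1 h.symm).resolve_right hm0
    rw [hEμ, hμ0, zero_smul]
  have hAc : ∀ X, X ∈ Subalgebra.centralizer F ({A} : Set (Matrix (Fin k) (Fin k) F)) :=
    top_of_op_self hf _ fun u => by
      simp only [Subalgebra.mem_centralizer_iff, Set.mem_singleton_iff, forall_eq]
      have := htwo (op f u u * A)
      linear_combination (norm := abel) hkill u - this
  obtain ⟨r, hr⟩ := Matrix.mem_range_scalar_of_commute_single (M := A) fun p q _ => by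
    have := hAc (Matrix.single p q 1)
    simp only [Subalgebra.mem_centralizer_iff, Set.mem_singleton_iff, forall_eq] at this
    exact this.symm
  exact hA0 r (by rw [← hr, Matrix.smul_one_eq_diagonal]; rfl)

variable (H : EvenHyp Q f c₀ M)
include H

/-- Without moving members the group lies in the wreath group. -/
theorem EvenHyp.mem_std {m₀ : GL (Fin t → Fin k) F} (hm₀ : m₀ ∈ M) :
    m₀ ∈ tensorWreathStandard k t F := by
  classical
  have hf := H.tform.hf
  have h6 := H.six
  have htwo : ∀ {W : Type _} [AddCommGroup W] [Module F W] (w : W), w + w = 0 := fun {W} _ _ w => by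
    rw [← two_smul F w, H.two, zero_smul]
  let K := (tensorWreathStandard k t F).subgroupOf M
  let Φ (ψ : Matrix (Fin t → Fin k) (Fin t → Fin k) F) (g : M) :
      Matrix (Fin t → Fin k) (Fin t → Fin k) F :=
    g.1.val * proj ((g.1⁻¹).val * ψ * g.1.val) * (g.1⁻¹).val
  have hΦK : ∀ ψ (g h : M), h ∈ K → Φ ψ (g * h) = Φ ψ g := by
    intro ψ g h hh
    have hh' : (h.1⁻¹) ∈ tensorWreathStandard k t F := inv_mem hh
    have e : (((g * h : M) : GL (Fin t → Fin k) F)⁻¹).val * ψ * ((g * h : M) : GL (Fin t → Fin k) F).val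
        = (h.1⁻¹).val * ((g.1⁻¹).val * ψ * g.1.val) * (h.1⁻¹)⁻¹.val := by
      rw [Subgroup.coe_mul, _root_.mul_inv_rev, Units.val_mul, Units.val_mul, inv_inv]
      simp only [mul_assoc]
    show _ * proj _ * _ = _
    rw [e, proj_conj hh', Subgroup.coe_mul, _root_.mul_inv_rev, Units.val_mul, Units.val_mul, inv_inv]
    simp only [mul_assoc]
    rw [← mul_assoc h.1.val (h.1⁻¹).val, Units.mul_inv, one_mul,
      ← mul_assoc h.1.val (h.1⁻¹).val ((g.1⁻¹).val), Units.mul_inv, one_mul]
    simp only [Φ, mul_assoc]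
  have hrep : ∀ ψ (g : M), Φ ψ (Quotient.out (QuotientGroup.mk g : M ⧸ K)) = Φ ψ g := by
    intro ψ g
    obtain ⟨h, hh⟩ := QuotientGroup.mk_out_eq_mul K g
    rw [hh, hΦK ψ g h h.2]
  let T (ψ : Matrix (Fin t → Fin k) (Fin t → Fin k) F) := ∑ q : M ⧸ K, Φ ψ q.out
  have hmove : ∀ ψ (a : M) (q : M ⧸ K), Φ ψ (a • q).out =
      a.1.val * Φ ((a.1⁻¹).val * ψ * a.1.val) q.out * (a.1⁻¹).val := by
    intro ψ a q
    induction q using QuotientGroup.induction_on with
    | H g =>
      rw [MulAction.Quotient.smul_mk, smul_eq_mul, hrep, hrep]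
      simp only [Φ, Subgroup.coe_mul, _root_.mul_inv_rev, Units.val_mul, mul_assoc]
  have hTeq : ∀ ψ (m : M), T (m.1.val * ψ * (m.1⁻¹).val) = m.1.val * T ψ * (m.1⁻¹).val := by
    intro ψ m
    simp only [T, Finset.mul_sum, Finset.sum_mul]
    rw [← Equiv.sum_comp (MulAction.toPerm m)]
    refine Finset.sum_congr rfl fun q _ => ?_
    rw [MulAction.toPerm_apply, hmove]
    simp only [mul_assoc, Units.inv_mul, mul_one, ← mul_assoc (m.1⁻¹).val m.1.val, one_mul]
  -- pairs of products with common roots have equal traces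
  have hpair : ∀ (X' X : Fin t → Matrix (Fin k) (Fin k) F) (e : Fin t → Fin k → F), (∀ l, e l ≠ 0) →
      (∀ l, op f (e l) (e l) * X' l = X' l * op f (e l) (e l)) →
      (∀ l, op f (e l) (e l) * X l = X l * op f (e l) (e l)) →
      (pmat X' * T (pmat X)).trace = (pmat X' * proj (pmat X)).trace := by
    intro X' X e he hX' hX
    choose el hel hval using fun l => H.root l (e l)
    let a (l : Fin t) : M := ⟨el l, hel l⟩
    have aval : ∀ l, (a l).1.val = 1 + slot l (op f (e l) (e l)) := hval
    have asq : ∀ l, a l * a l = 1 := fun l => Subtype.ext (Units.ext (by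
      rw [Subgroup.coe_mul, Units.val_mul, aval, add_mul, one_mul, mul_add, mul_one, ← map_mul,
        op_mul hf.bilinear, hf.alternating, zero_smul, map_zero, add_zero, add_assoc, htwo, add_zero]
      rfl))
    have ainv : ∀ l, ((a l).1⁻¹) = (a l).1 := fun l => inv_eq_of_mul_eq_one_right (by
      rw [← Subgroup.coe_mul, asq, Subgroup.coe_one])
    have acomm : ∀ l m, a l * a m = a m * a l := fun l m => by
      rcases eq_or_ne l m with rfl | hne
      · rfl
      refine Subtype.ext (Units.ext ?_)
      rw [Subgroup.coe_mul, Subgroup.coe_mul, Units.val_mul, Units.val_mul, aval, aval]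
      simp only [add_mul, mul_add, one_mul, mul_one, slot_comm hne]
      abel
    have hfix : ∀ (Z : Fin t → Matrix (Fin k) (Fin k) F),
        (∀ l, op f (e l) (e l) * Z l = Z l * op f (e l) (e l)) → ∀ l,
        (a l).1.val * pmat Z = pmat Z * (a l).1.val := fun Z hZ l => by
      rw [aval, add_mul, mul_add, one_mul, mul_one, slot_mul_pmat, pmat_mul_slot, hZ l]
    let G (q : M ⧸ K) : F := (pmat X' * Φ (pmat X) q.out).trace
    have hG : ∀ l q, G (a l • q) = G q := fun l q => by
      have e1 : ((a l).1⁻¹).val * pmat X * (a l).1.val = pmat X := by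
        rw [mul_assoc, ← hfix X hX l, ← mul_assoc, Units.inv_mul, one_mul]
      show (pmat X' * Φ (pmat X) (a l • q).out).trace = _
      have esq : ∀ P : Matrix (Fin t → Fin k) (Fin t → Fin k) F,
          (a l).1.val * ((a l).1.val * P) = P := fun P => by
        rw [← mul_assoc, ← Units.val_mul, ← Subgroup.coe_mul, asq, Subgroup.coe_one, Units.val_one, one_mul]
      rw [hmove, e1, ainv, ← mul_assoc, ← mul_assoc, ← hfix X' hX' l, Matrix.trace_mul_comm, ← mul_assoc,
        esq]
    let free (q : M ⧸ K) (l : Fin t) : Prop := a l • q ≠ q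
    have hfree : ∀ l m q, free (a m • q) l ↔ free q l := fun l m q => by
      simp only [free]
      rw [← mul_smul, acomm, mul_smul, ne_eq, MulAction.injective _ |>.eq_iff]
    have hone : ∀ l, a l • (QuotientGroup.mk 1 : M ⧸ K) = QuotientGroup.mk 1 := fun l => by
      rw [MulAction.Quotient.smul_mk, smul_eq_mul, mul_one, QuotientGroup.eq, mul_one]
      refine inv_mem ?_
      rw [Subgroup.mem_subgroupOf]
      refine exists_units (σ := 1) (A := Function.update 1 l (1 + op f (e l) (e l))) ?_
      rw [aval, permMat_one, mul_one, ← slot_eq, map_add, map_one]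
    have hex : ∀ q : M ⧸ K, q ≠ QuotientGroup.mk 1 → (Finset.univ.filter (free q)).Nonempty := by
      intro q hq
      by_contra hcon
      rw [Finset.not_nonempty_iff_eq_empty, Finset.filter_eq_empty_iff] at hcon
      obtain ⟨g, rfl⟩ := QuotientGroup.mk_surjective q
      refine hq ?_
      rw [QuotientGroup.eq, mul_one]
      show g⁻¹ ∈ K
      rw [Subgroup.mem_subgroupOf]
      refine H.std_of_images (M.inv_mem g.2) fun l => ?_
      have hl : a l • (QuotientGroup.mk g : M ⧸ K) = QuotientGroup.mk g := not_not.1 (hcon (Finset.mem_univ l))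
      rw [MulAction.Quotient.smul_mk, smul_eq_mul, QuotientGroup.eq, Subgroup.mem_subgroupOf] at hl
      refine ⟨e l, he l, _, inv_mem hl, ?_⟩
      simp only [_root_.mul_inv_rev, inv_inv, Subgroup.coe_mul, InvMemClass.coe_inv, Units.val_mul, aval]
      rw [add_mul, one_mul, mul_add, Units.inv_mul, mul_assoc]
    let cls (q : M ⧸ K) : M ⧸ K :=
      if h : (Finset.univ.filter (free q)).Nonempty then a ((Finset.univ.filter (free q)).min' h) • q
      else q
    show (pmat X' * T (pmat X)).trace = _
    have hT : (pmat X' * T (pmat X)).trace = ∑ q : M ⧸ K, G q := by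
      simp only [T, G, Finset.mul_sum, Matrix.trace_sum]
    rw [hT, ← Finset.add_sum_erase _ _ (Finset.mem_univ (QuotientGroup.mk 1 : M ⧸ K))]
    have h1 : G (QuotientGroup.mk 1) = (pmat X' * proj (pmat X)).trace := by
      show (pmat X' * Φ (pmat X) _).trace = _
      rw [hrep]
      simp [Φ]
    rw [h1, add_eq_left]
    have hfilt : ∀ m q, Finset.univ.filter (free (a m • q)) = Finset.univ.filter (free q) := fun m q =>
      Finset.filter_congr fun l _ => hfree l m q
    refine Finset.sum_involution (fun q _ => cls q) (fun q hq => ?_) (fun q hq _ => ?_)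
      (fun q hq => ?_) (fun q hq => ?_)
    all_goals
      have hn := hex q (Finset.ne_of_mem_erase hq)
      have hc : cls q = a ((Finset.univ.filter (free q)).min' hn) • q := dif_pos hn
    · rw [hc, hG]; exact htwo _
    · rw [hc]; exact (Finset.mem_filter.1 (Finset.min'_mem _ hn)).2
    · rw [hc]
      refine Finset.mem_erase.2 ⟨fun e1 => Finset.ne_of_mem_erase hq ?_, Finset.mem_univ _⟩
      rw [← hone ((Finset.univ.filter (free q)).min' hn)] at e1
      exact MulAction.injective _ e1
    · show cls (cls q) = q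
      rw [hc]
      simp only [cls, hfilt, dif_pos hn]
      rw [← mul_smul, asq, one_smul]
  -- the averaging map is the projection
  have hTsingle : ∀ a b : Fin t → Fin k,
      T (Matrix.single a b 1) = proj (Matrix.single a b 1) := by
    intro a b
    ext c d
    have key : ∀ l, ∃ e : Fin k → F, e ≠ 0 ∧
        op f e e * Matrix.single (d l) (c l) 1 = Matrix.single (d l) (c l) 1 * op f e e ∧
        op f e e * Matrix.single (a l) (b l) 1 = Matrix.single (a l) (b l) 1 * op f e e := by
      intro l
      have hsingle : ∀ p q : Fin k, ∃ y, Matrix.single p q (1 : F) = op f (Pi.single p 1) y := fun p q => by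
        obtain ⟨y, hy⟩ := exists_formDual_eq hf.bilinear hf.nondegenerate (Pi.single q 1 : Fin k → F)
        exact ⟨y, by rw [op, hy, single_eq_single_vecMulVec_single]⟩
      obtain ⟨y, hy⟩ := hsingle (d l) (c l)
      obtain ⟨z, hz⟩ := hsingle (a l) (b l)
      obtain ⟨e, he, heo⟩ := exists_orth hf.bilinear ![Pi.single (d l) 1, y, Pi.single (a l) 1, z]
        (by rw [Fintype.card_fin]; omega)
      have h0 : f (Pi.single (d l) 1) e = 0 := heo 0
      have h1 : f y e = 0 := heo 1
      have h2 : f (Pi.single (a l) 1) e = 0 := heo 2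
      have h3 : f z e = 0 := heo 3
      have h1' : f e y = 0 := by rw [hf.skew, h1, neg_zero]
      have h3' : f e z = 0 := by rw [hf.skew, h3, neg_zero]
      refine ⟨e, he, ?_, ?_⟩
      · simp [hy, op_mul hf.bilinear, h0, h1']
      · simp [hz, op_mul hf.bilinear, h2, h3']
    choose e he he' he'' using key
    have := hpair (fun l => Matrix.single (d l) (c l) 1) (fun l => Matrix.single (a l) (b l) 1) e he he' he''
    rw [pmat_single, pmat_single, Matrix.trace_single_mul, Matrix.trace_single_mul, one_smul, one_smul] at this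
    exact this
  let TL : Matrix (Fin t → Fin k) (Fin t → Fin k) F →ₗ[F] Matrix (Fin t → Fin k) (Fin t → Fin k) F :=
    { toFun := T
      map_add' := fun X Y => by simp only [T, Φ, mul_add, add_mul, map_add, Finset.sum_add_distrib]
      map_smul' := fun c X => by
        simp only [T, Φ, mul_smul_comm, smul_mul_assoc, map_smul, Finset.smul_sum, RingHom.id_apply] }
  have hall : ∀ X, T X = proj X := fun X => by
    rw [Matrix.matrix_eq_sum_single X]
    show TL _ = _
    simp only [map_sum]
    refine Finset.sum_congr rfl fun a _ => Finset.sum_congr rfl fun b _ => ?_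
    rw [← mul_one (X a b), ← smul_eq_mul, ← Matrix.smul_single, map_smul, map_smul]
    exact congrArg _ (hTsingle a b)
  have hequiv : ∀ ψ (m : GL (Fin t → Fin k) F), m ∈ M →
      proj (m.val * ψ * (m⁻¹).val) = m.val * proj ψ * (m⁻¹).val := fun ψ m hm => by
    have := hTeq ψ ⟨m, hm⟩
    rwa [hall, hall] at this
  refine H.std_of_images hm₀ fun i => ?_
  let p₀ : Fin k := ⟨0, by omega⟩
  let u : Fin k → F := Pi.single p₀ 1
  have hu : u ≠ 0 := by simp [u]
  have himg : ∀ (a : Fin t) (x : Fin k → F), ∃ ψ, slot a (op f x x) =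
      (proj ψ : Matrix (Fin t → Fin k) (Fin t → Fin k) F) := fun a x =>
    ⟨_, (proj_single_slot a p₀ (by
      rw [op, Matrix.trace_vecMulVec, dotProduct_comm, formDual_dot hf.bilinear, hf.alternating])).symm⟩
  obtain ⟨ψ, hψ⟩ := himg i u
  set N := slot i (op f u u) with hN
  set Y := m₀.val * N * (m₀⁻¹).val with hYdef
  have hsqN : N * N = 0 := by rw [hN, ← map_mul, op_mul hf.bilinear, hf.alternating, zero_smul, map_zero]
  have hY : Y = ∑ l, slot l (ptr l (m₀.val * ψ * (m₀⁻¹).val)) := by
    rw [← proj_apply, hequiv _ _ hm₀, ← hψ]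
  have hsq : Y * Y = 0 := by
    rw [hYdef, show m₀.val * N * (m₀⁻¹).val * (m₀.val * N * (m₀⁻¹).val) =
      m₀.val * (N * ((m₀⁻¹).val * m₀.val) * N) * (m₀⁻¹).val by simp only [mul_assoc], Units.inv_mul,
      mul_one, hsqN, mul_zero, zero_mul]
  have hY0 : Y ≠ 0 := fun h0 => op_ne_zero hf hu hu (slot_injective i (by
    rw [map_zero, ← hN, show N = (m₀⁻¹).val * Y * m₀.val by rw [hYdef]; simp [mul_assoc], h0, mul_zero,
      zero_mul]))
  obtain ⟨a, A, hA⟩ := single_of_sum hf H.two (by omega) hY hsq hY0 fun a x => by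
    obtain ⟨φ, hφ⟩ := himg a x
    have hW := hequiv φ _ (M.inv_mem hm₀)
    rw [inv_inv, ← hφ, proj_apply] at hW
    have hsand : ∀ l (W : Matrix (Fin k) (Fin k) F), ∃ μ : F, N * slot l W * N = μ • N := fun l W => by
      rcases eq_or_ne l i with rfl | hl
      · refine ⟨f (W *ᵥ u) u, ?_⟩
        rw [hN, ← map_mul, ← map_mul, ← map_smul]
        congr 1
        rw [mul_assoc, show W * op f u u = op f (W *ᵥ u) u from mul_vecMulVec _ _ _, op_mul hf.bilinear]
      · exact ⟨0, by rw [hN, slot_comm (Ne.symm hl), mul_assoc, hsqN, mul_zero, zero_smul]⟩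
    choose μ hμ using fun l => hsand l (ptr l ((m₀⁻¹).val * φ * m₀.val))
    refine ⟨∑ l, μ l, ?_⟩
    have e : Y * slot a (op f x x) * Y =
        m₀.val * (N * ((m₀⁻¹).val * slot a (op f x x) * m₀.val) * N) * (m₀⁻¹).val := by
      simp only [hYdef, mul_assoc]
    rw [e, ← hW, Finset.mul_sum, Finset.sum_mul, Finset.sum_congr rfl fun l _ => hμ l, ← Finset.sum_smul,
      mul_smul_comm, smul_mul_assoc]
  obtain ⟨el, hel, hval⟩ := H.root i u
  refine ⟨u, hu, m₀ * el * m₀⁻¹, exists_units (σ := 1) (A := Function.update 1 a (1 + A)) ?_, ?_⟩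
  all_goals rw [Units.val_mul, Units.val_mul, hval, mul_add, add_mul, mul_one, Units.mul_inv, ← hN]
  · rw [← hYdef, hA, permMat_one, mul_one, ← slot_eq, map_add, map_one]

end CfsgLib.ClassicalMax.TWMax
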