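/-
A member moving along a factor forces the whole of `Ω`.
-/
import Cfsg.Agent.Lib.ClassicalMax.TWMax.ClosureTwo
set_option autoImplicit false
set_option linter.unusedSectionVars false

namespace CfsgLib.ClassicalMax.TWMax

open Matrix Cfsg.Geo QuadraticMap CfsgLib.ClassicalMax.TWreath
open CfsgLib.Classical.Quad (NDPolar Frame)

variable {F : Type*} [Field F] [DecidableEq F] {t k : ℕ}
  {Q : QuadraticForm F ((Fin t → Fin k) → F)} {f : (Fin k → F) → (Fin k → F) → F}
  {c₀ : F} {M : Subgroup (GL (Fin t → Fin k) F)}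

/-- There is no member with roots at all the factors. -/
lemma not_all_roots (T : TForm Q f c₀) (hle : M ≤ omegaGL ⇑Q) {c : F}
    {X : Fin t → Matrix (Fin k) (Fin k) F} (hc : c ≠ 0) (hX : ∀ l, IsA f (X l))
    (h : Mem M (c • pmat X)) : False := by
  have hf := T.hf
  choose e he heX using hX
  choose g hg using fun l =>
    exists_pairing hf (v := ![e l]) (LinearIndependent.of_subsingleton 0 (he l)) ![-1]
  have hge : ∀ l, f (g l) (e l) = 1 := fun l => by
    rw [hf.skew, show f (e l) (g l) = -1 from hg l 0, neg_neg]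
  obtain ⟨m, hm, hv⟩ := h
  have hact : m.val *ᵥ pvec g = pvec g + c • pvec e := by
    rw [hv, add_mulVec, one_mulVec, smul_mulVec, pmat_mulVec_pvec]
    congr 2
    refine congrArg pvec (funext fun l => ?_)
    rw [heX l, op_mulVec hf.bilinear, hge, one_smul]
  have hQ := OmS.omega_iso (hle hm) (pvec g)
  rw [hact, QuadraticMap.map_add (⇑Q), QuadraticMap.map_smul, T.Q_pvec, T.Q_pvec, smul_zero,
    zero_add, zero_add, polar_smul_right, T.polar_pvec, Finset.prod_eq_one (fun l _ => hge l),
    mul_one, smul_eq_mul] at hQ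
  exact mul_ne_zero hc T.c_ne hQ

/-- In odd characteristic a member with roots has an odd number of them. -/
lemma odd_roots (T : TForm Q f c₀) (hle : M ≤ omegaGL ⇑Q) (h2 : (2 : F) ≠ 0) (hk : 0 < k) {c : F}
    {X : Fin t → Matrix (Fin k) (Fin k) F} {S : Finset (Fin t)} (hc : c ≠ 0)
    (hX : ∀ m ∈ S, IsA f (X m)) (hone : ∀ m ∉ S, X m = 1) (hS : S.Nonempty)
    (h : Mem M (c • pmat X)) : Odd S.card := by
  have hf := T.hf
  choose e he heX using hX
  choose g hg using fun l => fun h : l ∈ S =>
    exists_pairing hf (v := ![e l h]) (LinearIndependent.of_subsingleton 0 (he l h)) ![-1]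
  obtain ⟨u, hu⟩ : ∃ u : Fin k → F, u ≠ 0 := ⟨Pi.single ⟨0, hk⟩ 1,
    fun h => one_ne_zero (α := F) (by simpa using congrFun h ⟨0, hk⟩)⟩
  obtain ⟨w, hw⟩ := exists_pairing hf (v := ![u]) (LinearIndependent.of_subsingleton 0 hu) ![1]
  have huw : f u w = 1 := hw 0
  let x : Fin t → Fin k → F := fun l => if h : l ∈ S then g l h else u
  let y : Fin t → Fin k → F := fun l => if h : l ∈ S then g l h else w
  let x' : Fin t → Fin k → F := fun l => if h : l ∈ S then e l h else u
  let y' : Fin t → Fin k → F := fun l => if h : l ∈ S then e l h else w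
  have hge : ∀ l (h : l ∈ S), f (g l h) (e l h) = 1 := fun l h => by
    rw [hf.skew, show f (e l h) (g l h) = -1 from hg l h 0, neg_neg]
  obtain ⟨m, hm, hv⟩ := h
  have hact : ∀ (z z' : Fin t → Fin k → F), (∀ l, X l *ᵥ z l = z' l) →
      m.val *ᵥ pvec z = pvec z + c • pvec z' := fun z z' hz => by
    rw [hv, add_mulVec, one_mulVec, smul_mulVec, pmat_mulVec_pvec, funext hz]
  have hx : ∀ l, X l *ᵥ x l = x' l := fun l => by
    by_cases hl : l ∈ S
    · simp only [x, x', dif_pos hl]
      rw [heX l hl, op_mulVec hf.bilinear, hge, one_smul]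
    · simp [x, x', hl, hone l hl]
  have hy : ∀ l, X l *ᵥ y l = y' l := fun l => by
    by_cases hl : l ∈ S
    · simp only [y, y', dif_pos hl]
      rw [heX l hl, op_mulVec hf.bilinear, hge, one_smul]
    · simp [y, y', hl, hone l hl]
  obtain ⟨l₀, hl₀⟩ := hS
  have h3 : polar Q (pvec x') (pvec y') = 0 := T.orth l₀ (by simp [x', y', hl₀, hf.alternating])
  have h1 : polar Q (pvec x') (pvec y) = c₀ * (-1) ^ S.card := by
    rw [T.polar_pvec, Finset.prod_congr rfl (g := fun l => if l ∈ S then (-1 : F) else 1) fun l _ => ?_,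
      Finset.prod_ite_mem, Finset.univ_inter, Finset.prod_const]
    by_cases hl : l ∈ S
    · simp only [x', y, dif_pos hl, if_pos hl]
      rw [show f (e l hl) (g l hl) = -1 from hg l hl 0]
    · simp [x', y, hl, huw]
  have h2' : polar Q (pvec x) (pvec y') = c₀ := by
    rw [T.polar_pvec, Finset.prod_eq_one fun l _ => ?_, mul_one]
    by_cases hl : l ∈ S
    · simp [x, y', hl, hge l hl]
    · simp [x, y', hl, huw]
  have hiso := OmS.omega_polar (hle hm) (pvec x) (pvec y)
  rw [hact x x' hx, hact y y' hy, polar_add_left, polar_add_right, polar_add_right, polar_smul_left,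
    polar_smul_left, polar_smul_right, polar_smul_right, h3, h1, h2', smul_zero, smul_zero, add_zero,
    smul_eq_mul, smul_eq_mul] at hiso
  rcases Nat.even_or_odd S.card with hev | hodd
  · exfalso
    rw [hev.neg_one_pow, mul_one] at hiso
    exact mul_ne_zero (mul_ne_zero h2 hc) T.c_ne (by linear_combination hiso)
  · exact hodd

variable [Fintype F]

/-- A member moving along a factor forces the whole of `Ω`. -/
theorem omega_le_of_up (T : TForm Q f c₀) (hnd : NDPolar Q) (R : Frame Q) (hle : M ≤ omegaGL ⇑Q)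
    (hM : Slots f M) (hP : Perms M) (hk : 2 ≤ k) (hq : 3 ≤ k ∨ 3 ≤ Fintype.card F)
    (h24 : (2 : F) ≠ 0 ∨ 3 ≤ k) (hsign : (-1 : F) ^ t = 1) (htwo : k = 2 → Even t ∧ 3 ≤ t)
    {i : Fin t} {u : Fin k → F} {S : Matrix (Fin t → Fin k) (Fin t → Fin k) F}
    (hu : u ≠ 0) (hS : Cm (slot (F := F) (k := k) i) S) (hm : Mem M (slot i (op f u u) * S))
    (hns : ∀ c : F, S ≠ algebraMap F _ c) : omegaGL ⇑Q ≤ M := by
  have hf := T.hf
  obtain ⟨c, X, hc, hX, hi, ⟨l, hli, hl⟩, hmem⟩ := monomial hf hM hk hq h24 hu hS hm hns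
  obtain ⟨v, hv, hperp⟩ : ∃ v : Fin k → F, v ≠ 0 ∧
      (∀ (p r : Fin t → Fin k → F) (m : Fin t), (∀ n, p n ≠ 0) → f (r m) (p m) = 0 →
        RP Q M (pvec p) (pvec r)) := by
    refine ⟨u, hu, ?_⟩
    rcases eq_or_lt_of_le hk with hk2 | hk3
    · subst hk2
      obtain ⟨ht, ht3⟩ := htwo rfl
      have h2 : (2 : F) ≠ 0 := h24.resolve_right (by omega)
      have hq' : 3 ≤ Fintype.card F := hq.resolve_left (by omega)
      obtain ⟨j, p, a, b, x, y, hp, hab, hx, h⟩ := two_root hf hM hP h2 hq'
        (fun c X S hc hA hone hS h => odd_roots T hle h2 (by omega) hc hA hone hS h)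
        ht hc hX hi hli hl hmem
      have hrp := rp_of_mem T hle hsign hp hab h
      have hj : Along Q M j := along_of_seed_two T hle hM rfl h2
        (seed T hle hM hp hab (div_ne_zero hx T.c_ne) hrp)
      exact fun p r m hp hm => pure_perp_two T hle hM ht (along_perm T hle hP ht3 hj) hp hm
    · obtain ⟨c', X', hc', hX', hA, hmem'⟩ := full hf hM hP hk3 _ c X rfl hc hX hmem i l hi hli hl
      have hB : ∃ m, ¬ IsA f (X' m) := by
        by_contra! hall
        exact not_all_roots T hle hc' hall hmem'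
      obtain ⟨j, p, a, b, x, y, hp, hab, hx, h⟩ := full_root hf hM hc' hX' hA hB hmem'
      have hrp := rp_of_mem T hle hsign hp hab h
      have hj : Orth Q f M j := orth_of_seed T hle hM
        (seed T hle hM hp hab (div_ne_zero hx T.c_ne) hrp)
      have hne : ∀ l, l ≠ j → Along Q M l := fun l hl => along_of_orth T hle hM hk3 hj hl
      have hall : ∀ l, Along Q M l := fun l => by
        by_cases hl : l = j
        · obtain ⟨n, hn⟩ : ∃ n : Fin t, n ≠ j := by
            have := T.two_le
            exact ⟨if j.val = 0 then ⟨1, by omega⟩ else ⟨0, by omega⟩, by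
              split_ifs with h0 <;> (intro e; rw [Fin.ext_iff] at e; simp at e; omega)⟩
          exact along_of_orth T hle hM hk3 (fun p hp y _ => hne n hn p hp y)
            (fun e => hn (e.symm.trans hl))
        · exact hne l hl
      exact fun p r m hp hm => pure_perp T hle hM hk3 hall hp hm
  obtain ⟨w, hw⟩ := exists_pairing hf (v := ![v]) (LinearIndependent.of_subsingleton 0 hv) ![1]
  have hvw : f v w = 1 := hw 0
  have hw0 : w ≠ 0 := fun e => one_ne_zero (α := F) (by rw [← hvw, e, form_zero_right hf.bilinear])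
  refine OmS.omega_le_of_pair hnd R hle
    (mem_SS_of_pure T hle (p := fun _ => v) (fun _ => hv) fun r m h => hperp _ r m (fun _ => hv) h)
    (mem_SS_of_pure T hle (p := fun _ => w) (fun _ => hw0) fun r m h => hperp _ r m (fun _ => hw0) h) ?_
  rw [T.polar_pvec]
  simp [hvw, T.c_ne]

end CfsgLib.ClassicalMax.TWMax
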