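/-
The stabiliser inside `Ω` of a tensor power of symplectic factors contains the isometries of the
factors and the even permutations; assembly of the maximality.
-/
import Cfsg.Agent.Lib.ClassicalMax.TWMax.RootOmega
import Cfsg.Agent.Lib.ClassicalMax.TWMax.EvenAvg
import Cfsg.Agent.Lib.ClassicalMax.TWMax.Kp
import Cfsg.Agent.Lib.ClassicalMax.TWreath.SpAvg
import Cfsg.Agent.Lib.ClassicalMax.TensorSympMax
set_option autoImplicit false
set_option linter.unusedSectionVars false

namespace CfsgLib.ClassicalMax.TWMax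

open Matrix Cfsg.Geo QuadraticMap CfsgLib.ClassicalMax.TWreath
open CfsgLib.Classical.Quad (NDPolar Frame)

variable {F : Type*} [Field F] [DecidableEq F] [Fintype F] {t k : ℕ}
  {Q : QuadraticForm F ((Fin t → Fin k) → F)} {f : (Fin k → F) → (Fin k → F) → F}
  {c₀ : F} {M : Subgroup (GL (Fin t → Fin k) F)}

/-- The rank of a root of a factor. -/
lemma rank_slot_op (hf : IsSymplecticForm f) (i : Fin t) {u : Fin k → F} (hu : u ≠ 0) :
    (slot i (op f u u)).rank = k ^ (t - 1) := by
  refine le_antisymm (rank_slot_vecMulVec_le i _ _) ?_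
  obtain ⟨z, hz⟩ := exists_pairing hf (v := ![u]) (LinearIndependent.of_subsingleton 0 hu) ![-1]
  have hzu : f z u = 1 := by rw [hf.skew, show f u z = -1 from hz 0, neg_neg]
  obtain ⟨ψ, hψ⟩ := TWreath.exists_dual hu
  let r : Fin t → ℕ := fun l => if l = i then 1 else k
  let C : ∀ l, Matrix (Fin k) (Fin (r l)) F := fun l =>
    Matrix.of fun p q => if l = i then z p else if (p : ℕ) = q then 1 else 0
  let R : ∀ l, Matrix (Fin (r l)) (Fin k) F := fun l =>
    Matrix.of fun q p => if l = i then ψ p else if (q : ℕ) = p then 1 else 0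
  have h : kp (s := fun _ => k) R * (slot i (op f u u) * kp (r := fun _ => k) C) = 1 := by
    rw [slot_eq, pmat_eq_kp, kp_mul, kp_mul, ← kp_one (r := r)]
    congr 1
    funext l
    ext q q'
    by_cases hl : l = i
    · subst hl
      have h1 : r l = 1 := if_pos rfl
      have hq : q = q' := Fin.ext (by have := q.isLt; have := q'.isLt; omega)
      rw [hq, Matrix.one_apply_eq, Function.update_self, Matrix.mul_apply]
      show (fun p => R l q' p) ⬝ᵥ (op f u u *ᵥ fun p => C l p q') = 1
      have e1 : (fun p => R l q' p) = ψ := funext fun p => if_pos rfl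
      have e2 : (fun p => C l p q') = z := funext fun p => if_pos rfl
      rw [e1, e2, op_mulVec hf.bilinear, hzu, one_smul, hψ]
    · have h1 : r l = k := if_neg hl
      rw [Function.update_of_ne hl, Pi.one_apply, Matrix.one_mul, Matrix.mul_apply,
        Finset.sum_eq_single (Fin.cast h1 q) (fun b _ hb => ?_) (by simp)]
      · simp [R, C, Matrix.one_apply, Fin.ext_iff, Fin.val_ne_iff.2 hl]
      · have : ¬((q : ℕ) = b) := fun e => hb (Fin.ext (by simpa using e.symm))
        simp [R, hl, this]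
  have h2 := card_le_rank h
  rw [card_pi_one (k := k) r (fun l hl => if_neg hl), show r i = 1 from if_pos rfl, one_mul] at h2
  exact h2

variable (T : TForm Q f c₀)
include T

/-- A map of pure vectors preserving the polar form preserves the form. -/
lemma iso_of_pure {g : GL (Fin t → Fin k) F}
    (hp : ∀ x, ∃ y, g.val *ᵥ pvec x = pvec y)
    (hg : ∀ x y, polar Q (g.val *ᵥ pvec x) (g.val *ᵥ pvec y) = polar Q (pvec x) (pvec y))
    (z : (Fin t → Fin k) → F) : Q (g.val *ᵥ z) = Q z := by
  classical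
  set G := Matrix.toLin' g.val
  have hG : ∀ a, G (Pi.single a 1) = g.val *ᵥ Pi.single a 1 := fun a => Matrix.toLin'_apply _ _
  have hb : ∀ a b, polar Q (G (Pi.single a 1)) (G (Pi.single b 1)) =
      polar Q (Pi.single a 1) (Pi.single b 1) := fun a b => by
    rw [hG, hG, ← pvec_single, ← pvec_single, hg]
  have hpol : ∀ x y, polar Q (G x) (G y) = polar Q x y := by
    have : ((polarBilin Q).compl₁₂ G G) = polarBilin Q :=
      LinearMap.ext_basis (Pi.basisFun F _) (Pi.basisFun F _) fun a b => by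
        simpa [Pi.basisFun_apply] using hb a b
    intro x y
    simpa using LinearMap.congr_fun (LinearMap.congr_fun this x) y
  have key : ∀ s : Finset (Fin t → Fin k),
      Q (G (∑ a ∈ s, z a • Pi.single a 1)) = Q (∑ a ∈ s, z a • Pi.single a 1) := by
    intro s
    induction s using Finset.induction_on with
    | empty => simp
    | @insert a s ha ih =>
      obtain ⟨y, hy⟩ := hp fun l => Pi.single (a l) 1
      rw [Finset.sum_insert ha, map_add, QuadraticMap.map_add (⇑Q), QuadraticMap.map_add (⇑Q), ih,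
        hpol, map_smul, QuadraticMap.map_smul, QuadraticMap.map_smul, hG, ← pvec_single, hy, T.Q_pvec,
        T.Q_pvec]
  have h := key Finset.univ
  rw [← pi_eq_sum_univ' z] at h
  simpa [G, Matrix.toLin'_apply] using h

lemma pmatGL_iso {g : Fin t → GL (Fin k) F} (hg : ∀ l, g l ∈ isoOf f) (z : (Fin t → Fin k) → F) :
    Q ((pmatGL g).val *ᵥ z) = Q z :=
  iso_of_pure T (fun x => ⟨_, pmat_mulVec_pvec _ _⟩) (fun x y => by
    rw [coe_pmatGL, pmat_mulVec_pvec, pmat_mulVec_pvec, T.polar_pvec, T.polar_pvec]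
    exact congrArg _ (Finset.prod_congr rfl fun l _ => mem_isoOf.1 (hg l) _ _)) z

lemma permGL_iso (σ : Equiv.Perm (Fin t)) (z : (Fin t → Fin k) → F) :
    Q ((permGL σ).val *ᵥ z) = Q z :=
  iso_of_pure T (fun x => ⟨_, permMat_mulVec_pvec _ _⟩) (fun x y => by
    rw [coe_permGL, permMat_mulVec_pvec, permMat_mulVec_pvec, T.polar_pvec, T.polar_pvec]
    exact congrArg _ (Fintype.prod_equiv σ⁻¹ _ _ fun l => rfl)) z

lemma perm_mem_omega {σ : Equiv.Perm (Fin t)} (hσ : σ ∈ alternatingGroup (Fin t)) :
    permGL σ ∈ omegaGL ⇑Q := by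
  let φ : Equiv.Perm (Fin t) →* ↥(Cfsg.isometryGroup F ⇑Q) :=
    MonoidHom.codRestrict permGL _ fun τ u _ => permGL_iso T τ u
  have hcomm : alternatingGroup (Fin t) ≤ (Cfsg.Omega F ⇑Q).comap φ := by
    rw [← Equiv.Perm.closure_three_cycles_eq_alternating, Subgroup.closure_le]
    intro τ hτ
    obtain ⟨a, b, c, hab, hac, hbc, rfl⟩ : ∃ a b c : Fin t, a ≠ b ∧ a ≠ c ∧ b ≠ c ∧
        τ = Equiv.swap a b * Equiv.swap a c * (Equiv.swap a b)⁻¹ * (Equiv.swap a c)⁻¹ := by
      obtain ⟨a, ha⟩ : ∃ a, τ a ≠ a := by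
        by_contra! h
        exact hτ.ne_one (Equiv.ext h)
      have h3 : τ ^ 3 = 1 := by rw [← hτ.orderOf]; exact pow_orderOf_eq_one τ
      have h3' : ∀ x, τ (τ (τ x)) = x := fun x => by
        have := congrArg (fun e : Equiv.Perm (Fin t) => e x) h3
        simpa [pow_succ] using this
      have hne : ∀ x, τ x ≠ x → τ (τ x) ≠ x := fun x hx h => hx (by
        conv_rhs => rw [← h3' x, h])
      refine ⟨a, τ a, τ (τ a), ha.symm, (hne a ha).symm, fun h => ha (τ.injective h).symm, ?_⟩
      have hsupp : τ.support = {a, τ a, τ (τ a)} := by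
        refine (Finset.eq_of_subset_of_card_le ?_ ?_).symm
        · intro x hx
          simp only [Finset.mem_insert, Finset.mem_singleton] at hx
          rcases hx with rfl | rfl | rfl <;> simp [Equiv.Perm.mem_support, ha]
        · rw [hτ.card_support, Finset.card_insert_of_notMem (by simp [ha.symm, (hne a ha).symm]),
            Finset.card_insert_of_notMem (by simpa using fun h => ha (τ.injective h).symm),
            Finset.card_singleton]
      refine Equiv.ext fun x => ?_
      simp only [Equiv.swap_inv, Equiv.Perm.mul_apply]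
      by_cases hx : x ∈ τ.support
      · rw [hsupp] at hx
        simp only [Finset.mem_insert, Finset.mem_singleton] at hx
        have d1 := hne a ha
        have d2 : τ (τ a) ≠ τ a := fun h => ha (τ.injective h)
        rcases hx with rfl | rfl | rfl <;>
          simp [Equiv.swap_apply_def, h3', ha, ha.symm, d1, d1.symm, d2, d2.symm]
      · have hx' := hx
        rw [hsupp] at hx'
        simp only [Finset.mem_insert, Finset.mem_singleton, not_or] at hx'
        rw [Equiv.Perm.notMem_support] at hx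
        simp [Equiv.swap_apply_def, hx'.1, hx'.2.1, hx'.2.2, hx]
    show φ _ ∈ Cfsg.Omega F ⇑Q
    rw [show Cfsg.Omega F ⇑Q = commutator ↥(Cfsg.isometryGroup F ⇑Q) from rfl, map_mul, map_mul, map_mul,
      map_inv, map_inv, ← commutatorElement_def, commutator_def]
    exact Subgroup.commutator_mem_commutator (Subgroup.mem_top _) (Subgroup.mem_top _)
  exact ⟨φ σ, hcomm hσ, rfl⟩

/-- The isometries of one factor lie in `Ω`. -/
lemma slot_mem_omega (hnd : NDPolar Q) (h5 : 5 ≤ k ^ t) (hk : Even k) (i : Fin t) {g : GL (Fin k) F}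
    (hg : g ∈ isoOf f) :
    Units.map (slot (F := F) (k := k) i : Matrix (Fin k) (Fin k) F →* Matrix (Fin t → Fin k) (Fin t → Fin k) F) g
      ∈ omegaGL ⇑Q := by
  refine isoOf_le_of_sTv T.hf (H := (omegaGL ⇑Q).comap (Units.map (slot (F := F) (k := k) i :
    Matrix (Fin k) (Fin k) F →* Matrix (Fin t → Fin k) (Fin t → Fin k) F))) (fun v s => ?_) hg
  have hf := T.hf
  set x := Units.map (slot (F := F) (k := k) i : Matrix (Fin k) (Fin k) F →* Matrix (Fin t → Fin k)
    (Fin t → Fin k) F) (sTv f v s) with hx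
  show x ∈ omegaGL ⇑Q
  have hval : x.val = 1 + s • slot i (op f v v) := by
    show slot i (sTv f v s : Matrix (Fin k) (Fin k) F) = _
    rw [sTv_val_smul hf, map_add, map_one, map_smul]
  refine TensorSymp.mem_omega_of_unipotent hnd (by simpa using h5) (fun z => ?_) ?_ fun h2 => ?_
  · have e : x = pmatGL (Function.update 1 i (sTv f v s)) := Units.ext (by
      rw [coe_pmatGL]
      show slot i _ = _
      rw [slot_eq]
      congr 1
      funext l
      rcases eq_or_ne l i with rfl | hl
      · simp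
      · simp [hl])
    rw [e]
    refine pmatGL_iso T (fun l => ?_) z
    rcases eq_or_ne l i with rfl | hl
    · rw [Function.update_self]; exact sTv_mem_isoOf hf v s
    · rw [Function.update_of_ne hl]; exact (isoOf f).one_mem
  · rw [hval, add_sub_cancel_left, smul_pow, show slot i (op f v v) ^ 3 = slot i (op f v v * op f v v) *
      slot i (op f v v) by rw [map_mul, pow_succ, pow_two], op_mul hf.bilinear, hf.alternating, zero_smul,
      map_zero, zero_mul, smul_zero]
  · have e : Matrix.toLin' x.val - LinearMap.id = Matrix.toLin' (s • slot i (op f v v)) := by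
      rw [hval, map_add, Matrix.toLin'_one, add_sub_cancel_left]
    rw [e]
    rcases eq_or_ne (s • slot i (op f v v)) 0 with h0 | h0
    · rw [h0, map_zero, LinearMap.range_zero, finrank_bot]
      exact ⟨0, rfl⟩
    · obtain ⟨hs, hv⟩ : s ≠ 0 ∧ v ≠ 0 := by
        constructor
        · intro h; exact h0 (by rw [h, zero_smul])
        · intro h
          refine h0 ?_
          rw [h, ← zero_smul F (0 : Fin k → F), op_smul_left, zero_smul, map_zero, smul_zero]
      rw [map_smul, LinearMap.range_smul _ _ hs]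
      show Even (slot i (op f v v)).rank
      rw [rank_slot_op hf i hv]
      exact hk.pow_of_ne_zero (by have := T.two_le; omega)

/-- The gram matrix as an alternating structure. -/
lemma exists_alt (h2 : (2 : F) ≠ 0) :
    ∃ S : Alt F k, (∀ a b, S.ro a b = op f a b) ∧
      (∀ x y, polar Q x y = c₀ * (x ⬝ᵥ (pmat (fun _ : Fin t => S.J) *ᵥ y))) := by
  have hf := T.hf
  have hG : ∀ w, gramMatrix f *ᵥ w = formDual f w := fun w => funext fun j => by
    rw [formDual]
    conv_rhs => rw [pi_eq_sum_univ' w, ← bilinOf_apply hf.bilinear, map_sum]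
    simp only [Matrix.mulVec, dotProduct, gramMatrix, map_smul, bilinOf_apply, smul_eq_mul]
    exact Finset.sum_congr rfl fun i _ => mul_comm _ _
  have hinj : Function.Injective (gramMatrix f).mulVec := by
    intro v w h
    by_contra hne
    obtain ⟨⟨x, hx⟩, -⟩ := hf.nondegenerate (v - w) (sub_ne_zero.2 hne)
    refine hx ?_
    rw [← formDual_dot hf.bilinear, ← hG, Matrix.mulVec_sub, h, sub_self, zero_dotProduct]
  have hdet : IsUnit (gramMatrix f).det :=
    (Matrix.isUnit_iff_isUnit_det _).1 (Matrix.mulVec_injective_iff_isUnit.1 hinj)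
  refine ⟨⟨gramMatrix f, (gramMatrix f)⁻¹, Matrix.ext fun a b => hf.skew _ _,
    Matrix.nonsing_inv_mul _ hdet, h2⟩, fun a b => ?_, ?_⟩
  · rw [Alt.ro, op, hG]
  · have key : polarBilin Q = c₀ • (Matrix.toLinearMap₂' F (pmat fun _ : Fin t => gramMatrix f)) := by
      refine LinearMap.ext_basis (Pi.basisFun F _) (Pi.basisFun F _) fun a b => ?_
      simp only [Pi.basisFun_apply, LinearMap.smul_apply, smul_eq_mul]
      rw [polarBilin_apply_apply, Matrix.toLinearMap₂'_apply', Matrix.mulVec_single_one, single_dotProduct,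
        one_mul, Matrix.col_apply, pmat_apply, ← pvec_single, ← pvec_single, T.polar_pvec]
      rfl
    intro x y
    have := LinearMap.congr_fun (LinearMap.congr_fun key x) y
    rw [LinearMap.smul_apply, LinearMap.smul_apply, Matrix.toLinearMap₂'_apply', smul_eq_mul] at this
    simpa using this

/-- Without moving members in odd characteristic the group lies in the wreath group. -/
lemma odd_mem_std (hle : M ≤ omegaGL ⇑Q) (hM : Slots f M) (h2 : (2 : F) ≠ 0) (hk2 : k = 2 ∨ 4 ≤ k)
    (hbig : 5 ≤ Fintype.card F ∨ 4 ≤ k) (hno : NoMove f M) {m₀ : GL (Fin t → Fin k) F} (hm₀ : m₀ ∈ M) :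
    m₀ ∈ tensorWreathStandard k t F := by
  obtain ⟨S, hro, hform⟩ := exists_alt T h2
  have hiso : ∀ g : GL (Fin k) F, S.adj g.val * g.val = 1 → g ∈ isoOf f := fun g hg => by
    rw [mem_isoOf]
    intro x y
    have e : ∀ a b, f a b = S.om a b := fun a b => by
      have h := congrArg (fun Z => Z *ᵥ a) (hro (Pi.single ⟨0, by omega⟩ 1) b)
      simp only [S.ro_mulVec, op_mulVec T.hf.bilinear] at h
      exact (smul_left_injective F (by simp : (Pi.single (⟨0, by omega⟩ : Fin k) (1 : F) : Fin k → F) ≠ 0) h).symm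
    rw [e, e, S.om_adj, Matrix.mulVec_mulVec, hg, Matrix.one_mulVec]
  have hOver : Over S M := by
    refine ⟨fun g hg => ?_, fun i X hX => ?_⟩
    · rw [S.mem_Iso]
      show pmat (fun _ : Fin t => S.Ji) * g.valᵀ * pmat (fun _ => S.J) * g.val = 1
      have h1 : g.valᵀ * pmat (fun _ : Fin t => S.J) * g.val = pmat (fun _ : Fin t => S.J) := by
        refine Matrix.ext fun a b => mul_left_cancel₀ T.c_ne ?_
        have hentry : ∀ A : Matrix (Fin t → Fin k) (Fin t → Fin k) F,
            A a b = Pi.single a 1 ⬝ᵥ A *ᵥ Pi.single b 1 := fun A => by simp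
        rw [hentry (g.valᵀ * _ * g.val), hentry (pmat _), ← hform,
          ← OmS.omega_polar (hle hg) (Pi.single a 1) (Pi.single b 1), hform, mul_assoc,
          ← Matrix.mulVec_mulVec _ g.valᵀ, Matrix.dotProduct_mulVec (Pi.single a 1),
          Matrix.vecMul_transpose, Matrix.mulVec_mulVec]
      rw [mul_assoc _ (g.valᵀ), mul_assoc, h1, S.pmat_Ji_mul_J]
    · let g : GL (Fin k) F := ⟨X, S.adj X, mul_eq_one_comm.1 hX, hX⟩
      exact ⟨_, hM i g (hiso g hX), rfl⟩
  refine mem_std_of_noUp hOver ?_ hbig hk2 (by have := T.two_le; omega) hm₀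
  intro i w X hw hmv
  have hR : slot i (S.R w) * X * slot i (S.R w) =
      slot i (S.R w) * blk i (S.J *ᵥ w) w X := sandwich_blk i w (S.J *ᵥ w) w (S.J *ᵥ w) X
  obtain ⟨m, hm, hmeq⟩ := hmv
  have hcm : Cm (slot (F := F) (k := k) i) (blk i (S.J *ᵥ w) w X) := fun Y => blk_comm i _ _ X Y
  obtain ⟨c, hc⟩ := hno i w _ hw hcm ⟨m, hm, by rw [hmeq, hR, Alt.R, hro]⟩
  exact ⟨c, by rw [hR, hc, ← Algebra.commutes, Algebra.smul_def]⟩

/-- The alternatives for a subgroup of `Ω` containing the even stabiliser. -/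
theorem std_or_omega (hnd : NDPolar Q) (R : Frame Q) (hle : M ≤ omegaGL ⇑Q) (hM : Slots f M)
    (hP : Perms M) (hk : 2 ≤ k) (hke : Even k) (hodd : (2 : F) ≠ 0 → Even t ∧ (k = 2 → 4 ≤ Fintype.card F ∧ 3 ≤ t))
    (heven : (2 : F) = 0 → 6 ≤ k) :
    (∀ g ∈ M, g ∈ tensorWreathStandard k t F) ∨ omegaGL ⇑Q ≤ M := by
  by_cases hno : NoMove f M
  · left
    intro g hg
    by_cases h2 : (2 : F) = 0
    · exact EvenHyp.mem_std ⟨T, hle, hM, hno, h2, heven h2⟩ hg
    · obtain ⟨-, hk2⟩ := hodd h2
      obtain ⟨r, hr⟩ := hke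
      refine odd_mem_std T hle hM h2 (by omega) ?_ hno hg
      by_cases hk' : k = 2
      · refine Or.inl ?_
        by_contra hq
        have := (hk2 hk').1
        have h4 : Fintype.card F = 4 := by omega
        obtain ⟨p, hp⟩ := CharP.exists F
        obtain ⟨n, hpp, hn⟩ := FiniteField.card F p
        rw [h4] at hn
        have : p ∣ 4 := hn ▸ dvd_pow_self p n.ne_zero
        have : p = 2 := by
          have := (Nat.prime_dvd_prime_iff_eq hpp Nat.prime_two).1
            (hpp.dvd_of_dvd_pow (show p ∣ 2 ^ 2 by simpa using ‹p ∣ 4›))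
          exact this
        subst this
        exact h2 (by exact_mod_cast CharP.cast_eq_zero F 2)
      · exact Or.inr (by omega)
  · right
    simp only [NoMove, not_forall, not_exists] at hno
    obtain ⟨i, u, S, hu, hS, hm, hns⟩ := hno
    have hsign : (-1 : F) ^ t = 1 := by
      by_cases h2 : (2 : F) = 0
      · rw [show (-1 : F) = 1 by linear_combination -h2, one_pow]
      · exact (hodd h2).1.neg_one_pow
    refine omega_le_of_up T hnd R hle hM hP hk ?_ ?_ hsign ?_ hu hS hm hns
    · by_cases h2 : (2 : F) = 0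
      · exact Or.inl (by have := heven h2; omega)
      · rcases eq_or_lt_of_le hk with h | h
        · exact Or.inr (by have := ((hodd h2).2 h.symm).1; omega)
        · exact Or.inl h
    · by_cases h2 : (2 : F) = 0
      · exact Or.inr (by have := heven h2; omega)
      · exact Or.inl h2
    · intro hk'
      have h2 : (2 : F) ≠ 0 := fun h2 => by have := heven h2; omega
      exact ⟨(hodd h2).1, ((hodd h2).2 hk').2⟩

/-- Some member of `Ω` moves the decomposition. -/
lemma exists_not_std (hnd : NDPolar Q) (R : Frame Q) (hk : 2 ≤ k) (hk3 : 3 ≤ k ∨ 3 ≤ t) :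
    ∃ h ∈ omegaGL ⇑Q, h ∉ tensorWreathStandard k t F := by
  classical
  have hf := T.hf
  let e : Fin k → F := Pi.single ⟨0, by omega⟩ 1
  have he : e ≠ 0 := by simp [e]
  obtain ⟨g, hg⟩ := exists_pairing hf (v := ![e]) (LinearIndependent.of_subsingleton 0 he) ![-1]
  have hge : f g e = 1 := by rw [hf.skew, show f e g = -1 from hg 0, neg_neg]
  have hg0 : g ≠ 0 := fun h => one_ne_zero (α := F) (by rw [← hge, h, form_zero_left hf.bilinear])
  let i₀ : Fin t := ⟨0, by have := T.two_le; omega⟩
  let i₁ : Fin t := ⟨1, by have := T.two_le; omega⟩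
  have h01 : i₀ ≠ i₁ := by simp [i₀, i₁, Fin.ext_iff]
  -- a second vector meeting two factors
  obtain ⟨w, hw₀, hw₁, hxw, hpw, hwne⟩ : ∃ w : Fin t → Fin k → F, w i₀ = e ∧
      LinearIndependent F ![g, w i₁] ∧ polar Q (pvec fun _ => g) (pvec w) = 0 ∧
      polar Q (pvec fun _ => e) (pvec w) = 0 ∧ ∀ l, w l ≠ 0 := by
    by_cases ht : 3 ≤ t
    · let i₂ : Fin t := ⟨2, by omega⟩
      refine ⟨fun l => if l = i₂ then g else e, ?_, ?_, ?_, ?_, fun l => ?_⟩
      · simp [i₀, i₂, Fin.ext_iff]
      · show LinearIndependent F ![g, if i₁ = i₂ then g else e]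
        rw [show (if i₁ = i₂ then g else e) = e by simp [i₁, i₂, Fin.ext_iff]]
        exact (LinearIndependent.pair_iff' hg0).2 fun s hs => zero_ne_one (α := F) (by
          rw [← hge, ← hs, hf.bilinear.smul_right, hf.alternating, mul_zero])
      · exact T.orth i₂ (by simp [hf.alternating])
      · exact T.orth i₀ (by simp [i₀, i₂, Fin.ext_iff, hf.alternating])
      · show (if l = i₂ then g else e) ≠ 0
        split_ifs <;> assumption
    · have hk' : 3 ≤ k := hk3.resolve_right ht
      obtain ⟨y, hy, hyn⟩ := exists_orth_extend hf.bilinear ![g] (by rw [Fintype.card_fin]; omega)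
      refine ⟨Function.update (fun _ => e) i₁ y, Function.update_of_ne h01 _ _, ?_, ?_, ?_, fun l => ?_⟩
      · rw [Function.update_self]
        exact (LinearIndependent.pair_iff' hg0).2 fun s hs =>
          hyn (by rw [← hs]; exact Submodule.smul_mem _ _ (Submodule.subset_span ⟨0, rfl⟩))
      · exact T.orth i₁ (by rw [Function.update_self]; exact hy 0)
      · exact T.orth i₀ (by rw [Function.update_of_ne h01]; exact hf.alternating e)
      · rcases eq_or_ne l i₁ with rfl | hl
        · rw [Function.update_self]; exact fun h => hyn (h ▸ Submodule.zero_mem _)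
        · rw [Function.update_of_ne hl]; exact he
  obtain ⟨h, hh, hsg⟩ := OmS.exists_sg hnd R (T.Q_pvec fun _ => e) hpw
  refine ⟨h, hh, fun hstd => ?_⟩
  obtain ⟨σ, A, hA⟩ := mem_std_iff.1 hstd
  have himg := hsg (pvec fun _ => g)
  rw [T.polar_pvec, Finset.prod_eq_one (fun l _ => hge), mul_one, hxw, T.Q_pvec, neg_zero, zero_mul,
    sub_zero, zero_smul, add_zero, hA, Units.val_mul, coe_pmatGL, coe_permGL, ← mulVec_mulVec,
    permMat_mulVec_pvec, pmat_mulVec_pvec] at himg
  obtain ⟨v, hv⟩ : ∃ v, pvec v = pvec (fun _ : Fin t => g) + c₀ • pvec w := ⟨_, himg⟩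
  -- functionals separating the two summands
  have hli₀ : LinearIndependent F ![g, e] := (LinearIndependent.pair_iff' hg0).2 fun s hs =>
    zero_ne_one (α := F) (by rw [← hge, ← hs, hf.bilinear.smul_right, hf.alternating, mul_zero])
  obtain ⟨a₀, ha₀⟩ := exists_pairing hf hli₀ ![1, 0]
  obtain ⟨b₀, hb₀⟩ := exists_pairing hf hli₀ ![0, 1]
  obtain ⟨a₁, ha₁⟩ := exists_pairing hf hw₁ ![1, 0]
  obtain ⟨b₁, hb₁⟩ := exists_pairing hf hw₁ ![0, 1]
  choose d hd using fun l : Fin t => show ∃ d, f g d ≠ 0 ∧ f (w l) d ≠ 0 by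
    have hwl := hwne l
    obtain ⟨x, hx⟩ := exists_pairing hf (v := ![w l]) (LinearIndependent.of_subsingleton 0 hwl) ![1]
    have hx' : f (w l) x = 1 := hx 0
    by_cases h1 : f g x = 0
    · by_cases h2 : f (w l) e = 0
      · exact ⟨x + e, by rw [hf.bilinear.add_right, h1, hge, zero_add]; exact one_ne_zero,
          (by rw [hf.bilinear.add_right, hx', h2, add_zero]; exact one_ne_zero)⟩
      · exact ⟨e, by rw [hge]; exact one_ne_zero, h2⟩
    · exact ⟨x, h1, by rw [hx']; exact one_ne_zero⟩
  let ev : (Fin k → F) → (Fin k → F) → Fin t → Fin k → F := fun a b =>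
    Function.update (Function.update (fun l => formDual f (d l)) i₀ (formDual f a)) i₁ (formDual f b)
  have hev : ∀ a b (x : Fin t → Fin k → F), pvec (ev a b) ⬝ᵥ pvec x =
      f (x i₀) a * f (x i₁) b * ∏ n ∈ (Finset.univ.erase i₀).erase i₁, f (x n) (d n) := fun a b x => by
    rw [pvec_dot₂ h01, formDual_dot hf.bilinear, formDual_dot hf.bilinear]
    congr 1
    exact Finset.prod_congr rfl fun n _ => formDual_dot hf.bilinear _ _
  set G := ∏ n ∈ (Finset.univ.erase i₀).erase i₁, f g (d n)
  set W := ∏ n ∈ (Finset.univ.erase i₀).erase i₁, f (w n) (d n)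
  set V := ∏ n ∈ (Finset.univ.erase i₀).erase i₁, f (v n) (d n)
  have key : ∀ a b, f (v i₀) a * f (v i₁) b * V = f g a * f g b * G + c₀ * (f e a * f (w i₁) b * W) := by
    intro a b
    rw [← hev, hv, dotProduct_add, dotProduct_smul, hev, hev, hw₀, smul_eq_mul]
  have kaa := key a₀ a₁
  have kbb := key b₀ b₁
  have kab := key a₀ b₁
  rw [show f g a₀ = 1 from ha₀ 0, show f g a₁ = 1 from ha₁ 0, show f e a₀ = 0 from ha₀ 1,
    show f (w i₁) a₁ = 0 from ha₁ 1] at kaa
  rw [show f g b₀ = 0 from hb₀ 0, show f g b₁ = 0 from hb₁ 0, show f e b₀ = 1 from hb₀ 1,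
    show f (w i₁) b₁ = 1 from hb₁ 1] at kbb
  rw [show f g a₀ = 1 from ha₀ 0, show f g b₁ = 0 from hb₁ 0, show f e a₀ = 0 from ha₀ 1,
    show f (w i₁) b₁ = 1 from hb₁ 1] at kab
  simp only [one_mul, mul_one, zero_mul, mul_zero, add_zero, zero_add] at kaa kbb kab
  have hG : G ≠ 0 := Finset.prod_ne_zero_iff.2 fun n _ => (hd n).1
  have hW : W ≠ 0 := Finset.prod_ne_zero_iff.2 fun n _ => (hd n).2
  rcases mul_eq_zero.1 kab with h0 | h0
  · rcases mul_eq_zero.1 h0 with h1 | h1
    · rw [h1, zero_mul, zero_mul] at kaa; exact hG kaa.symm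
    · rw [h1, mul_zero, zero_mul] at kbb; exact mul_ne_zero T.c_ne hW kbb.symm
  · rw [h0, mul_zero] at kaa; exact hG kaa.symm

end CfsgLib.ClassicalMax.TWMax
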