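/-
Stabilisers of symplectic tensor powers are maximal in the simple orthogonal group of plus type.
-/
import Cfsg.Agent.Lib.ClassicalMax.TWMax.Glue
import Cfsg.Agent.Lib.ClassicalMax.OrthEven
import Cfsg.Agent.Lib.ClassicalMax.TensorTools
import Cfsg.Agent.Lib.ClassicalMax.SympTools
import Cfsg.Agent.Lib.Aschbacher.Forms
set_option autoImplicit false
set_option linter.unusedSectionVars false

namespace CfsgLib.ClassicalMax.TWMax

open Matrix Cfsg.Geo QuadraticMap CfsgLib.ClassicalMax.TWreath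
open CfsgLib.Classical.Quad (NDPolar Frame)

variable {F : Type*} [Field F] [DecidableEq F] [Fintype F] {t k : ℕ}

/-- The change of coordinates to the tensor power. -/
def powerCoord {ι : Type} [Fintype ι] [DecidableEq ι] (e : ι ≃ (Fin t → Fin k)) (P : GL ι F) :
    ((Fin t → Fin k) → F) ≃ₗ[F] (ι → F) :=
  (LinearEquiv.funCongrLeft F F e).trans
    { Matrix.toLin' (P : Matrix ι ι F) with
      invFun := fun x => ((P⁻¹ : GL ι F) : Matrix ι ι F) *ᵥ x
      left_inv := fun x => by
        show _ *ᵥ Matrix.toLin' _ x = _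
        rw [Matrix.toLin'_apply, gl_inv_mulVec_mulVec]
      right_inv := fun x => by
        show Matrix.toLin' _ _ = _
        rw [Matrix.toLin'_apply, gl_mulVec_inv_mulVec] }

lemma powerCoord_apply {ι : Type} [Fintype ι] [DecidableEq ι] (e : ι ≃ (Fin t → Fin k)) (P : GL ι F)
    (z : (Fin t → Fin k) → F) : powerCoord e P z = (P : Matrix ι ι F) *ᵥ (z ∘ e) := by
  show Matrix.toLin' _ _ = _
  rw [Matrix.toLin'_apply]
  rfl

/-- The product of a tensor power of a form on pure vectors. -/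
lemma sum_gram_pvec {f : (Fin k → F) → (Fin k → F) → F} (hf : IsSymplecticForm f)
    (x y : Fin t → Fin k → F) :
    ∑ a, ∑ b, pvec x a * (∏ i, gramMatrix f (a i) (b i)) * id (pvec y b) = ∏ l, f (x l) (y l) := by
  classical
  have hb := hf.bilinear
  calc ∑ a, ∑ b, pvec x a * (∏ i, gramMatrix f (a i) (b i)) * id (pvec y b)
      = ∑ a : Fin t → Fin k, ∑ b : Fin t → Fin k, ∏ i, x i (a i) * gramMatrix f (a i) (b i) * y i (b i) := by
        refine Finset.sum_congr rfl fun a _ => Finset.sum_congr rfl fun b _ => ?_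
        simp only [id, pvec, ← Finset.prod_mul_distrib]
    _ = ∏ l, formOfGram id (gramMatrix f) (x l) (y l) := by
        unfold formOfGram
        simp only [Fintype.prod_sum, id]
    _ = _ := Finset.prod_congr rfl fun l _ =>
        Tensor.formOfGram_gram hb.add_left hb.smul_left hb.add_right hb.smul_right _ _

/-- Stabilisers of symplectic tensor powers are maximal in `Ω`. -/
theorem symp_power_maximal {ι : Type} [Fintype ι] [DecidableEq ι] {Q : QuadraticForm F (ι → F)}
    (hnd : NDPolar Q) (e : ι ≃ (Fin t → Fin k)) (P : GL ι F) {f : (Fin k → F) → (Fin k → F) → F}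
    (hf : IsSymplecticForm f) (hT : IsTensorPowerFormStructure id (polar ⇑Q) f e P)
    (hpure : ∀ x, Q ((P : Matrix ι ι F) *ᵥ (pvec x ∘ e)) = 0) (ht : 2 ≤ t) (hn : 13 ≤ Fintype.card ι)
    (hqt : Odd (Fintype.card F) → Even t) (h22 : ¬(Fintype.card F = 3 ∧ k = 2))
    (h6 : ¬ Odd (Fintype.card F) → 6 ≤ k) :
    IsMaximalIn (omegaGL ⇑Q) (tensorWreathSubgroup k t e P ⊓ omegaGL ⇑Q) := by
  obtain ⟨c, hc, hform⟩ := hT
  have hcard : Fintype.card ι = k ^ t := by rw [Fintype.card_congr e]; simp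
  have hke : Even k := by simpa using Asch.symplectic_even hf
  have hk : 2 ≤ k := by
    obtain ⟨r, hr⟩ := hke
    rcases Nat.eq_zero_or_pos k with h | h
    · rw [hcard, h, zero_pow (by omega)] at hn
      omega
    · omega
  have hkt : k = 2 → 4 ≤ t := fun h => by
    by_contra hlt
    have : k ^ t ≤ 2 ^ 3 := by rw [h]; exact Nat.pow_le_pow_right (by norm_num) (by omega)
    omega
  have hodd : (2 : F) ≠ 0 → Odd (Fintype.card F) := fun h2 => by
    have hr : ringChar F ≠ 2 := fun hc => h2 (by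
      haveI : CharP F 2 := hc ▸ ringChar.charP F
      exact_mod_cast CharP.cast_eq_zero F 2)
    exact Nat.odd_iff.2 (FiniteField.odd_card_of_char_ne_two hr)
  have heven : (2 : F) = 0 → 6 ≤ k := fun h2 => h6 (by
    haveI : CharP F 2 := OrthCrit.charP_two_of h2
    rw [Nat.not_odd_iff]
    exact FiniteField.even_card_of_char_two (ringChar.eq F 2))
  set L := powerCoord e P
  let Q₀ : QuadraticForm F ((Fin t → Fin k) → F) := Q.comp L.toLinearMap
  have hQ₀ : ∀ z, Q₀ z = Q (L z) := fun z => rfl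
  have hpol₀ : ∀ z z', polar Q₀ z z' = polar Q (L z) (L z') := fun z z' => by
    simp only [polar, hQ₀, map_add]
  have hnd₀ : NDPolar Q₀ := fun x hx => L.map_eq_zero_iff.1 (hnd _ fun y => by
    rw [← L.apply_symm_apply y, ← hpol₀]; exact hx _)
  have T : TForm Q₀ f c :=
    { hf := hf
      c_ne := hc
      polar_pvec := fun x y => by
        rw [hpol₀, powerCoord_apply, powerCoord_apply, hform, sum_gram_pvec hf]
      Q_pvec := fun x => by rw [hQ₀, powerCoord_apply]; exact hpure x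
      two_le := ht }
  set Φ : GL (Fin t → Fin k) F ≃* GL ι F := (glReindex e.symm).trans (MulAut.conj P) with hΦ
  have hΦL : ∀ g z, (Φ g : Matrix ι ι F) *ᵥ L z = L ((g : Matrix _ _ F) *ᵥ z) := fun g z => by
    rw [powerCoord_apply, powerCoord_apply]
    change ((P * glReindex e.symm g * P⁻¹ : GL ι F) : Matrix ι ι F) *ᵥ _ = _
    rw [gl_mulVec_mul, gl_mulVec_mul, gl_inv_mulVec_mulVec]
    congr 1
    show (g.val.submatrix e.symm.symm e.symm.symm) *ᵥ (z ∘ e) = _
    rw [Matrix.submatrix_mulVec_equiv]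
    simp [Function.comp_assoc]
  have hI : (Cfsg.isometryGroup F ⇑Q₀).map Φ.toMonoidHom = Cfsg.isometryGroup F ⇑Q := by
    refine le_antisymm ?_ fun g hg => ?_
    · rintro _ ⟨m, hm, rfl⟩ u -
      show Q ((Φ m : Matrix ι ι F) *ᵥ u) = Q u
      rw [← L.apply_symm_apply u, hΦL, ← hQ₀, ← hQ₀]
      exact hm _ 0
    · refine ⟨Φ.symm g, fun u _ => ?_, Φ.apply_symm_apply g⟩
      show Q₀ ((Φ.symm g : GL _ F).val *ᵥ u) = Q₀ u
      rw [hQ₀, hQ₀, ← hΦL, Φ.apply_symm_apply]
      exact hg _ 0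
  have hΩ : (omegaGL ⇑Q₀).map Φ.toMonoidHom = omegaGL ⇑Q := by
    show ((commutator _).map _).map _ = (commutator _).map _
    rw [Subgroup.map_subtype_commutator, Subgroup.map_subtype_commutator, Subgroup.map_commutator, hI]
  have hΩmem : ∀ m, Φ m ∈ omegaGL ⇑Q ↔ m ∈ omegaGL ⇑Q₀ := fun m => by
    rw [← hΩ]
    exact Subgroup.mem_map_iff_mem Φ.injective
  have hstd : ∀ g, Φ g ∈ tensorWreathSubgroup k t e P ↔ g ∈ tensorWreathStandard k t F := fun g => by
    rw [hΦ, tensorWreathSubgroup, MulEquiv.trans_apply]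
    exact (Subgroup.mem_map_iff_mem (MulAut.conj P).injective).trans
      (Subgroup.mem_map_iff_mem (glReindex e.symm).injective)
  have h5 : 5 ≤ k ^ t := by omega
  obtain ⟨⟨R⟩, -⟩ := OmE.exists_frame hnd₀ (by simp; omega)
  refine isMaximalIn_of inf_le_right ?_ ?_
  · obtain ⟨h, hh, hhn⟩ := exists_not_std T hnd₀ R hk (by
      by_cases h2 : k = 2
      · exact Or.inr (by have := hkt h2; omega)
      · exact Or.inl (by omega))
    exact ⟨Φ h, (hΩmem h).2 hh, fun hm => hhn ((hstd h).1 hm.1)⟩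
  intro M hHM hMK g hgM hgH
  set M₀ := M.comap Φ.toMonoidHom with hM₀
  have hle : M₀ ≤ omegaGL ⇑Q₀ := fun m hm => (hΩmem m).1 (hMK hm)
  have hin : ∀ m ∈ omegaGL ⇑Q₀, m ∈ tensorWreathStandard k t F → m ∈ M₀ := fun m hm hs =>
    hHM ⟨(hstd m).2 hs, (hΩmem m).2 hm⟩
  have hM : Slots f M₀ := fun i m hm => hin _ (slot_mem_omega T hnd₀ h5 hke i hm)
    (exists_units (σ := 1) (A := Function.update 1 i m.val) (by rw [permMat_one, mul_one]; rfl))
  have hP : Perms M₀ := fun σ hσ => hin _ (perm_mem_omega T hσ) (permGL_mem_std σ)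
  rcases std_or_omega T hnd₀ R hle hM hP hk hke (fun h2 => ⟨hqt (hodd h2), fun hk2 => ⟨by
      have := Fintype.one_lt_card (α := F)
      obtain ⟨r, hr⟩ := hodd h2
      have : Fintype.card F ≠ 3 := fun hq => h22 ⟨hq, hk2⟩
      omega, by have := hkt hk2; omega⟩⟩) heven with hall | hbig
  · refine absurd ?_ hgH
    have hg₀ : Φ.symm g ∈ M₀ := by
      rw [hM₀, Subgroup.mem_comap, MulEquiv.coe_toMonoidHom, Φ.apply_symm_apply]; exact hgM
    exact ⟨Φ.apply_symm_apply g ▸ (hstd _).2 (hall _ hg₀), hMK hgM⟩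
  · intro y hy
    have := hbig (show Φ.symm y ∈ omegaGL ⇑Q₀ from
      (hΩmem _).1 (by rw [Φ.apply_symm_apply]; exact hy))
    rwa [hM₀, Subgroup.mem_comap, MulEquiv.coe_toMonoidHom, Φ.apply_symm_apply] at this

end CfsgLib.ClassicalMax.TWMax
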